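import Cfsg.Agent.H26.Asch.ClassData
import Cfsg.Agent.H14.Asch.RankOne

/-!
First consequences of `ClassData`: conjugation on `R / N`, the cocycle of the classes, and the
elements acting trivially on `K / N`.
-/

set_option autoImplicit false
set_option linter.style.haveILetI false

namespace Cfsg.Agent.H26.Asch

open Subgroup MulAction
open Cfsg.Agent.H6.Asch (normAt centAt)
open scoped commutatorElement Pointwise

universe u v

variable {G : Type u} [Group G] {Ω : Type v} [MulAction G Ω]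

theorem mem_centAt' {x : Ω} {E : Subgroup G} {g : G} :
    g ∈ centAt x E ↔ g • x = x ∧ ∀ e ∈ E, g * e * g⁻¹ = e := by
  rw [centAt, mem_inf, mem_stabilizer_iff, mem_centralizer_iff]
  refine and_congr Iff.rfl ⟨fun hc e he => ?_, fun hc e he => ?_⟩
  · rw [← hc e he, mul_inv_cancel_right]
  · exact (mul_inv_eq_iff_eq_mul.mp (hc e he)).symm

theorem centAt_le_normAt' (x : Ω) (E : Subgroup G) : centAt x E ≤ normAt x E := by
  intro g hg
  obtain ⟨hgx, hge⟩ := mem_centAt'.mp hg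
  obtain ⟨-, hge'⟩ := mem_centAt'.mp (inv_mem hg)
  refine mem_inf.mpr ⟨mem_stabilizer_iff.mpr hgx, mem_normalizer_iff.mpr fun e => ⟨fun he => ?_, fun he => ?_⟩⟩
  · rwa [hge e he]
  · have h1 := hge' _ he
    rw [show g⁻¹ * (g * e * g⁻¹) * g⁻¹⁻¹ = e by group] at h1
    rwa [h1]

/-- The elements of `classGroup` acting trivially on `K / N`. -/
def TrivTop (x : Ω) (E R K N : Subgroup G) (g : G) : Prop :=
  g ∈ classGroup x E R ∧ ∀ k ∈ K, ⁅g, k⁆ ∈ N

namespace ClassData

variable {u : G} {x : Ω} {E R K N A : Subgroup G} (h : ClassData u x E R K N A)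
include h

theorem R_le_classGroup : R ≤ classGroup x E R :=
  le_inf (h.R_le.trans (centAt_le_normAt' x E)) le_normalizer

theorem N_le_R : N ≤ R := h.N_le.trans h.K_le

theorem u_inv : u⁻¹ = u := inv_eq_of_mul_eq_one_right h.sq_u

theorem commutator_mem {a b : G} (ha : a ∈ R) (hb : b ∈ R) : ⁅a, b⁆ ∈ N := by
  rw [show ⁅a, b⁆ = a * a * (a⁻¹ * b * (a⁻¹ * b)) * (b⁻¹ * b⁻¹) by
    rw [commutatorElement_def]; group]
  exact N.mul_mem (N.mul_mem (h.sq_mem a ha) (h.sq_mem _ (R.mul_mem (R.inv_mem ha) hb)))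
    (h.sq_mem _ (R.inv_mem hb))

theorem conj_mem_K {r k : G} (hr : r ∈ R) (hk : k ∈ K) : r * k * r⁻¹ ∈ K := by
  rw [show r * k * r⁻¹ = ⁅r, k⁆ * k by rw [commutatorElement_def]; group]
  exact K.mul_mem (h.N_le (h.commutator_mem hr (h.K_le hk))) hk

theorem conj_N {g n : G} (hg : g ∈ classGroup x E R) (hn : n ∈ N) : g * n * g⁻¹ ∈ N :=
  h.N_invariant g hg n hn

/-- The cocycle of the classes. -/
theorem class_mul (g g' : G) :
    g * g' * u * (g * g')⁻¹ * u = g * (g' * u * g'⁻¹ * u) * g⁻¹ * (g * u * g⁻¹ * u) := by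
  calc g * g' * u * (g * g')⁻¹ * u = g * g' * u * g'⁻¹ * g⁻¹ * u := by group
    _ = g * g' * u * g'⁻¹ * (u * u) * g⁻¹ * u := by rw [h.sq_u, mul_one]
    _ = _ := by group

theorem class_A {a : G} (ha : a ∈ A) : a * u * a⁻¹ * u = 1 := by
  rw [(h.A_commute a ha).eq, mul_inv_cancel_right, h.sq_u]

theorem exists_ne_top [Finite G] : ∃ k ∈ K, k ∉ N := by
  by_contra hc
  push Not at hc
  have h1 : Nat.card K ≤ Nat.card N :=
    Nat.card_le_card_of_injective (Subgroup.inclusion (show K ≤ N from hc))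
      (Subgroup.inclusion_injective _)
  rw [h.card_K] at h1
  have h4 := h.four_le
  have h0 : 0 < Nat.card N := Nat.card_pos
  nlinarith

theorem trivTop_of_mem {r : G} (hr : r ∈ R) : TrivTop x E R K N r :=
  ⟨h.R_le_classGroup hr, fun _ hk => h.commutator_mem hr (h.K_le hk)⟩

theorem trivTop_mul {g g' : G} (hg : TrivTop x E R K N g) (hg' : TrivTop x E R K N g') :
    TrivTop x E R K N (g * g') := by
  refine ⟨(classGroup x E R).mul_mem hg.1 hg'.1, fun k hk => ?_⟩
  rw [show ⁅g * g', k⁆ = g * ⁅g', k⁆ * g⁻¹ * ⁅g, k⁆ by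
    simp only [commutatorElement_def]; group]
  exact N.mul_mem (h.conj_N hg.1 (hg'.2 k hk)) (hg.2 k hk)

theorem trivTop_inv {g : G} (hg : TrivTop x E R K N g) : TrivTop x E R K N g⁻¹ := by
  refine ⟨(classGroup x E R).inv_mem hg.1, fun k hk => ?_⟩
  rw [show ⁅g⁻¹, k⁆ = g⁻¹ * ⁅g, k⁆⁻¹ * g by simp only [commutatorElement_def]; group]
  have h1 := h.conj_N ((classGroup x E R).inv_mem hg.1) (N.inv_mem (hg.2 k hk))
  rwa [inv_inv] at h1

/-- `C(E)` meet `C(u)` acts trivially on `K / N`. -/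
theorem trivTop_cent {c : G} (hc : c ∈ classGroup x E R) (hcE : c ∈ centAt x E)
    (hcu : Commute c u) : TrivTop x E R K N c := ⟨hc, h.cent_triv c hc hcE hcu⟩

theorem eq_mul_of_cases {g : G} (hg : g ∈ R) : ∃ k ∈ K, g = k ∨ g = k * u := by
  rcases h.K_cases g hg with h1 | h1
  · exact ⟨g, h1, Or.inl rfl⟩
  · exact ⟨g * u, h1, Or.inr (by rw [mul_assoc, h.sq_u, mul_one])⟩

/-- Elements whose classes lie in one coset of `N` differ by an element centralising `u`, up to
`R`. -/
theorem exists_split {g : G} (hg : g ∈ classGroup x E R) (hN : g * u * g⁻¹ * u ∈ N) :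
    ∃ c ∈ R, Commute (c⁻¹ * g) u := by
  obtain ⟨c, hc, hcu⟩ := h.filled _ hN g hg (by rw [mul_assoc _ u u, h.sq_u, mul_one])
  refine ⟨c, hc, mul_inv_eq_iff_eq_mul.mp ?_⟩
  rw [show c⁻¹ * g * u * (c⁻¹ * g)⁻¹ = c⁻¹ * (g * u * g⁻¹) * c by group, hcu]
  group

/-- An element of `A` acting trivially on `K / N` centralises `E`, and conversely. -/
theorem trivTop_iff_centAt [Finite G] {a : G} (ha : a ∈ A) :
    TrivTop x E R K N a ↔ a ∈ centAt x E := by
  classical
  refine ⟨fun hT => ?_, fun hE => h.trivTop_cent (h.A_le ha) hE (h.A_commute a ha)⟩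
  obtain ⟨e₁, he₁, he₁1⟩ : ∃ e ∈ E, e ≠ 1 := by
    by_contra hc
    push Not at hc
    have h4 := h.four_le
    rw [show Nat.card E = 1 from (Subgroup.eq_bot_iff_card E).mp ((Subgroup.eq_bot_iff_forall E).mpr hc)] at h4
    omega
  obtain ⟨k₀, hk₀, hk₀N⟩ := h.exists_ne_top
  set AE : Subgroup A := (centAt x E).subgroupOf A with hAE
  set AK : Subgroup A :=
    { carrier := {b | TrivTop x E R K N (b : G)}
      one_mem' := h.trivTop_of_mem R.one_mem
      mul_mem' := fun hb hc => h.trivTop_mul hb hc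
      inv_mem' := fun hb => h.trivTop_inv hb } with hAK
  have hle : AE ≤ AK := fun b hb => h.trivTop_cent (h.A_le b.2) hb (h.A_commute b b.2)
  suffices AK ≤ AE from this (show (⟨a, ha⟩ : A) ∈ AK from hT)
  have hact : ∀ {b : G}, b ∈ A → b * e₁ * b⁻¹ = e₁ → b ∈ centAt x E := by
    intro b hb hbe
    refine mem_centAt'.mpr ⟨mem_stabilizer_iff.mp (mem_inf.mp (mem_inf.mp (h.A_le hb)).1).1,
      fun e he => ?_⟩
    by_cases he1 : e = 1
    · rw [he1]; group
    obtain ⟨d, hd, rfl⟩ := h.trans e₁ he₁ e he he₁1 he1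
    calc b * (d * e₁ * d⁻¹) * b⁻¹ = (b * d) * e₁ * (b * d)⁻¹ := by group
      _ = (d * b) * e₁ * (d * b)⁻¹ := by rw [(h.A_comm b hb d hd).eq]
      _ = d * (b * e₁ * b⁻¹) * d⁻¹ := by group
      _ = d * e₁ * d⁻¹ := by rw [hbe]
  -- `A / AE` embeds in `E # `
  have hEsmall : AE.index ≤ Nat.card E - 1 := by
    let f : A ⧸ AE → {e : E // e ≠ 1} := Quotient.lift (fun b : A =>
      ⟨⟨(b : G) * e₁ * (b : G)⁻¹, (mem_normalizer_iff.mp
        (mem_inf.mp (mem_inf.mp (h.A_le b.2)).1).2 e₁).mp he₁⟩, fun h1 => he₁1 (by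
          have h2 : (b : G) * e₁ * (b : G)⁻¹ = 1 := congrArg Subtype.val h1
          calc e₁ = (b : G)⁻¹ * ((b : G) * e₁ * (b : G)⁻¹) * b := by group
            _ = 1 := by rw [h2]; group)⟩) fun b b' hbb => by
      refine Subtype.ext (Subtype.ext ?_)
      have h1 := (mem_centAt'.mp (mem_subgroupOf.mp (QuotientGroup.leftRel_apply.mp hbb))).2 e₁ he₁
      push_cast at h1
      show (b : G) * e₁ * (b : G)⁻¹ = (b' : G) * e₁ * (b' : G)⁻¹
      calc (b : G) * e₁ * (b : G)⁻¹
          = (b : G) * ((b : G)⁻¹ * b' * e₁ * ((b : G)⁻¹ * b')⁻¹) * (b : G)⁻¹ := by rw [h1]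
        _ = _ := by group
    have hf : Function.Injective f := by
      intro q q' hqq
      induction q using QuotientGroup.induction_on with | _ b =>
      induction q' using QuotientGroup.induction_on with | _ b' =>
      refine QuotientGroup.eq.mpr (mem_subgroupOf.mpr (hact (A.mul_mem (A.inv_mem b.2) b'.2) ?_))
      have h1 : (b : G) * e₁ * (b : G)⁻¹ = (b' : G) * e₁ * (b' : G)⁻¹ :=
        congrArg (fun e : {e : E // e ≠ 1} => ((e : E) : G)) hqq
      calc (b : G)⁻¹ * b' * e₁ * ((b : G)⁻¹ * b')⁻¹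
          = (b : G)⁻¹ * ((b' : G) * e₁ * (b' : G)⁻¹) * b := by group
        _ = e₁ := by rw [← h1]; group
    refine (Nat.card_le_card_of_injective f hf).trans (le_of_eq ?_)
    have h1 := Set.ncard_compl ({1} : Set E)
    rw [Set.ncard_singleton, ← Nat.card_coe_set_eq] at h1
    exact h1
  -- `A / AK` covers the non-trivial cosets of `N` in `K`
  have hKbig : Nat.card E - 1 ≤ AK.index := by
    set NK : Subgroup K := N.subgroupOf K with hNK
    haveI hNKn : NK.Normal := ⟨fun n hn k => mem_subgroupOf.mpr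
      (h.conj_N (h.R_le_classGroup (h.K_le k.2)) (mem_subgroupOf.mp hn))⟩
    have hidx : NK.index = Nat.card E := by
      have h1 := NK.card_mul_index
      rw [Nat.card_congr (Subgroup.subgroupOfEquivOfLe h.N_le).toEquiv, h.card_K, mul_comm] at h1
      exact Nat.eq_of_mul_eq_mul_right Nat.card_pos h1
    have hex : ∀ q : {q : K ⧸ NK // q ≠ 1}, ∃ b : A, (b : G) * k₀ * (b : G)⁻¹ * ((q.1.out : K) : G)⁻¹ ∈ N := by
      rintro ⟨q, hq⟩
      have hqN : ((q.out : K) : G) ∉ N := fun hc => hq (by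
        rw [← QuotientGroup.out_eq' q, QuotientGroup.eq_one_iff]; exact mem_subgroupOf.mpr hc)
      obtain ⟨b, hb, hbq⟩ := h.trans_top k₀ hk₀ _ (q.out).2 hk₀N hqN
      exact ⟨⟨b, hb⟩, hbq⟩
    choose b hb using hex
    let g : {q : K ⧸ NK // q ≠ 1} → A ⧸ AK := fun q => QuotientGroup.mk (b q)
    have hg : Function.Injective g := by
      intro q q' hqq
      have h1 : TrivTop x E R K N ((b q : G)⁻¹ * (b q' : G)) := QuotientGroup.eq.mp hqq
      have h2 := h1.2 k₀ hk₀
      rw [commutatorElement_def] at h2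
      have h3 : (b q' : G) * k₀ * (b q' : G)⁻¹ * ((b q : G) * k₀ * (b q : G)⁻¹)⁻¹ ∈ N := by
        have h4 := h.conj_N (h.A_le (b q).2) h2
        convert h4 using 1
        group
      refine Subtype.ext ?_
      rw [← QuotientGroup.out_eq' q.1, ← QuotientGroup.out_eq' q'.1]
      refine (QuotientGroup.eq_iff_div_mem.mpr (mem_subgroupOf.mpr ?_)).symm
      rw [Subgroup.coe_div, div_eq_mul_inv]
      have h5 := N.mul_mem (N.mul_mem (N.inv_mem (hb q')) h3) (hb q)
      convert h5 using 1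
      group
    refine le_trans (le_of_eq ?_) (Nat.card_le_card_of_injective g hg)
    have h1 := Set.ncard_compl ({1} : Set (K ⧸ NK))
    rw [Set.ncard_singleton, ← Nat.card_coe_set_eq, ← Subgroup.index, hidx] at h1
    exact h1.symm
  have hidx : AE.index ≤ AK.index := hEsmall.trans hKbig
  have hcard : Nat.card AK ≤ Nat.card AE := by
    have h1 := AE.card_mul_index
    have h2 := AK.card_mul_index
    refine Nat.le_of_mul_le_mul_right ?_ (Nat.pos_of_ne_zero AK.index_ne_zero_of_finite)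
    calc Nat.card AK * AK.index = Nat.card AE * AE.index := h2.trans h1.symm
      _ ≤ Nat.card AE * AK.index := Nat.mul_le_mul_left _ hidx
  exact (Subgroup.eq_of_le_of_card_ge hle hcard).ge

end ClassData

end Cfsg.Agent.H26.Asch
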