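import Cfsg.Agent.H26.Asch.SemiCount

/-!
The prime of the pivot is three: the order of `E` is eight.
-/

set_option autoImplicit false
set_option linter.style.haveILetI false
set_option linter.unusedSectionVars false

namespace Cfsg.Agent.H26.Asch

open Subgroup MulAction
open scoped Pointwise

universe u v

variable {G : Type v} [Group G] [Finite G] {E : Type u} [AddCommGroup E] [Finite E]
  [DistribMulAction G E]

namespace Pivot

variable {τ : G → E} {A : Subgroup G} (h : SemiData τ A) {p : ℕ} {r s : G} {c : E}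
  (hp : Pivot τ p r s c)
include h hp

theorem card_stab_c : Nat.card (stabilizer G c) = Nat.card E * p := by
  have horb : orbit G c = {e : E | e ≠ 0} := by
    ext e
    constructor
    · rintro ⟨g, rfl⟩
      exact (smul_ne_zero_iff_ne g).mpr hp.c_ne
    · intro he
      obtain ⟨a, -, hae⟩ := h.torus.trans c e hp.c_ne he
      exact ⟨a, hae⟩
  have hidx : (stabilizer G c).index = Nat.card E - 1 := by
    rw [MulAction.index_stabilizer, horb]
    have h1 := Set.ncard_compl ({0} : Set E)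
    rw [Set.ncard_singleton] at h1
    exact h1
  have hmul := (stabilizer G c).card_mul_index
  rw [hidx, hp.card_group h] at hmul
  have h4 := h.torus.four_le
  refine Nat.eq_of_mul_eq_mul_right (show 0 < Nat.card E - 1 by omega) (hmul.trans ?_)
  ring

theorem r_mem : r ∈ stabilizer G c := hp.r_c h

theorem s_mem : s ∈ stabilizer G c := hp.s_smul_c h

theorem notMem_normalizer {P : Subgroup G} (hP : Nat.card P = Nat.card E) {y : G}
    (hy : orderOf y = p) : y ∉ normalizer (P : Set G) := by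
  rw [hp.normalizer_eq h hP]
  intro hyP
  have h1 := Subgroup.orderOf_dvd_natCard P hyP
  rw [hy, hP, hp.card] at h1
  exact hp.p_ne ((Nat.prime_dvd_prime_iff_eq hp.prime Nat.prime_two).mp (hp.prime.dvd_of_dvd_pow h1))

/-- Every subgroup of order `q` of the stabiliser of `c` is conjugate to a given one by a power of
a given element of order `p`. -/
theorem exists_conj_eq {P P' : Subgroup G} (hP : P ≤ stabilizer G c) (hP' : P' ≤ stabilizer G c)
    (hc : Nat.card P = Nat.card E) (hc' : Nat.card P' = Nat.card E) {y : G}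
    (hyc : y ∈ stabilizer G c) (hy : orderOf y = p) :
    ∃ j : ℤ, P.map (MulAut.conj (y ^ j)).toMonoidHom = P' := by
  haveI : Fact (Nat.Prime 2) := ⟨Nat.prime_two⟩
  set H := stabilizer G c with hH
  have hsyl : ∀ R : Subgroup G, R ≤ H → Nat.card R = Nat.card E →
      ∃ S : Sylow 2 H, (S : Subgroup H).map H.subtype = R := by
    intro R hR hRc
    have hR2 : IsPGroup 2 (R.subgroupOf H) := IsPGroup.of_card (n := p) (by
      rw [Nat.card_congr (Subgroup.subgroupOfEquivOfLe hR).toEquiv, hRc, hp.card])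
    obtain ⟨S, hS⟩ := hR2.exists_le_sylow
    refine ⟨S, (Subgroup.eq_of_le_of_card_ge ?_ ?_).symm⟩
    · intro g hg
      exact ⟨⟨g, hR hg⟩, hS (Subgroup.mem_subgroupOf.mpr hg), rfl⟩
    · rw [Subgroup.card_map_of_injective H.subtype_injective, hRc]
      exact Nat.le_of_dvd Nat.card_pos (by
        have h1 := (S.isPGroup'.map H.subtype)
        have h2 := dvd_of_two_group h h1 (hp.odd_stab h)
        rwa [Subgroup.card_map_of_injective H.subtype_injective] at h2)
  obtain ⟨S, rfl⟩ := hsyl P hP hc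
  obtain ⟨S', rfl⟩ := hsyl P' hP' hc'
  obtain ⟨g, rfl⟩ := exists_smul_eq H S S'
  rw [Subgroup.card_map_of_injective H.subtype_injective] at hc hc'
  set yH : H := ⟨y, hyc⟩ with hyH
  have hyo : orderOf yH = p := by rw [← Subgroup.orderOf_coe]; exact hy
  let f : zpowers yH × (S : Subgroup H) → H := fun z => (z.1 : H) * z.2
  have hdis : ∀ z : H, z ∈ zpowers yH → z ∈ (S : Subgroup H) → z = 1 := by
    intro z h1 h2
    rw [← orderOf_eq_one_iff]
    refine Nat.Coprime.eq_one_of_dvd (Nat.Coprime.pow_right p ?_)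
      (show orderOf z ∣ 2 ^ p by rw [← hp.card, ← hc]; exact Subgroup.orderOf_dvd_natCard _ h2)
    have h3 := Subgroup.orderOf_dvd_natCard _ h1
    rw [Nat.card_zpowers, hyo] at h3
    exact Nat.coprime_two_right.mpr ((hp.odd_p h).of_dvd_nat h3)
  have hf : Function.Bijective f := by
    refine (Nat.bijective_iff_injective_and_card f).mpr ⟨fun a b hab => ?_, ?_⟩
    · have h1 : (b.1 : H)⁻¹ * a.1 = b.2 * (a.2 : H)⁻¹ := by
        have h2 : (a.1 : H) * a.2 = b.1 * b.2 := hab
        rw [eq_mul_inv_iff_mul_eq, mul_assoc, h2, inv_mul_cancel_left]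
      have h2 := hdis _ (mul_mem (inv_mem b.1.2) a.1.2)
        (h1 ▸ mul_mem b.2.2 (inv_mem a.2.2) : (b.1 : H)⁻¹ * a.1 ∈ (S : Subgroup H))
      refine Prod.ext (Subtype.ext (inv_mul_eq_one.mp h2).symm) (Subtype.ext ?_)
      rw [h2, eq_comm, mul_inv_eq_one] at h1
      exact h1.symm
    · rw [Nat.card_prod, Nat.card_zpowers, hyo, hc, hp.card_stab_c h, mul_comm]
  obtain ⟨⟨z, w⟩, hzw⟩ := hf.2 g
  obtain ⟨j, hj⟩ := mem_zpowers_iff.mp z.2
  refine ⟨j, ?_⟩
  have hgS : g • S = (z : H) • S := by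
    rw [← hzw, mul_smul]
    congr 1
    exact Sylow.smul_eq_iff_mem_normalizer.mpr (le_normalizer w.2)
  rw [hgS, Sylow.coe_subgroup_smul, ← hj]
  have hmem : ∀ q : H, q ∈ MulAut.conj (yH ^ j) • (S : Subgroup H) ↔
      (yH ^ j)⁻¹ * q * yH ^ j ∈ (S : Subgroup H) := fun q => by
    rw [Subgroup.mem_pointwise_smul_iff_inv_smul_mem]
    show (MulAut.conj (yH ^ j))⁻¹ q ∈ (S : Subgroup H) ↔ _
    rw [← map_inv, MulAut.conj_apply, inv_inv]
  have hcoe : ((yH ^ j : H) : G) = y ^ j := by rw [SubgroupClass.coe_zpow]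
  ext x
  constructor
  · rintro ⟨_, ⟨q, hq, rfl⟩, rfl⟩
    refine ⟨(yH ^ j) * q * (yH ^ j)⁻¹, (hmem _).mpr ?_, ?_⟩
    · rw [show (yH ^ j)⁻¹ * ((yH ^ j) * q * (yH ^ j)⁻¹) * yH ^ j = q by group]
      exact hq
    · show ((yH ^ j * q * (yH ^ j)⁻¹ : H) : G) = y ^ j * (q : G) * (y ^ j)⁻¹
      push_cast [← hcoe]
      rfl
  · rintro ⟨q, hq, rfl⟩
    refine ⟨_, mem_map_of_mem _ ((hmem q).mp hq), ?_⟩
    show y ^ j * (((yH ^ j)⁻¹ * q * yH ^ j : H) : G) * (y ^ j)⁻¹ = (q : G)
    push_cast [← hcoe]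
    group

theorem exists_sylow_ge {N : Subgroup G} (hN : N ≤ stabilizer G c) (h2 : IsPGroup 2 N) :
    ∃ P : Subgroup G, N ≤ P ∧ P ≤ stabilizer G c ∧ Nat.card P = Nat.card E := by
  haveI : Fact (Nat.Prime 2) := ⟨Nat.prime_two⟩
  set H := stabilizer G c with hH
  obtain ⟨S, hS⟩ := (h2.comap_of_injective H.subtype H.subtype_injective).exists_le_sylow
  refine ⟨(S : Subgroup H).map H.subtype, fun g hg => ⟨⟨g, hN hg⟩, hS hg, rfl⟩,
    map_subtype_le _, ?_⟩
  rw [Subgroup.card_map_of_injective H.subtype_injective]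
  refine Nat.dvd_antisymm ?_ ?_
  · have h3 := dvd_of_two_group h (S.isPGroup'.map H.subtype) (hp.odd_stab h)
    rwa [Subgroup.card_map_of_injective H.subtype_injective] at h3
  · rw [hp.card]
    exact S.pow_dvd_card_of_pow_dvd_card (by
      rw [hp.card_stab_c h, hp.card]; exact dvd_mul_right _ _)

/-- A subgroup of index two in the Sylow two-subgroups of the stabiliser of `c`, normal in it. -/
theorem exists_core : ∃ M : Subgroup G, M ≤ stabilizer G c ∧ 2 * Nat.card M = Nat.card E ∧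
    (∀ g ∈ stabilizer G c, g ∈ normalizer (M : Set G)) ∧
    ∃ P : Subgroup G, M ≤ P ∧ s ∈ P ∧ Nat.card P = Nat.card E := by
  classical
  haveI : Fact (Nat.Prime 2) := ⟨Nat.prime_two⟩
  haveI : Fact p.Prime := ⟨hp.prime⟩
  set H := stabilizer G c with hH
  have hs2 : IsPGroup 2 (zpowers s) :=
    IsPGroup.of_card (n := 1) (by rw [Nat.card_zpowers, hp.inv, pow_one])
  obtain ⟨P₀, hsP₀, hP₀H, hP₀c⟩ := hp.exists_sylow_ge h (zpowers_le.mpr (hp.s_mem h)) hs2
  have hsmem : s ∈ P₀ := hsP₀ (mem_zpowers s)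
  have hconjH : ∀ {g : G} {P : Subgroup G}, g ∈ H → P ≤ H →
      P.map (MulAut.conj g).toMonoidHom ≤ H := by
    rintro g P hg hP _ ⟨x, hx, rfl⟩
    exact mul_mem (mul_mem hg (hP hx)) (inv_mem hg)
  have hcardm : ∀ (g : G) (P : Subgroup G),
      Nat.card (P.map (MulAut.conj g).toMonoidHom) = Nat.card P := fun g P =>
    Subgroup.card_map_of_injective (f := (MulAut.conj g).toMonoidHom) (MulAut.conj g).injective
  set SS : Set (Subgroup G) := {P | P ≤ H ∧ Nat.card P = Nat.card E} with hSS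
  have hmove : ∀ {y : G} {P : Subgroup G}, orderOf y = p → Nat.card P = Nat.card E →
      P.map (MulAut.conj y).toMonoidHom ≠ P := by
    intro y P hy hP heq
    refine hp.notMem_normalizer h hP hy (mem_normalizer_iff.mpr fun x => ?_)
    constructor
    · intro hx; rw [← heq]; exact ⟨x, hx, rfl⟩
    · intro hx
      rw [← heq] at hx
      obtain ⟨x', hx', he⟩ := hx
      simp only [MulEquiv.coe_toMonoidHom, MulAut.conj_apply] at he
      rwa [mul_left_cancel (mul_right_cancel he)] at hx'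
  -- a pair with largest intersection
  set pairs : Set (Subgroup G × Subgroup G) := {z | z.1 ∈ SS ∧ z.2 ∈ SS ∧ z.1 ≠ z.2} with hpairs
  haveI : Finite (Subgroup G) :=
    Finite.of_injective (fun S : Subgroup G => (S : Set G)) SetLike.coe_injective
  have hne : pairs.Nonempty := ⟨(P₀.map (MulAut.conj r).toMonoidHom, P₀),
    ⟨hconjH (hp.r_mem h) hP₀H, (hcardm r P₀).trans hP₀c⟩, ⟨hP₀H, hP₀c⟩, hmove hp.ord hP₀c⟩
  obtain ⟨⟨P₁, P₂⟩, ⟨⟨hP₁H, hP₁c⟩, ⟨hP₂H, hP₂c⟩, h12⟩, hmax⟩ :=
    Set.exists_max_image pairs (fun z => Nat.card (z.1 ⊓ z.2 : Subgroup G)) (Set.toFinite _) hne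
  dsimp only at hP₁H hP₁c hP₂H hP₂c h12 hmax
  set M := P₁ ⊓ P₂ with hM
  have hMP₁ : M < P₁ := lt_of_le_of_ne inf_le_left fun e =>
    h12 (Subgroup.eq_of_le_of_card_ge (inf_eq_left.mp e) (by rw [hP₁c, hP₂c]))
  have hMP₂ : M < P₂ := lt_of_le_of_ne inf_le_right fun e =>
    h12 (Subgroup.eq_of_le_of_card_ge (inf_eq_right.mp e) (by rw [hP₁c, hP₂c])).symm
  -- an element of order `p` normalising `M`
  set N := normalizer (M : Set G) ⊓ H with hN
  obtain ⟨y, hyN, hyo⟩ : ∃ y ∈ N, orderOf y = p := by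
    by_cases hd : p ∣ Nat.card N
    · obtain ⟨⟨y, hy⟩, hyo⟩ := exists_prime_orderOf_dvd_card' p hd
      rw [← Subgroup.orderOf_coe] at hyo
      exact ⟨y, hy, hyo⟩
    exfalso
    have hNdvd : Nat.card N ∣ 2 ^ p := by
      have h1 : Nat.card N ∣ Nat.card E * p := hp.card_stab_c h ▸ Subgroup.card_dvd_of_le inf_le_right
      rw [hp.card] at h1
      exact (Nat.Coprime.symm (hp.prime.coprime_iff_not_dvd.mpr hd)).dvd_of_dvd_mul_right h1
    obtain ⟨i, -, hi⟩ := (Nat.dvd_prime_pow Nat.prime_two).mp hNdvd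
    obtain ⟨P₃, hNP₃, hP₃H, hP₃c⟩ := hp.exists_sylow_ge h inf_le_right (IsPGroup.of_card hi)
    have key : ∀ P : Subgroup G, P ≤ H → Nat.card P = Nat.card E → M < P → P = P₃ := by
      intro P hPH hPc hMP
      have hP2 : IsPGroup 2 P := IsPGroup.of_card (n := p) (by rw [hPc, hp.card])
      haveI := hP2.isNilpotent
      have hlt := Group.normalizerCondition_of_isNilpotent (G := P) (M.subgroupOf P) (by
        rw [lt_top_iff_ne_top, Ne, Subgroup.subgroupOf_eq_top]
        exact fun hle => hMP.ne (le_antisymm hMP.le hle))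
      obtain ⟨⟨x, hx⟩, hxN, hxM⟩ := SetLike.exists_of_lt hlt
      have hxN' : x ∈ normalizer (M : Set G) := by
        refine mem_normalizer_iff.mpr fun m => ⟨fun hm => ?_, fun hm => ?_⟩
        · exact (mem_normalizer_iff.mp hxN ⟨m, hMP.le hm⟩).mp hm
        · have hmP : m ∈ P := by
            have := mul_mem (mul_mem (inv_mem hx) (hMP.le hm)) hx
            simpa [mul_assoc] using this
          exact (mem_normalizer_iff.mp hxN ⟨m, hmP⟩).mpr hm
      by_contra hne'
      have h1 := hmax (P, P₃) ⟨⟨hPH, hPc⟩, ⟨hP₃H, hP₃c⟩, hne'⟩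
      dsimp only at h1
      have h2 : M < P ⊓ P₃ := by
        refine lt_of_le_of_ne (le_inf hMP.le fun m hm => hNP₃ ⟨le_normalizer hm, hPH (hMP.le hm)⟩) ?_
        intro e
        exact hxM (Subgroup.mem_subgroupOf.mpr (show x ∈ M by
          rw [e]; exact ⟨hx, hNP₃ ⟨hxN', hPH hx⟩⟩))
      exact h2.ne (Subgroup.eq_of_le_of_card_ge h2.le h1)
    exact h12 ((key P₁ hP₁H hP₁c hMP₁).trans (key P₂ hP₂H hP₂c hMP₂).symm)
  have hMall : ∀ P ∈ SS, M ≤ P := by
    rintro P ⟨hPH, hPc⟩ m hm
    obtain ⟨j, rfl⟩ := hp.exists_conj_eq h hP₁H hPH hP₁c hPc hyN.2 hyo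
    refine ⟨(y ^ j)⁻¹ * m * y ^ j, hMP₁.le ?_, ?_⟩
    swap
    · show y ^ j * ((y ^ j)⁻¹ * m * y ^ j) * (y ^ j)⁻¹ = m
      group
    have := (mem_normalizer_iff.mp (Subgroup.zpow_mem _ hyN.1 j)
      ((y ^ j)⁻¹ * m * y ^ j)).mpr (by
        rw [show y ^ j * ((y ^ j)⁻¹ * m * y ^ j) * (y ^ j)⁻¹ = m by group]; exact hm)
    exact this
  have hinter : ∀ P ∈ SS, ∀ P' ∈ SS, P ≠ P' → P ⊓ P' = M := fun P hP P' hP' hne' =>
    (Subgroup.eq_of_le_of_card_ge (le_inf (hMall P hP) (hMall P' hP'))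
      (hmax (P, P') ⟨hP, hP', hne'⟩)).symm
  have hnorm : ∀ g ∈ H, g ∈ normalizer (M : Set G) := by
    intro g hg
    have key : ∀ g ∈ H, ∀ m ∈ M, g * m * g⁻¹ ∈ M := by
      intro g hg m hm
      have hmem : ∀ P ∈ SS, g * m * g⁻¹ ∈ P := by
        rintro P ⟨hPH, hPc⟩
        have h1 := hMall (P.map (MulAut.conj g⁻¹).toMonoidHom)
          ⟨hconjH (inv_mem hg) hPH, (hcardm _ P).trans hPc⟩ hm
        obtain ⟨x, hx, he⟩ := h1
        simp only [MulEquiv.coe_toMonoidHom, MulAut.conj_apply, inv_inv] at he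
        rw [← he]; simpa [mul_assoc] using hx
      exact ⟨hmem P₁ ⟨hP₁H, hP₁c⟩, hmem P₂ ⟨hP₂H, hP₂c⟩⟩
    refine mem_normalizer_iff.mpr fun m => ⟨key g hg m, fun hm => ?_⟩
    have := key g⁻¹ (inv_mem hg) _ hm
    simpa [mul_assoc] using this
  refine ⟨M, hMP₁.le.trans hP₁H, ?_, hnorm, P₀, hMall P₀ ⟨hP₀H, hP₀c⟩, hsmem, hP₀c⟩
  -- the count
  set P := fun j : Fin p => P₁.map (MulAut.conj (r ^ (j : ℕ))).toMonoidHom with hPdef
  have hPSS : ∀ j, P j ∈ SS := fun j =>
    ⟨hconjH (pow_mem (hp.r_mem h) _) hP₁H, (hcardm _ P₁).trans hP₁c⟩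
  have hPinj : Function.Injective P := by
    intro i j hij
    by_contra hne'
    set d : ℤ := (i : ℤ) - j with hd
    have hd0 : ¬ (p : ℤ) ∣ d := fun hdvd => hne' (Fin.ext (by
      have := Int.eq_zero_of_abs_lt_dvd hdvd (by
        have := i.isLt; have := j.isLt
        rw [abs_lt]; omega)
      omega))
    have hro : orderOf (r ^ d) = p := by
      refine orderOf_eq_prime ?_ fun h1 => hd0 ?_
      · rw [← zpow_natCast, ← zpow_mul, mul_comm, zpow_mul, zpow_natCast, ← hp.ord,
          pow_orderOf_eq_one, one_zpow]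
      · rw [← hp.ord]; exact orderOf_dvd_iff_zpow_eq_one.mpr h1
    refine hmove hro hP₁c ?_
    have h1 := congrArg (Subgroup.map (MulAut.conj (r ^ (j : ℕ))⁻¹).toMonoidHom) hij
    simp only [hPdef, Subgroup.map_map] at h1
    convert h1 using 2
    · ext x
      simp only [MulEquiv.coe_toMonoidHom, MonoidHom.coe_comp, Function.comp_apply,
        MulAut.conj_apply, hd, zpow_sub, zpow_natCast]
      group
    · rw [show ((MulAut.conj (r ^ (j : ℕ))⁻¹).toMonoidHom).comp
        (MulAut.conj (r ^ (j : ℕ))).toMonoidHom = MonoidHom.id G from MonoidHom.ext fun x => by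
          simp [mul_assoc], Subgroup.map_id]
  -- the two-elements
  let U : Set G := {g | g ∈ H ∧ ¬ orderOf g = p}
  have hUcard : Nat.card M + p * (Nat.card E - Nat.card M) ≤ U.ncard := by
    let f : M ⊕ (Σ j : Fin p, {x : P j // (x : G) ∉ M}) → U := Sum.elim
      (fun (m : M) => ⟨m, hP₁H (hMP₁.le m.2), fun hm => by
        have h1 := Subgroup.orderOf_dvd_natCard _ (hMP₁.le m.2)
        rw [hm, hP₁c, hp.card] at h1
        exact hp.p_ne ((Nat.prime_dvd_prime_iff_eq hp.prime Nat.prime_two).mp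
          (hp.prime.dvd_of_dvd_pow h1))⟩)
      (fun (z : Σ j : Fin p, {x : P j // (x : G) ∉ M}) => ⟨z.2.1, (hPSS z.1).1 z.2.1.2, fun hm => by
        have h1 := Subgroup.orderOf_dvd_natCard _ z.2.1.2
        rw [hm, (hPSS z.1).2, hp.card] at h1
        exact hp.p_ne ((Nat.prime_dvd_prime_iff_eq hp.prime Nat.prime_two).mp
          (hp.prime.dvd_of_dvd_pow h1))⟩)
    have hf : Function.Injective f := by
      rintro (m | ⟨i, ⟨⟨x, hx⟩, hxM⟩⟩) (m' | ⟨j, ⟨⟨x', hx'⟩, hxM'⟩⟩) he <;>
        have he' := congrArg Subtype.val he <;> simp only [f, Sum.elim_inl, Sum.elim_inr] at he'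
      · exact congrArg Sum.inl (Subtype.ext he')
      · exact absurd (he' ▸ m.2) hxM'
      · exact absurd (he' ▸ m'.2) hxM
      · subst he'
        have hij : i = j := by
          by_contra hne'
          exact hxM (hinter _ (hPSS i) _ (hPSS j) (fun e => hne' (hPinj e)) ▸
            (⟨hx, hx'⟩ : x ∈ P i ⊓ P j))
        subst hij; rfl
    have h1 := Nat.card_le_card_of_injective f hf
    rw [Nat.card_sum, Nat.card_sigma, Nat.card_coe_set_eq] at h1
    refine le_trans (le_of_eq ?_) h1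
    congr 1
    rw [Finset.sum_const_nat (m := Nat.card E - Nat.card M) fun j _ => ?_, Finset.card_univ,
      Fintype.card_fin]
    have h2 : {x : P j // (x : G) ∉ M} ≃ (((P j : Subgroup G) : Set G) \ M : Set G) :=
      { toFun := fun x => ⟨x.1.1, x.1.2, x.2⟩
        invFun := fun x => ⟨⟨x.1, x.2.1⟩, x.2.2⟩
        left_inv := fun x => rfl
        right_inv := fun x => rfl }
    rw [Nat.card_congr h2, Nat.card_coe_set_eq, Set.ncard_sdiff (hMall _ (hPSS j)) (Set.toFinite _),
      ← Nat.card_coe_set_eq, ← Nat.card_coe_set_eq]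
    change Nat.card (P j : Subgroup G) - Nat.card M = _
    rw [(hPSS j).2]
  -- the elements of order `p`
  set R := (normalizer ((zpowers r : Subgroup G) : Set G)).subgroupOf H with hR
  have hRle : Nat.card R ≤ 2 * p := by
    have hmem : ∀ g : R, (τ ((g : H) : G) = 0 → ((g : H) : G) ∈ zpowers r) ∧
        (τ ((g : H) : G) ≠ 0 → s * ((g : H) : G) ∈ zpowers r) := by
      rintro ⟨⟨g, hgc⟩, hgN⟩
      have hgN' : g ∈ normalizer ((zpowers r : Subgroup G) : Set G) := hgN
      obtain ⟨j, hj⟩ := mem_zpowers_iff.mp ((mem_normalizer_iff.mp (inv_mem hgN') r).mp (mem_zpowers r))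
      rw [inv_inv] at hj
      have hfix : r • τ g = τ g := by
        have h1 : τ (r * g) = τ (g * r ^ j) := by rw [hj]; group
        have hrj : τ (r ^ j) = 0 :=
          (zpowers_le.mpr (show r ∈ h.stab from hp.r_zero)) (mem_zpowers_iff.mpr ⟨j, rfl⟩)
        rwa [h.cocycle, h.cocycle, hp.r_zero, hrj, smul_zero, add_zero, zero_add] at h1
      rcases (hp.r_fix _).mp hfix with h0 | h0
      · exact ⟨fun _ => hp.pair g h0 hgc, fun hne' => absurd h0 hne'⟩
      · refine ⟨fun hz => absurd (hz ▸ h0 : (0 : E) = c) hp.c_ne.symm, fun _ => hp.pair _ ?_ ?_⟩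
        · show τ (s * g) = 0
          rw [h.cocycle, hp.s_c, h0, hp.s_smul_c h, h.torus.two]
        · rw [mul_smul, show g • c = c from hgc, hp.s_smul_c h]
    let f : R → Bool × zpowers r := fun g =>
      if hg : τ ((g : H) : G) = 0 then (true, ⟨_, (hmem g).1 hg⟩) else (false, ⟨_, (hmem g).2 hg⟩)
    have hf : Function.Injective f := by
      intro g g' e
      simp only [f] at e
      split_ifs at e with h1 h2 h2 <;> simp at e
      · exact e
      · exact e
    have h1 := Nat.card_le_card_of_injective f hf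
    rwa [Nat.card_prod, Nat.card_eq_fintype_card (α := Bool), Fintype.card_bool,
      hp.card_zpowers_r h] at h1
  have hidx : Nat.card E ≤ 2 * R.index := by
    have h1 := R.card_mul_index
    rw [hp.card_stab_c h] at h1
    refine Nat.le_of_mul_le_mul_right ?_ hp.prime.pos
    calc Nat.card E * p = Nat.card R * R.index := h1.symm
      _ ≤ 2 * p * R.index := Nat.mul_le_mul_right _ hRle
      _ = 2 * R.index * p := by ring
  let V : Set G := {g | g ∈ H ∧ orderOf g = p}
  have hVcard : R.index * (p - 1) ≤ V.ncard := by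
    have hrj : ∀ j : Fin (p - 1), orderOf (r ^ ((j : ℕ) + 1)) = p := fun j => by
      rw [orderOf_pow' r (by omega), hp.ord, Nat.Coprime.gcd_eq_one, Nat.div_one]
      exact hp.prime.coprime_iff_not_dvd.mpr (Nat.not_dvd_of_pos_of_lt (by omega) (by omega))
    let f : (H ⧸ R) × Fin (p - 1) → V := fun z => ⟨(z.1.out : G) * r ^ ((z.2 : ℕ) + 1) * (z.1.out : G)⁻¹,
      mul_mem (mul_mem z.1.out.2 (pow_mem (hp.r_mem h) _)) (inv_mem z.1.out.2),
      by rw [H39.orderOf_conj]; exact hrj _⟩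
    have hf : Function.Injective f := by
      rintro ⟨a, i⟩ ⟨b, j⟩ he
      have he' : (a.out : G) * r ^ ((i : ℕ) + 1) * (a.out : G)⁻¹ =
          (b.out : G) * r ^ ((j : ℕ) + 1) * (b.out : G)⁻¹ := congrArg Subtype.val he
      set k : G := (b.out : G)⁻¹ * a.out with hk
      have hk' : k * r ^ ((i : ℕ) + 1) * k⁻¹ = r ^ ((j : ℕ) + 1) := by
        rw [hk, mul_inv_rev, inv_inv]
        calc (b.out : G)⁻¹ * a.out * r ^ ((i : ℕ) + 1) * ((a.out : G)⁻¹ * b.out)
            = (b.out : G)⁻¹ * ((a.out : G) * r ^ ((i : ℕ) + 1) * (a.out : G)⁻¹) * b.out := by group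
          _ = r ^ ((j : ℕ) + 1) := by rw [he']; group
      have hgen : ∀ l : Fin (p - 1), zpowers (r ^ ((l : ℕ) + 1)) = zpowers r := fun l =>
        Subgroup.eq_of_le_of_card_ge (zpowers_le.mpr (pow_mem (mem_zpowers r) _))
          (by rw [Nat.card_zpowers, Nat.card_zpowers, hrj, hp.ord])
      have hkN : k ∈ normalizer ((zpowers r : Subgroup G) : Set G) := by
        have hmap : (zpowers r).map (MulAut.conj k).toMonoidHom = zpowers r := by
          conv_lhs => rw [← hgen i]
          rw [MonoidHom.map_zpowers]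
          simp only [MulEquiv.coe_toMonoidHom, MulAut.conj_apply, hk']
          exact hgen j
        refine mem_normalizer_iff.mpr fun x => ⟨fun hx => hmap ▸ ⟨x, hx, rfl⟩, fun hx => ?_⟩
        rw [← hmap] at hx
        obtain ⟨x', hx', hex⟩ := hx
        simp only [MulEquiv.coe_toMonoidHom, MulAut.conj_apply] at hex
        rwa [mul_left_cancel (mul_right_cancel hex)] at hx'
      have hab : a = b := by
        rw [← a.out_eq, ← b.out_eq]
        exact (QuotientGroup.eq.mpr (show b.out⁻¹ * a.out ∈ R from hkN)).symm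
      subst hab
      have hk1 : k = 1 := by rw [hk, inv_mul_cancel]
      rw [hk1, one_mul, inv_one, mul_one] at hk'
      have hij := pow_injOn_Iio_orderOf (x := r) (show (i : ℕ) + 1 ∈ Set.Iio (orderOf r) by
        rw [hp.ord]; exact Set.mem_Iio.mpr (by omega)) (show (j : ℕ) + 1 ∈ Set.Iio (orderOf r) by
        rw [hp.ord]; exact Set.mem_Iio.mpr (by omega)) hk'
      exact Prod.ext rfl (Fin.ext (show (i : ℕ) = j by omega))
    have h1 := Nat.card_le_card_of_injective f hf
    rwa [Nat.card_prod, Nat.card_eq_fintype_card (α := Fin (p - 1)), Fintype.card_fin,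
      ← Subgroup.index, Nat.card_coe_set_eq] at h1
  have htot : U.ncard + V.ncard ≤ Nat.card E * p := by
    rw [← hp.card_stab_c h, ← Set.ncard_union_eq (by
      rw [Set.disjoint_left]; exact fun g hg hg' => hg.2 hg'.2) (Set.toFinite _) (Set.toFinite _),
      show Nat.card (stabilizer G c) = (H : Set G).ncard from Nat.card_coe_set_eq _]
    exact Set.ncard_le_ncard (fun g hg => hg.elim (·.1) (·.1)) (Set.toFinite _)
  -- `|M|` divides properly
  obtain ⟨i, hi⟩ : ∃ i, Nat.card M * i = Nat.card E := by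
    obtain ⟨i, hi⟩ := Subgroup.card_dvd_of_le hMP₁.le
    exact ⟨i, by rw [← hi, hP₁c]⟩
  have hlt : Nat.card M < Nat.card E := by
    by_contra hge
    exact hMP₁.ne (Subgroup.eq_of_le_of_card_ge hMP₁.le (by rw [hP₁c]; omega))
  have hi2 : 2 ≤ i := by
    rcases i with _ | _ | i
    · rw [mul_zero] at hi; omega
    · omega
    · omega
  obtain ⟨k, hk⟩ : ∃ k, p = k + 1 := ⟨p - 1, by have := hp.prime.pos; omega⟩
  have hk0 : 0 < k := by have := hp.prime.two_le; omega
  have hple : Nat.card E ≤ 2 * Nat.card M := by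
    subst hk
    rw [Nat.add_sub_cancel] at hVcard
    have h1 : 2 * (Nat.card M + (k + 1) * (Nat.card E - Nat.card M)) + Nat.card E * k ≤
        2 * (Nat.card E * (k + 1)) := by
      have := Nat.mul_le_mul_right k hidx
      have : 2 * R.index * k = 2 * (R.index * k) := by ring
      omega
    obtain ⟨t, ht⟩ : ∃ t, Nat.card E = Nat.card M + t := ⟨Nat.card E - Nat.card M, by omega⟩
    rw [ht, Nat.add_sub_cancel_left] at h1
    rw [ht]
    nlinarith
  nlinarith

/-- The prime is three. -/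
theorem prime_eq_three : p = 3 := by
  classical
  haveI : Fact (Nat.Prime 2) := ⟨Nat.prime_two⟩
  haveI : Fact p.Prime := ⟨hp.prime⟩
  obtain ⟨M, hMH, hMc, hMn, P, hMP, hsP, hPc⟩ := hp.exists_core h
  have h8 : 8 ≤ Nat.card E := by
    rw [hp.card]
    calc 8 = 2 ^ 3 := by norm_num
      _ ≤ 2 ^ p := Nat.pow_le_pow_right (by norm_num) (by
        have := hp.prime.two_le; have := hp.p_ne; omega)
  have hM2 : IsPGroup 2 M :=
    (IsPGroup.of_card (n := p) (by rw [hPc, hp.card]) : IsPGroup 2 P).to_le hMP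
  haveI : Nontrivial M := Finite.one_lt_card_iff_nontrivial.mp (by omega)
  haveI := hM2.center_nontrivial
  -- the involutions in the centre of `M`
  let Z : Subgroup G :=
    { carrier := {t | t ∈ M ∧ (∀ m ∈ M, t * m = m * t) ∧ t * t = 1}
      one_mem' := ⟨one_mem _, fun m _ => by rw [one_mul, mul_one], one_mul 1⟩
      mul_mem' := fun {a b} ha hb => ⟨mul_mem ha.1 hb.1, fun m hm => by
          rw [mul_assoc, hb.2.1 m hm, ← mul_assoc, ha.2.1 m hm, mul_assoc],
        show a * b * (a * b) = 1 by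
          rw [mul_assoc, ← mul_assoc b, ← ha.2.1 b hb.1, mul_assoc a b b, hb.2.2, mul_one, ha.2.2]⟩
      inv_mem' := fun {a} ha => by
        rw [show a⁻¹ = a from inv_eq_of_mul_eq_one_right ha.2.2]; exact ha }
  have hconj : ∀ g ∈ stabilizer G c, ∀ t ∈ Z, g * t * g⁻¹ ∈ Z := by
    rintro g hg t ⟨htM, htc, htt⟩
    refine ⟨(mem_normalizer_iff.mp (hMn g hg) t).mp htM, fun m hm => ?_, by
      rw [show g * t * g⁻¹ * (g * t * g⁻¹) = g * (t * t) * g⁻¹ by group, htt]; group⟩
    have := htc _ ((mem_normalizer_iff.mp (inv_mem (hMn g hg)) m).mp hm)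
    rw [inv_inv] at this
    calc g * t * g⁻¹ * m = g * (t * (g⁻¹ * m * g)) * g⁻¹ := by group
      _ = m * (g * t * g⁻¹) := by rw [this]; group
  obtain ⟨j, hj⟩ := IsPGroup.iff_card.mp (hM2.to_subgroup (center M))
  have hd : 2 ∣ Nat.card (center M) := by
    rw [hj]
    rcases j with _ | j
    · rw [pow_zero] at hj
      exact absurd hj (Finite.one_lt_card (α := center M)).ne'
    · exact dvd_pow_self 2 (Nat.succ_ne_zero _)
  obtain ⟨z, hz⟩ := exists_prime_orderOf_dvd_card' 2 hd
  have hzo : orderOf ((z : M) : G) = 2 := by rw [Subgroup.orderOf_coe, Subgroup.orderOf_coe, hz]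
  have hzZ : ((z : M) : G) ∈ Z := ⟨(z : M).2,
    fun m hm => (congrArg Subtype.val (mem_center_iff.mp z.2 ⟨m, hm⟩)).symm, by
      have := pow_orderOf_eq_one ((z : M) : G)
      rwa [hzo, sq] at this⟩
  -- those centralised by `s`
  have hsM : s ∉ M := fun hsM => by
    have h1 := mul_mem ((mem_normalizer_iff.mp (hMn r (hp.r_mem h)) s).mp hsM) hsM
    rw [show r * s * r⁻¹ * s = r * (s * r⁻¹ * s) by group, ← zpow_neg_one, hp.s_conj_zpow h,
      zpow_neg_one, inv_inv] at h1
    have h2 := Subgroup.orderOf_dvd_natCard _ (hMP h1)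
    have h3 : orderOf (r * r) = p := by
      rw [← sq, orderOf_pow' r two_ne_zero, hp.ord,
        (Nat.coprime_two_right.mpr (hp.odd_p h)).gcd_eq_one, Nat.div_one]
    rw [h3, hPc, hp.card] at h2
    exact hp.p_ne ((Nat.prime_dvd_prime_iff_eq hp.prime Nat.prime_two).mp (hp.prime.dvd_of_dvd_pow h2))
  have huniq : ∀ t ∈ Z, t ≠ 1 → Commute t s →
      centralizer ({t} : Set G) = P ∧ orderOf t = 2 := by
    rintro t ⟨htM, htc, htt⟩ ht1 hts
    have hto : orderOf t = 2 := orderOf_eq_prime (by rw [sq]; exact htt) ht1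
    refine ⟨?_, hto⟩
    set C := centralizer ({t} : Set G) with hC
    have hMC : M ≤ C := fun m hm => mem_centralizer_singleton_iff.mpr (htc m hm).symm
    have hsC : s ∈ C := mem_centralizer_singleton_iff.mpr hts.symm.eq
    have hlt : M < C ⊓ P := lt_of_le_of_ne (le_inf hMC hMP) fun e => hsM (e ▸ ⟨hsC, hsP⟩)
    have hCP : C ⊓ P = P := by
      refine Subgroup.eq_of_le_of_card_ge inf_le_right ?_
      obtain ⟨k, hk⟩ := Subgroup.card_dvd_of_le hlt.le
      rcases k with _ | _ | k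
      · have := Nat.card_pos (α := (C ⊓ P : Subgroup G))
        omega
      · exact absurd (Subgroup.eq_of_le_of_card_ge hlt.le (by omega)) hlt.ne
      · rw [hk, hPc, ← hMc, mul_comm 2]
        exact Nat.mul_le_mul_left _ (by omega)
    exact (Subgroup.eq_of_le_of_card_ge (inf_eq_right.mp hCP)
      (by rw [hPc, (hp.card_centralizer h hto).1])).symm
  haveI : IsMulCommutative Z := ⟨⟨fun a b => Subtype.ext (a.2.2.1 _ b.2.1)⟩⟩
  let φ : Z →* Z := MonoidHom.mk' (fun a => a * ⟨s * (a : G) * s⁻¹, hconj s (hp.s_mem h) _ a.2⟩)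
    fun a b => by
      refine Subtype.ext ?_
      push_cast
      rw [show s * ((a : G) * b) * s⁻¹ = (s * (a : G) * s⁻¹) * (s * (b : G) * s⁻¹) by group]
      exact (show Commute (b : G) (s * (a : G) * s⁻¹) from
        b.2.2.1 _ (hconj s (hp.s_mem h) _ a.2).1).mul_mul_mul_comm _ _
  set C : Set Z := {a | s * (a : G) * s⁻¹ = a} with hC
  have hCcard : C.ncard ≤ 2 := by
    by_cases hex : ∃ t : Z, t ∈ C ∧ t ≠ 1
    · obtain ⟨t, ht, ht1⟩ := hex
      have hsub : C ⊆ {1, t} := fun a ha => by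
        by_cases ha1 : a = 1
        · exact Or.inl ha1
        refine Or.inr (Subtype.ext ?_)
        obtain ⟨h1, h2⟩ := huniq a a.2 (fun e => ha1 (Subtype.ext e))
          (show Commute (a : G) s from (mul_inv_eq_iff_eq_mul.mp ha).symm)
        obtain ⟨h3, h4⟩ := huniq t t.2 (fun e => ht1 (Subtype.ext e))
          (show Commute (t : G) s from (mul_inv_eq_iff_eq_mul.mp ht).symm)
        exact hp.eq_of_centralizer_eq h h2 h4 (h1.trans h3.symm)
      exact (Set.ncard_le_ncard hsub (Set.toFinite _)).trans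
        ((Set.ncard_insert_le _ _).trans (by rw [Set.ncard_singleton]))
    · push Not at hex
      exact (Set.ncard_le_ncard (t := {1}) (fun a ha => hex a ha) (Set.toFinite _)).trans
        (by rw [Set.ncard_singleton]; norm_num)
  have hker : (φ.ker : Set Z) ⊆ C := fun a ha => by
    have h1 : (a : G) * (s * (a : G) * s⁻¹) = 1 := congrArg Subtype.val (MonoidHom.mem_ker.mp ha)
    exact (eq_inv_of_mul_eq_one_right h1).trans (inv_eq_of_mul_eq_one_right a.2.2.2)
  have hran : (φ.range : Set Z) ⊆ C := by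
    rintro _ ⟨a, rfl⟩
    show s * ((a : G) * (s * (a : G) * s⁻¹)) * s⁻¹ = (a : G) * (s * (a : G) * s⁻¹)
    rw [a.2.2.1 _ (hconj s (hp.s_mem h) _ a.2).1, hp.s_inv h]
    have hss := hp.mul_self_s h
    calc s * (s * (a : G) * s * a) * s = (s * s) * (a : G) * s * a * s := by group
      _ = (a : G) * (s * a * s) := by rw [hss, one_mul]; group
      _ = _ := by
        have := a.2.2.1 _ (hconj s (hp.s_mem h) _ a.2).1
        rw [hp.s_inv h] at this
        exact this
  have hZle : Nat.card Z ≤ 4 := by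
    rw [← φ.ker.card_mul_index, Subgroup.index_ker]
    calc Nat.card φ.ker * Nat.card φ.range
        = (φ.ker : Set Z).ncard * (φ.range : Set Z).ncard := by
          rw [← Nat.card_coe_set_eq, ← Nat.card_coe_set_eq]; rfl
      _ ≤ C.ncard * C.ncard :=
          Nat.mul_le_mul (Set.ncard_le_ncard hker (Set.toFinite _))
            (Set.ncard_le_ncard hran (Set.toFinite _))
      _ ≤ 4 := Nat.mul_le_mul hCcard hCcard
  have hZ2 : 2 ≤ Nat.card Z := by
    rw [← hzo]
    exact Nat.le_of_dvd Nat.card_pos (Subgroup.orderOf_dvd_natCard Z hzZ)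
  -- `r` acts without fixed points
  letI : MulAction (zpowers r) Z :=
    { smul := fun w a => ⟨(w : G) * (a : G) * (w : G)⁻¹,
        hconj _ ((zpowers_le.mpr (hp.r_mem h)) w.2) _ a.2⟩
      one_smul := fun a => Subtype.ext (show ((1 : zpowers r) : G) * a * ((1 : zpowers r) : G)⁻¹ = a by
        simp)
      mul_smul := fun w w' a => Subtype.ext (show ((w * w' : zpowers r) : G) * a *
          ((w * w' : zpowers r) : G)⁻¹ = (w : G) * ((w' : G) * a * (w' : G)⁻¹) * (w : G)⁻¹ by
        simp [mul_assoc]) }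
  have hfixed : fixedPoints (zpowers r) Z = {1} := by
    ext a
    constructor
    · intro ha
      have h1 : r * (a : G) * r⁻¹ = a := congrArg Subtype.val (ha ⟨r, mem_zpowers r⟩)
      have h2 := Subgroup.orderOf_dvd_natCard _ (hp.mem_zpowers_of_commute h
        (show Commute (a : G) r from (mul_inv_eq_iff_eq_mul.mp h1).symm))
      rw [hp.card_zpowers_r h] at h2
      refine Set.mem_singleton_iff.mpr (Subtype.ext (orderOf_eq_one_iff.mp
        (Nat.Coprime.eq_one_of_dvd ?_ h2)))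
      refine Nat.Coprime.of_dvd_left
        (orderOf_dvd_of_pow_eq_one (x := (a : G)) (n := 2) (by rw [sq]; exact a.2.2.2)) ?_
      exact Nat.coprime_two_left.mpr (hp.odd_p h)
    · rintro rfl w
      exact Subtype.ext (by show (w : G) * 1 * (w : G)⁻¹ = 1; group)
  have hmod := (IsPGroup.of_card (n := 1) (by rw [hp.card_zpowers_r h, pow_one]) :
    IsPGroup p (zpowers r)).card_modEq_card_fixedPoints Z
  rw [hfixed, Nat.card_coe_set_eq, Set.ncard_singleton] at hmod
  have hdvd := (Nat.modEq_iff_dvd' (by omega : 1 ≤ Nat.card Z)).mp hmod.symm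
  have h3 := Nat.le_of_dvd (by omega) hdvd
  have := hp.p_ne
  have := hp.prime.two_le
  omega

end Pivot

/-- **P3, abstract half**: the order of `E` is eight. -/
theorem SemiData.card_eq_eight {τ : G → E} {A : Subgroup G} (h : SemiData τ A) :
    Nat.card E = 8 := by
  obtain ⟨p, r, s, c, hp⟩ := h.exists_pivot
  rw [hp.card, hp.prime_eq_three h]
  norm_num

end Cfsg.Agent.H26.Asch
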