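import Cfsg.Agent.H26.Asch.ClassFused
import Cfsg.Agent.H26.Asch.SemiEight

/-!
CLASS from `ClassData`, or the residue `|E| = 8`: the image of `classGroup` on `K / N` is a faithful
linear group with the classes as affine points, to which the abstract theorem applies.
-/

set_option autoImplicit false
set_option linter.style.haveILetI false

namespace Cfsg.Agent.H26.Asch

open Subgroup MulAction
open Cfsg.Agent.H6.Asch (normAt centAt)
open scoped commutatorElement

universe u v

variable {G : Type u} [Group G] [Finite G] {Ω : Type v} [MulAction G Ω]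

/-- The order of an affine semilinear group without translations. -/
theorem SemiData.card_group {M : Type u} [Group M] [Finite M] {V : Type u} [AddCommGroup V]
    [Finite V] [DistribMulAction M V] {τ : M → V} {A : Subgroup M} (hd : SemiData τ A) :
    Nat.card M = 168 := by
  obtain ⟨p, r, s, c, hp⟩ := hd.exists_pivot
  rw [hp.card_group hd, hp.card, hp.prime_eq_three hd]
  norm_num

namespace ClassData

variable {u : G} {x : Ω} {E R K N A : Subgroup G} (h : ClassData u x E R K N A)
include h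

/-- **CLASS**, or the residue. -/
theorem fused_or_residue :
    (∀ g ∈ normAt x E, ∃ c ∈ centAt x E, g * u * g⁻¹ = c * u * c⁻¹) ∨
      ClassResidue u x E R K N A := by
  classical
  rcases h.fused_or_faithful with hf | ⟨hinv, horbit, hfaith⟩
  · exact Or.inl hf
  right
  set C := classGroup x E R with hC
  have hKC : K ≤ C := fun k hk => h.R_le_classGroup (h.K_le hk)
  have hNC : N ≤ C := fun n hn => hKC (h.N_le hn)
  haveI hNn : (N.subgroupOf C).Normal :=
    ⟨fun n hn g => mem_subgroupOf.mpr (h.conj_N g.2 (mem_subgroupOf.mp hn))⟩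
  haveI hKn : (K.subgroupOf C).Normal :=
    ⟨fun n hn g => mem_subgroupOf.mpr (hinv g g.2 n (mem_subgroupOf.mp hn))⟩
  let π := QuotientGroup.mk' (N.subgroupOf C)
  have hπ : ∀ a b : C, π a = π b ↔ (a : G)⁻¹ * b ∈ N := fun a b => by
    rw [QuotientGroup.mk'_apply, QuotientGroup.mk'_apply, QuotientGroup.eq]
    rfl
  set KC : Subgroup (C ⧸ N.subgroupOf C) := (K.subgroupOf C).map π with hKCdef
  haveI : KC.Normal := (inferInstance : (K.subgroupOf C).Normal).map π
    (QuotientGroup.mk'_surjective _)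
  have hcomm : ∀ a b : KC, a * b = b * a := by
    rintro ⟨_, a, ha, rfl⟩ ⟨_, b, hb, rfl⟩
    refine Subtype.ext ?_
    show π a * π b = π b * π a
    rw [← _root_.map_mul, ← _root_.map_mul, hπ]
    have h1 := h.commutator_mem (h.K_le (K.inv_mem (mem_subgroupOf.mp hb)))
      (h.K_le (K.inv_mem (mem_subgroupOf.mp ha)))
    rw [commutatorElement_def] at h1
    push_cast
    convert h1 using 1
    group
  letI : CommGroup KC := { (inferInstance : Group KC) with mul_comm := hcomm }
  let η : C →* MulAut KC := (MulAut.conjNormal (H := KC)).comp π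
  have hη : ∀ (g : C) (k : KC), ((η g k : KC) : C ⧸ N.subgroupOf C) = π g * k * (π g)⁻¹ :=
    fun g k => MulAut.conjNormal_apply _ _
  -- the kernel
  have hker : ∀ d : C, η d = 1 ↔ ∀ k ∈ K, ⁅(d : G), k⁆ ∈ N := by
    intro d
    constructor
    · intro h1 k hk
      have h2 := congrArg (fun f : MulAut KC =>
        ((f ⟨π ⟨k, hKC hk⟩, ⟨k, hKC hk⟩, mem_subgroupOf.mpr hk, rfl⟩ : KC) : C ⧸ N.subgroupOf C)) h1
      simp only [hη, MulAut.one_apply] at h2
      rw [← _root_.map_mul, ← _root_.map_inv, ← _root_.map_mul, hπ] at h2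
      push_cast at h2
      have h3 := h.conj_N (hKC hk) (N.inv_mem h2)
      convert h3 using 1
      rw [commutatorElement_def]
      group
    · intro h1
      refine MulEquiv.ext fun k => Subtype.ext ?_
      obtain ⟨_, k, hk, rfl⟩ := k
      rw [hη, MulAut.one_apply]
      show π d * π k * (π d)⁻¹ = π k
      rw [← _root_.map_mul, ← _root_.map_inv, ← _root_.map_mul, hπ]
      have h2 := h.conj_N (C.inv_mem (hKC (mem_subgroupOf.mp hk)))
        (N.inv_mem (h1 k (mem_subgroupOf.mp hk)))
      push_cast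
      convert h2 using 1
      rw [commutatorElement_def]
      group
  -- classes
  let cls : C → KC := fun g => ⟨π ⟨(g : G) * u * (g : G)⁻¹ * u, hKC (h.conj_mul_mem g g.2)⟩,
    ⟨(g : G) * u * (g : G)⁻¹ * u, hKC (h.conj_mul_mem g g.2)⟩,
    mem_subgroupOf.mpr (h.conj_mul_mem g g.2), rfl⟩
  have hclsmul : ∀ g g' : C, cls (g * g') = cls g * η g (cls g') := by
    intro g g'
    rw [hcomm]
    refine Subtype.ext ?_
    rw [Subgroup.coe_mul, hη]
    show π _ = π g * π _ * (π g)⁻¹ * π _
    rw [← _root_.map_mul, ← _root_.map_inv, ← _root_.map_mul, ← _root_.map_mul]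
    congr 1
    exact Subtype.ext (h.class_mul (g : G) (g' : G))
  have hcls0 : ∀ g : C, cls g = 1 ↔ (g : G) * u * (g : G)⁻¹ * u ∈ N := by
    intro g
    rw [Subtype.ext_iff, OneMemClass.coe_one]
    show π _ = 1 ↔ _
    rw [QuotientGroup.mk'_apply, QuotientGroup.eq_one_iff]
    rfl
  have hwd : ∀ g g' : C, η g = η g' → cls g = cls g' := by
    intro g g' hgg
    have hd : η (g⁻¹ * g') = 1 := by rw [_root_.map_mul, _root_.map_inv, hgg, inv_mul_cancel]
    have h1 := (hcls0 (g⁻¹ * g')).mpr (hfaith _ (g⁻¹ * g').2 ((hker _).mp hd))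
    have h2 := hclsmul g (g⁻¹ * g')
    rw [mul_inv_cancel_left, h1, _root_.map_one, mul_one] at h2
    exact h2.symm
  -- the linear group and its module
  letI : DistribMulAction η.range (Additive KC) :=
    { smul := fun g v => Additive.ofMul ((g : MulAut KC) v.toMul)
      one_smul := fun v => rfl
      mul_smul := fun g g' v => rfl
      smul_zero := fun g => congrArg Additive.ofMul (_root_.map_one (g : MulAut KC))
      smul_add := fun g v w => congrArg Additive.ofMul (_root_.map_mul (g : MulAut KC) v.toMul w.toMul) }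
  have hsmul : ∀ (g : C) (k : KC),
      η.rangeRestrict g • Additive.ofMul k = Additive.ofMul (η g k) := fun _ _ => rfl
  choose lift hlift using fun g : η.range => η.rangeRestrict_surjective g
  have hlift' : ∀ g : C, cls (lift (η.rangeRestrict g)) = cls g := fun g =>
    hwd _ _ (congrArg Subtype.val (hlift (η.rangeRestrict g)))
  let τ : η.range → Additive KC := fun g => Additive.ofMul (cls (lift g))
  have hτ : ∀ g : C, τ (η.rangeRestrict g) = Additive.ofMul (cls g) := fun g =>
    congrArg Additive.ofMul (hlift' g)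
  set A' : Subgroup η.range := (A.subgroupOf C).map η.rangeRestrict with hA'
  have hcardKC : Nat.card KC = Nat.card E := by
    set θ : K →* C ⧸ N.subgroupOf C := π.comp (Subgroup.inclusion hKC) with hθ
    have hr : θ.range = KC := by
      ext z
      constructor
      · rintro ⟨k, rfl⟩; exact ⟨⟨k, hKC k.2⟩, mem_subgroupOf.mpr k.2, rfl⟩
      · rintro ⟨k, hk, rfl⟩; exact ⟨⟨k, mem_subgroupOf.mp hk⟩, rfl⟩
    have hk : θ.ker = N.subgroupOf K := by
      ext k
      rw [MonoidHom.mem_ker, hθ, MonoidHom.comp_apply, QuotientGroup.mk'_apply,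
        QuotientGroup.eq_one_iff]
      rfl
    have h1 := θ.ker.card_mul_index
    rw [Subgroup.index_ker, hr, hk, Nat.card_congr (Subgroup.subgroupOfEquivOfLe h.N_le).toEquiv,
      h.card_K, mul_comm] at h1
    exact Nat.eq_of_mul_eq_mul_right Nat.card_pos h1
  have htorus : Torus A' (Additive KC) := by
    refine ⟨fun v => ?_, ?_, ?_, fun v w hv hw => ?_⟩
    · obtain ⟨⟨_, k, hk, rfl⟩, rfl⟩ : ∃ k : KC, Additive.ofMul k = v := ⟨v.toMul, rfl⟩
      refine congrArg Additive.ofMul (Subtype.ext ?_)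
      show π k * π k = 1
      rw [← _root_.map_mul, QuotientGroup.mk'_apply, QuotientGroup.eq_one_iff]
      exact mem_subgroupOf.mpr (h.sq_mem _ (h.K_le (mem_subgroupOf.mp hk)))
    · rw [show Nat.card (Additive KC) = Nat.card KC from rfl, hcardKC]; exact h.four_le
    · rintro _ ⟨a, ha, rfl⟩ _ ⟨b, hb, rfl⟩ v
      rw [← mul_smul, ← mul_smul, ← _root_.map_mul, ← _root_.map_mul,
        show a * b = b * a from Subtype.ext (h.A_comm _ (mem_subgroupOf.mp ha) _ (mem_subgroupOf.mp hb)).eq]
    · obtain ⟨⟨_, k, hk, rfl⟩, rfl⟩ : ∃ k : KC, Additive.ofMul k = v := ⟨v.toMul, rfl⟩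
      obtain ⟨⟨_, l, hl, rfl⟩, rfl⟩ : ∃ k : KC, Additive.ofMul k = w := ⟨w.toMul, rfl⟩
      have hne : ∀ (k : C) (hk : k ∈ K.subgroupOf C),
          Additive.ofMul (⟨π k, k, hk, rfl⟩ : KC) ≠ 0 → (k : G) ∉ N := fun k hk hne hN =>
        hne (congrArg Additive.ofMul (Subtype.ext (show π k = 1 by
          rw [QuotientGroup.mk'_apply, QuotientGroup.eq_one_iff]; exact mem_subgroupOf.mpr hN)))
      obtain ⟨a, ha, hal⟩ := h.trans_top _ (mem_subgroupOf.mp hk) _ (mem_subgroupOf.mp hl)
        (hne k hk hv) (hne l hl hw)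
      refine ⟨η.rangeRestrict ⟨a, h.A_le ha⟩, mem_map_of_mem _ (mem_subgroupOf.mpr ha), ?_⟩
      rw [hsmul]
      refine congrArg Additive.ofMul (Subtype.ext ?_)
      rw [hη]
      show π ⟨a, h.A_le ha⟩ * π k * (π ⟨a, h.A_le ha⟩)⁻¹ = π l
      rw [← _root_.map_mul, ← _root_.map_inv, ← _root_.map_mul, hπ]
      have h2 := h.conj_N (C.inv_mem l.2) (N.inv_mem hal)
      have h3 := h.conj_N l.2 h2
      push_cast
      convert h.conj_N (C.mul_mem (C.mul_mem (h.A_le ha) (C.inv_mem k.2)) (C.inv_mem (h.A_le ha)))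
        (N.inv_mem (N.inv_mem (N.inv_mem hal))) using 1
      group
  have hdata : SemiData τ A' := by
    refine ⟨htorus, fun g g' => ?_, fun v => ?_, fun g hg => ?_, ?_, ?_⟩
    · obtain ⟨g, rfl⟩ := η.rangeRestrict_surjective g
      obtain ⟨g', rfl⟩ := η.rangeRestrict_surjective g'
      rw [← _root_.map_mul, hτ, hτ, hτ, hclsmul, hsmul]
      rfl
    · obtain ⟨⟨_, k, hk, rfl⟩, rfl⟩ : ∃ k : KC, Additive.ofMul k = v := ⟨v.toMul, rfl⟩
      obtain ⟨g, hg, hgk⟩ := horbit _ (mem_subgroupOf.mp hk)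
      refine ⟨η.rangeRestrict ⟨g, hg⟩, ?_⟩
      rw [hτ]
      refine congrArg Additive.ofMul (Subtype.ext ?_)
      show π _ = π k
      rw [hπ]
      have h2 := h.conj_N (C.inv_mem k.2) (N.inv_mem hgk)
      push_cast
      convert h.conj_N (C.inv_mem (hKC (h.conj_mul_mem g hg))) (N.inv_mem hgk) using 1
      group
    · refine Subtype.ext (MulEquiv.ext fun k => ?_)
      exact congrArg Additive.toMul (hg (Additive.ofMul k))
    · rintro _ ⟨a, ha, rfl⟩
      rw [hτ]
      have h1 := (hcls0 a).mpr (by rw [h.class_A (mem_subgroupOf.mp ha)]; exact N.one_mem)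
      rw [h1]; rfl
    · intro g hg
      obtain ⟨g, rfl⟩ := η.rangeRestrict_surjective g
      rw [hτ] at hg
      obtain ⟨c, hc, hcu⟩ := h.exists_split g.2 ((hcls0 g).mp (congrArg Additive.toMul hg))
      rintro _ ⟨⟨a, haC⟩, ha, rfl⟩
      have ha' : a ∈ A := mem_subgroupOf.mp ha
      have hwC : c⁻¹ * (g : G) ∈ C := C.mul_mem (C.inv_mem (h.R_le_classGroup hc)) g.2
      set w : C := ⟨c⁻¹ * (g : G), hwC⟩
      obtain ⟨b, hb, hbz⟩ := h.torus_norm _ hwC hcu a ha'
      refine ⟨η.rangeRestrict ⟨b, h.A_le hb⟩, mem_map_of_mem _ (mem_subgroupOf.mpr hb), fun v => ?_⟩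
      have hwg : η w = η g := by
        have h1 : η (w⁻¹ * g) = 1 := (hker _).mpr fun k hk => by
          rw [show ((w⁻¹ * g : C) : G) = (g : G)⁻¹ * c * g by
            show (c⁻¹ * (g : G))⁻¹ * g = _
            group]
          have h2 := h.commutator_mem hc (h.K_le (hinv _ g.2 k hk))
          have h3 := h.conj_N (C.inv_mem g.2) h2
          convert h3 using 1
          simp only [commutatorElement_def]
          group
        rwa [_root_.map_mul, _root_.map_inv, inv_mul_eq_one] at h1
      have hz : η (⟨b, h.A_le hb⟩⁻¹ * (w * ⟨a, haC⟩ * w⁻¹)) = 1 := (hker _).mpr (h.cent_triv _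
        (⟨b, h.A_le hb⟩⁻¹ * (w * ⟨a, haC⟩ * w⁻¹) : C).2 hbz
        ((h.A_commute b hb).inv_left.mul_left ((hcu.mul_left (h.A_commute a ha')).mul_left hcu.inv_left)))
      rw [_root_.map_mul, _root_.map_inv, inv_mul_eq_one, _root_.map_mul, _root_.map_mul,
        _root_.map_inv, hwg] at hz
      rw [← mul_smul, ← mul_smul, mul_assoc]
      refine congrArg Additive.ofMul (congrArg (fun f : MulAut KC => f v.toMul) ?_)
      show η g * (η ⟨a, haC⟩ * (η g)⁻¹) = η ⟨b, h.A_le hb⟩
      rw [hz, mul_assoc]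
  have hE8 : Nat.card E = 8 := by
    rw [← hcardKC, ← hdata.card_eq_eight]; rfl
  refine ⟨h, hE8, hinv, horbit, hfaith, fun Z hZC hZ => ?_⟩
  have h168 := hdata.card_group
  rw [← Subgroup.index_ker] at h168
  have hcard := η.ker.card_mul_index
  rw [h168] at hcard
  rw [← hcard, mul_comm]
  congr 1
  refine Nat.card_congr
    { toFun := fun d => ⟨((d : C) : G), (hZ _).mpr ⟨(d : C).2, (hker _).mp d.2⟩⟩
      invFun := fun z => ⟨⟨z, hZC z.2⟩, (hker _).mpr ((hZ _).mp z.2).2⟩
      left_inv := fun d => rfl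
      right_inv := fun z => rfl }

end ClassData

end Cfsg.Agent.H26.Asch
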