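import Cfsg.Agent.H6.Asch.Chain

/-!
The data on the classes of conjugates of `u` in a Sylow two-subgroup `R` of `C(E)` at `x` used by
CLASS and by the residue `|E| = 8`: `K` of index two in `R`, the elementary quotient `R / N`, and a
torus transitive on `K / N`. The case `R = E × ⟨u⟩`, `K = E`, `N = 1` gives the translations.
-/

set_option autoImplicit false

namespace Cfsg.Agent.H26.Asch

open Subgroup MulAction
open Cfsg.Agent.H6.Asch (normAt centAt)
open scoped commutatorElement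

universe u v

variable {G : Type u} [Group G] {Ω : Type v} [MulAction G Ω]

/-- The stabiliser of `x` in the normalisers of `E` and `R`. -/
def classGroup (x : Ω) (E R : Subgroup G) : Subgroup G := normAt x E ⊓ normalizer (R : Set G)

/-- The classes of conjugates of `u` in `R`: the cosets of `N` in `u K`. -/
structure ClassData (u : G) (x : Ω) (E R K N A : Subgroup G) : Prop where
  R_two : IsPGroup 2 R
  R_le : R ≤ centAt x E
  R_max : ∀ P : Subgroup G, IsPGroup 2 P → P ≤ centAt x E → R ≤ P → P ≤ R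
  u_mem : u ∈ R
  sq_u : u * u = 1
  E_two : ∀ e ∈ E, e * e = 1
  four_le : 4 ≤ Nat.card E
  K_le : K ≤ R
  K_cases : ∀ g ∈ R, g ∈ K ∨ g * u ∈ K
  u_notMem : u ∉ K
  N_le : N ≤ K
  sq_mem : ∀ g ∈ R, g * g ∈ N
  N_invariant : ∀ g ∈ classGroup x E R, ∀ n ∈ N, g * n * g⁻¹ ∈ N
  card_K : Nat.card K = Nat.card E * Nat.card N
  A_le : A ≤ classGroup x E R
  A_commute : ∀ a ∈ A, Commute a u
  A_comm : ∀ a ∈ A, ∀ b ∈ A, Commute a b
  trans : ∀ a ∈ E, ∀ b ∈ E, a ≠ 1 → b ≠ 1 → ∃ k ∈ A, k * a * k⁻¹ = b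
  K_invariant : ∀ a ∈ A, ∀ k ∈ K, a * k * a⁻¹ ∈ K
  trans_top : ∀ k ∈ K, ∀ l ∈ K, k ∉ N → l ∉ N → ∃ a ∈ A, a * k * a⁻¹ * l⁻¹ ∈ N
  /-- The conjugates of `u` in `R` lie outside `K`. -/
  conj_mul_mem : ∀ g ∈ classGroup x E R, g * u * g⁻¹ * u ∈ K
  /-- One coset of `N` holds one class. -/
  filled : ∀ n ∈ N, ∀ g ∈ classGroup x E R, g * u * g⁻¹ = n * u →
    ∃ c ∈ R, g * u * g⁻¹ = c * u * c⁻¹
  /-- Elements centralising `u` and `E` act trivially on `K / N`. -/
  cent_triv : ∀ c ∈ classGroup x E R, c ∈ centAt x E → Commute c u → ∀ k ∈ K, ⁅c, k⁆ ∈ N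
  /-- The elements centralising `u` normalise the image of the torus on `E`. -/
  torus_norm : ∀ g ∈ classGroup x E R, Commute g u → ∀ a ∈ A, ∃ b ∈ A,
    b⁻¹ * (g * a * g⁻¹) ∈ centAt x E

/-- The residue: `|E| = 8`, the classes form one orbit of `classGroup`, `K` is invariant, and only
the elements fixing a class act trivially on `K / N`. -/
structure ClassResidue (u : G) (x : Ω) (E R K N A : Subgroup G) : Prop where
  data : ClassData u x E R K N A
  card_E : Nat.card E = 8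
  invariant : ∀ g ∈ classGroup x E R, ∀ k ∈ K, g * k * g⁻¹ ∈ K
  orbit : ∀ k ∈ K, ∃ g ∈ classGroup x E R, g * u * g⁻¹ * u * k⁻¹ ∈ N
  faithful : ∀ g ∈ classGroup x E R, (∀ k ∈ K, ⁅g, k⁆ ∈ N) → g * u * g⁻¹ * u ∈ N
  card_image : ∀ Z : Subgroup G, Z ≤ classGroup x E R →
    (∀ g, g ∈ Z ↔ g ∈ classGroup x E R ∧ ∀ k ∈ K, ⁅g, k⁆ ∈ N) →
    Nat.card (classGroup x E R) = 168 * Nat.card Z

end Cfsg.Agent.H26.Asch
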