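import Cfsg.Agent.H26.Asch.TorusNorm
import Cfsg.Agent.H6.Asch.Chain
import Cfsg.Agent.H14.Asch.Local

/-!
The elements centralising the bad involution in `N(E)` at `x` normalise the image on `E` of a torus
acting through the odd core at a second fixed point.
-/

set_option autoImplicit false
set_option linter.style.haveILetI false

namespace Cfsg.Agent.H26.Asch

open Subgroup MulAction
open Cfsg.Agent.H14.Asch
open Cfsg.Agent.H73.Asch (Line2)
open Cfsg.Agent.H6.Asch (normAt centAt pairNorm core)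
open scoped commutatorElement Pointwise

universe u v

variable {G : Type u} [Group G] [Finite G] {Ω : Type v} [MulAction G Ω] {D : Set G}

/-- An element centralising `u` in `N(E)` at `x` normalises the image on `E` of an abelian
transitive group acting through `core u x y E`, for a line of every shape. -/
theorem exists_torus_conj (h : Crit G Ω D) {u : G} {x y : Ω} {E Q : Subgroup G}
    (hl : Line2 D u x E Q) (hy : u • y = y) (hyx : y ≠ x) {A : Subgroup G}
    (hA : A ≤ normAt x E) (hcore : ∀ a ∈ A, ∃ b ∈ core u x y E, b⁻¹ * a ∈ centAt x E)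
    (hcomm : ∀ a ∈ A, ∀ b ∈ A, ∀ e ∈ E, ⁅a, b⁆ * e = e * ⁅a, b⁆)
    (htrans : ∀ a ∈ E, ∀ b ∈ E, a ≠ 1 → b ≠ 1 → ∃ k ∈ A, k * a * k⁻¹ = b)
    {g : G} (hg : g ∈ normAt x E) (hgu : Commute g u) {a : G} (ha : a ∈ A) :
    ∃ b ∈ A, b⁻¹ * (g * a * g⁻¹) ∈ centAt x E := by
  classical
  -- move `g` into the stabiliser of `y`
  have hgx : g • x = x := mem_stabilizer_iff.mp (mem_inf.mp hg).1
  have hgy : u • g • y = g • y := smul_fixed_of_commute hgu hy
  have hgyx : g • y ≠ x := fun e => hyx (MulAction.injective g (e.trans hgx.symm))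
  obtain ⟨t, ht, hty⟩ := hl.trans (g • y) y hgy hy hgyx hyx
  have htE : ∀ e ∈ E, Commute e t := fun e he => hl.central e he t ht
  have htN : t ∈ normAt x E := mem_inf.mpr ⟨mem_stabilizer_iff.mpr (line2_smul hl ht),
    centralizer_le_normalizer _ (mem_centralizer_iff.mpr fun e he => (htE e he).eq)⟩
  set g' := t * g with hg'
  have hg'P : g' ∈ pairNorm u x y E := mem_inf.mpr ⟨mem_pairStab.mpr
    ⟨by rw [hg', mul_smul, hgx, line2_smul hl ht], by rw [hg', mul_smul, hty]⟩,
    mem_inf.mpr ⟨mul_mem htN hg,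
      mem_centralizer_singleton_iff.mpr ((line2_commute hl ht).mul_left hgu).eq⟩⟩
  letI : CommGroup E :=
    { (inferInstance : Group E) with
      mul_comm := fun a b => Subtype.ext (hl.central _ a.2 _ (hl.E_le b.2)).eq }
  letI : DistribMulAction (MulAut E) (Additive E) :=
    { smul := fun m e => Additive.ofMul (m (Additive.toMul e))
      one_smul := fun e => rfl
      mul_smul := fun m n e => rfl
      smul_zero := fun m => map_one m
      smul_add := fun m a b => map_mul m a.toMul b.toMul }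
  haveI : Finite (MulAut E) := Finite.of_injective (fun f => (f : E → E)) DFunLike.coe_injective
  let θ : normAt x E →* MulAut E :=
    (normalizerMonoidHom E).comp (Subgroup.inclusion inf_le_right)
  have hθ : ∀ (k : normAt x E) (e : E), ((θ k e : E) : G) = (k : G) * e * (k : G)⁻¹ := fun _ _ => rfl
  set AT := (A.subgroupOf (normAt x E)).map θ with hAT
  set O := ((core u x y E).subgroupOf (normAt x E)).map θ with hO
  have hcN : ∀ b ∈ core u x y E, b ∈ normAt x E := by
    rintro _ ⟨b, -, rfl⟩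
    exact (mem_inf.mp (mem_inf.mp b.2).2).1
  -- elements of `A` congruent modulo the centraliser act alike
  have hact : ∀ (k l : normAt x E), (k : G)⁻¹ * l ∈ centAt x E → θ k = θ l := by
    intro k l hkl
    refine MulEquiv.ext fun e => Subtype.ext ?_
    rw [hθ, hθ]
    have h1 := mem_centralizer_iff.mp (mem_inf.mp hkl).2 e e.2
    calc (k : G) * e * (k : G)⁻¹ = k * (e * ((k : G)⁻¹ * l)) * (l : G)⁻¹ := by group
      _ = _ := by rw [h1]; group
  have hT : Torus AT (Additive E) := by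
    refine ⟨fun e => ?_, hl.four_le.trans_eq (Nat.card_congr Additive.ofMul), ?_, fun p q hp hq => ?_⟩
    · apply Additive.toMul.injective
      exact Subtype.ext (line2_mul_self hl h (Additive.toMul e).2)
    · rintro _ ⟨k, hk, rfl⟩ _ ⟨l, hl', rfl⟩ e
      rw [← mul_smul, ← mul_smul, ← map_mul, ← map_mul]
      congr 1
      refine hact _ _ (mem_inf.mpr ⟨?_, mem_centralizer_iff.mpr fun f hf => ?_⟩)
      · push_cast
        exact mul_mem (inv_mem (mul_mem (mem_inf.mp k.2).1 (mem_inf.mp l.2).1))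
          (mul_mem (mem_inf.mp l.2).1 (mem_inf.mp k.2).1)
      · have h1 := hcomm _ (inv_mem (mem_subgroupOf.mp hl')) _
          (inv_mem (mem_subgroupOf.mp hk)) f hf
        rw [commutatorElement_def, inv_inv, inv_inv] at h1
        push_cast
        rw [mul_inv_rev, ← mul_assoc ((l : G)⁻¹ * (k : G)⁻¹)]
        exact h1.symm
    · obtain ⟨k, hk, hkab⟩ := htrans _ (Additive.toMul p).2 _ (Additive.toMul q).2
        (fun e => hp (by apply Additive.toMul.injective; exact Subtype.ext e))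
        (fun e => hq (by apply Additive.toMul.injective; exact Subtype.ext e))
      refine ⟨θ ⟨k, hA hk⟩, mem_map_of_mem _ (mem_subgroupOf.mpr hk), ?_⟩
      apply Additive.toMul.injective
      exact Subtype.ext hkab
  have hATO : AT ≤ O := by
    rintro _ ⟨k, hk, rfl⟩
    obtain ⟨b, hb, hbk⟩ := hcore _ (mem_subgroupOf.mp hk)
    exact ⟨⟨b, hcN b hb⟩, mem_subgroupOf.mpr hb, hact _ _ hbk⟩
  have hodd : Odd (Nat.card O) := by
    refine Odd.of_dvd_nat ?_ (card_map_dvd _ θ)
    rw [Nat.card_congr (subgroupOfEquivOfLe hcN).toEquiv]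
    exact Odd.of_dvd_nat Cores.odd_card_oddCore (card_map_dvd _ _)
  have hg'N : g' ∈ normAt x E := mul_mem htN hg
  have hnorm : ∀ o ∈ O, θ ⟨g', hg'N⟩ * o * (θ ⟨g', hg'N⟩)⁻¹ ∈ O := by
    rintro _ ⟨o, ho, rfl⟩
    rw [← map_inv, ← map_mul, ← map_mul]
    obtain ⟨o', ho', hoo⟩ := mem_subgroupOf.mp ho
    refine mem_map_of_mem _ (mem_subgroupOf.mpr ⟨⟨g', hg'P⟩ * o' * ⟨g', hg'P⟩⁻¹,
      (inferInstance : (Cfsg.oddCore (pairNorm u x y E)).Normal).conj_mem o' ho' _, ?_⟩)
    push_cast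
    rw [← hoo]; rfl
  obtain ⟨_, ⟨b, hb, rfl⟩, hbe⟩ :=
    hT.normImage_of_odd hATO hodd hnorm (θ ⟨a, hA ha⟩) (mem_map_of_mem _ (mem_subgroupOf.mpr ha))
  refine ⟨b, mem_subgroupOf.mp hb, mem_inf.mpr ⟨mul_mem (inv_mem (mem_inf.mp b.2).1)
    (mul_mem (mul_mem (mem_inf.mp hg).1 (mem_inf.mp (hA ha)).1) (inv_mem (mem_inf.mp hg).1)),
    mem_centralizer_iff.mpr fun e he => ?_⟩⟩
  have hb' : ∀ f ∈ E, (b : G) * f * (b : G)⁻¹ = g' * (a * (g'⁻¹ * f * g') * a⁻¹) * g'⁻¹ := by
    intro f hf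
    have h1 := congrArg (fun z : Additive E => ((Additive.toMul z : E) : G))
      (hbe (Additive.ofMul (⟨f, hf⟩ : E)))
    simp only [← map_inv] at h1
    change (g' : G) * (a * (g'⁻¹ * f * g'⁻¹⁻¹) * a⁻¹) * g'⁻¹ = b * f * (b : G)⁻¹ at h1
    rw [inv_inv] at h1
    exact h1.symm
  have htc : ∀ f ∈ E, t⁻¹ * f * t = f := fun f hf => by
    rw [mul_assoc, (htE f hf).eq, inv_mul_cancel_left]
  set f := (g * a * g⁻¹) * e * (g * a * g⁻¹)⁻¹ with hf
  have hfE : f ∈ E :=
    (mem_normalizer_iff.mp (mul_mem (mul_mem (mem_inf.mp hg).2 (mem_inf.mp (hA ha)).2)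
      (inv_mem (mem_inf.mp hg).2)) e).mp he
  have h2 : (b : G) * e * (b : G)⁻¹ = f := by
    have h3 : g * (a * (g⁻¹ * e * g) * a⁻¹) * g⁻¹ = f := by rw [hf]; group
    rw [hb' e he, hg', show (t * g)⁻¹ * e * (t * g) = g⁻¹ * (t⁻¹ * e * t) * g by group, htc e he,
      show t * g * (a * (g⁻¹ * e * g) * a⁻¹) * (t * g)⁻¹ =
        t * (g * (a * (g⁻¹ * e * g) * a⁻¹) * g⁻¹) * t⁻¹ by group, h3, ← (htE f hfE).eq,
      mul_inv_cancel_right]
  have h4 : (b : G)⁻¹ * (g * a * g⁻¹) * e * ((b : G)⁻¹ * (g * a * g⁻¹))⁻¹ = e := by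
    calc (b : G)⁻¹ * (g * a * g⁻¹) * e * ((b : G)⁻¹ * (g * a * g⁻¹))⁻¹
        = (b : G)⁻¹ * f * b := by rw [hf]; group
      _ = e := by rw [← h2]; group
  exact (mul_inv_eq_iff_eq_mul.mp h4).symm

end Cfsg.Agent.H26.Asch
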