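import Cfsg.Agent.H26.Asch.Classes
import Cfsg.Agent.H26.Asch.TorusNormal
import Cfsg.Agent.H6.Asch.Adapter

/-!
`ClassData` for a line with `Q = E`: `K = ⁅R, A⁆` and `N` the Frattini part of `R`.
-/

set_option autoImplicit false
set_option linter.style.haveILetI false

namespace Cfsg.Agent.H26.Asch

open Subgroup MulAction
open Cfsg.Agent.H14.Asch
open Cfsg.Agent.H73.Asch (Line2 RankOnePairs)
open Cfsg.Agent.H6.Asch (normAt centAt pairNorm core)
open Cfsg.Agent.H51.Asch (ShapeOneChain HasTranslation coreStab TorusData nxt norm_nxt sq_mem_nxt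
  comm_mem_nxt)
open scoped commutatorElement

universe u v

variable {G : Type u} [Group G] [Finite G]

/-- A subgroup element normalising a two-group `R` and centralising `u` and `E` acts on `R` as an
element of `R`, when `R` is maximal among the two-groups of an overgroup. -/
theorem exists_mem_conj_eq {R E A S : Subgroup G} {u : G} (htd : TorusData R E A u) (hRS : R ≤ S)
    (hmax : ∀ P : Subgroup G, IsPGroup 2 P → P ≤ S → R ≤ P → P ≤ R)
    (hSE : ∀ s ∈ S, ∀ e ∈ E, Commute e s) {k : G} (hkS : k ∈ S)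
    (hkR : k ∈ normalizer (R : Set G)) (hku : Commute k u) :
    ∃ r ∈ R, ∀ z ∈ R, k * z * k⁻¹ = r * z * r⁻¹ := by
  haveI : Fact (Nat.Prime 2) := ⟨Nat.prime_two⟩
  set d := orderOf k with hd
  set v := d.factorization 2 with hv
  have hdiv : 2 ^ v ∣ d := Nat.ordProj_dvd _ _
  have hdm : ¬ 2 ∣ d / 2 ^ v := Nat.not_dvd_ordCompl Nat.prime_two (orderOf_pos k).ne'
  set o := k ^ (2 ^ v) with ho
  set t := k ^ (d / 2 ^ v) with ht
  -- the `2`-part lies in `R`
  have htR : t ∈ R := by
    have ht2 : IsPGroup 2 (zpowers t) := by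
      intro y
      refine ⟨v, Subtype.ext ?_⟩
      obtain ⟨i, hi⟩ := mem_zpowers_iff.mp y.2
      push_cast
      rw [← hi, ← zpow_natCast (t ^ i) (2 ^ v), ← zpow_mul, mul_comm, zpow_mul, zpow_natCast, ht,
        ← pow_mul, Nat.div_mul_cancel hdiv, hd, pow_orderOf_eq_one, one_zpow]
    exact hmax (R ⊔ zpowers t)
      (htd.two.to_sup_of_normal_left' ht2 (zpowers_le.mpr (pow_mem hkR _)))
      (sup_le hRS (zpowers_le.mpr (pow_mem hkS _))) le_sup_left (mem_sup_right (mem_zpowers t))
  -- the odd part centralises `R`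
  have hoR : o ∈ centralizer (R : Set G) := by
    have hodd : Nat.Coprime (orderOf o) 2 := by
      rw [ho, orderOf_pow' k (by positivity), Nat.gcd_eq_right hdiv]
      exact (Nat.prime_two.coprime_iff_not_dvd.mpr hdm).symm
    have hou : Commute o u := hku.pow_left _
    refine Coprime.thompson_AxB (P := zpowers u) (Q := zpowers o) htd.isPGroup_zpowers_u
      (by rwa [Nat.card_zpowers]) ?_ R htd.two ((zpowers_le.mpr htd.u_mem).trans le_normalizer)
      (zpowers_le.mpr (pow_mem hkR _)) ?_ (mem_zpowers o)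
    · rw [zpowers_le, mem_centralizer_iff]
      rintro _ ⟨i, rfl⟩
      exact (hou.zpow_left i).eq
    · intro y hy
      rw [mem_centralizer_iff]
      rintro _ ⟨i, rfl⟩
      have hoS : o ∈ S := pow_mem hkS _
      have hoy : Commute o y := by
        rcases htd.cent y hy.1 (mem_centralizer_iff.mp hy.2 u (mem_zpowers u)).symm with h1 | h1
        · exact (hSE o hoS y h1).symm
        · rw [show y = y * u * u by rw [mul_assoc, htd.sq_u, mul_one]]
          exact ((hSE o hoS _ h1).symm).mul_right hou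
      exact (hoy.zpow_left i).eq
  have hco : Nat.Coprime (2 ^ v) (d / 2 ^ v) :=
    (Nat.prime_two.coprime_iff_not_dvd.mpr hdm).pow_left v
  have hsplit : k = t ^ Nat.gcdB (2 ^ v) (d / 2 ^ v) * o ^ Nat.gcdA (2 ^ v) (d / 2 ^ v) := by
    have h1 := Nat.gcd_eq_gcd_ab (2 ^ v) (d / 2 ^ v)
    rw [hco.gcd_eq_one] at h1
    rw [ho, ht, ← zpow_natCast k, ← zpow_natCast k, ← zpow_mul, ← zpow_mul, ← zpow_add,
      add_comm, ← h1]
    simp
  refine ⟨t ^ Nat.gcdB (2 ^ v) (d / 2 ^ v), zpow_mem htR _, fun z hz => ?_⟩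
  have hoz : Commute (o ^ Nat.gcdA (2 ^ v) (d / 2 ^ v)) z :=
    Commute.zpow_left (Commute.symm (mem_centralizer_iff.mp hoR z hz)) _
  conv_lhs => rw [hsplit]
  rw [mul_inv_rev, show ∀ p q : G, p * q * z * (q⁻¹ * p⁻¹) = p * (q * z * q⁻¹) * p⁻¹ from
    fun p q => by group, hoz.eq, mul_inv_cancel_right]

variable {Ω : Type v} [MulAction G Ω] [Finite Ω] {D : Set G} {u : G} {x y : Ω} {E R A : Subgroup G}

/-- `ClassData` from the chain of a line with `Q = E`. -/
theorem classData_shapeOne (h : Crit G Ω D) (hl : Line2 D u x E E)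
    (hy : u • y = y) (hyx : y ≠ x)
    (c : ShapeOneChain D u x E R A) (hA : A ≤ core u x y E) :
    ClassData u x E R ⁅R, A⁆ (nxt R R) A := by
  have htd := c.torus
  have hAnorm : A ≤ normAt x E := fun a ha =>
    mem_inf.mpr ⟨mem_stabilizer_iff.mpr (c.torus_fix a ha), htd.normE ha⟩
  have hNR : R ≤ normalizer (nxt R R : Set G) := norm_nxt le_normalizer le_normalizer
  refine
    { R_two := htd.two
      R_le := c.maxTwo.2.1
      R_max := fun P h1 h2 h3 => (c.maxTwo.2.2 P h1 h2 h3).le
      u_mem := htd.u_mem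
      sq_u := htd.sq_u
      E_two := htd.sq
      four_le := htd.four_le
      K_le := htd.commutator_le
      K_cases := fun _ hg => htd.mem_or_mul_mem hg
      u_notMem := htd.u_notMem_commutator
      N_le := htd.nxt_le_commutator
      sq_mem := fun _ hg => sq_mem_nxt hg
      N_invariant := fun g hg n hn =>
        (mem_normalizer_iff.mp (norm_nxt inf_le_right inf_le_right hg) n).mp hn
      card_K := htd.frattini_data.1
      A_le := le_inf hAnorm htd.normM
      A_commute := fun a ha => mul_inv_eq_iff_eq_mul.mp (htd.fix a ha)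
      A_comm := fun a ha b hb => congrArg Subtype.val (htd.comm ⟨a, ha⟩ ⟨b, hb⟩)
      trans := fun a ha b hb ha1 hb1 => htd.trans a ha ha1 b hb hb1
      K_invariant := fun _ ha k hk =>
        (mem_normalizer_iff.mp (normalizer_commutator_ge_right R A ha) k).mp hk
      trans_top := ?_
      conj_mul_mem := fun g hg =>
        c.conj_mul_mem ((mem_normalizer_iff.mp (mem_inf.mp hg).2 u).mp htd.u_mem)
      filled := ?_
      cent_triv := ?_
      torus_norm := ?_ }
  · intro k hk l hl' hkN hlN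
    obtain ⟨a, ha, hal⟩ := (htd.card_mul_le (S := nxt R R) (K := ⁅R, A⁆) htd.nxt_le_commutator
      htd.commutator_le (norm_nxt htd.normM htd.normM) (normalizer_commutator_ge_right R A)
      (Or.inr htd.u_notMem_commutator) hk hkN).2 htd.frattini_data.1.le l hl' hlN
    refine ⟨a, ha, ?_⟩
    set p := a * k * a⁻¹ with hp
    have hpR : p ∈ R := (mem_normalizer_iff.mp (htd.normM ha) k).mp (htd.commutator_le hk)
    have h1 := (mem_normalizer_iff.mp (hNR hpR) _).mp (inv_mem hal)
    rwa [show p * (p⁻¹ * l)⁻¹ * p⁻¹ = p * l⁻¹ by group] at h1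
  · intro n hn g _ hgn
    obtain ⟨k, hk, hkn⟩ := htd.exists_conj_of_mem htd.u_mem (htd.card_centralized_le le_rfl) hn
    exact ⟨k, hk, hgn.trans hkn.symm⟩
  · intro g hg hgE hgu k hk
    obtain ⟨r, hr, hrz⟩ := exists_mem_conj_eq htd c.maxTwo.2.1
      (fun P h1 h2 h3 => (c.maxTwo.2.2 P h1 h2 h3).le)
      (fun s hs e he => mem_centralizer_iff.mp (mem_inf.mp hs).2 e he) hgE (mem_inf.mp hg).2 hgu
    rw [commutatorElement_def, hrz k (htd.commutator_le hk), ← commutatorElement_def]
    exact comm_mem_nxt hr (htd.commutator_le hk)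
  · intro g hg hgu a ha
    refine exists_torus_conj h hl hy hyx hAnorm
      (fun a ha => ⟨a, hA ha, by rw [inv_mul_cancel]; exact one_mem _⟩) (fun a ha b hb e _ => ?_)
      (fun a ha b hb ha1 hb1 => htd.trans a ha ha1 b hb hb1) (mem_inf.mp hg).1 hgu ha
    have hab : Commute a b := congrArg Subtype.val (htd.comm ⟨a, ha⟩ ⟨b, hb⟩)
    rw [commutatorElement_eq_one_iff_commute.mpr hab, one_mul, mul_one]

/-- **CLASS** for a line with `Q = E`, or the residue. -/
theorem fused_or_residue_shapeOne (h : Crit G Ω D) (hl : Line2 D u x E E)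
    (hy : u • y = y) (hyx : y ≠ x)
    (c : ShapeOneChain D u x E R A) (hA : A ≤ core u x y E) :
    (∀ g ∈ normAt x E, ∃ k ∈ centAt x E, g * u * g⁻¹ = k * u * k⁻¹) ∨
      ClassResidue u x E R ⁅R, A⁆ (nxt R R) A :=
  (classData_shapeOne h hl hy hyx c hA).fused_or_residue

/-- The data of the kill, or the residue, for a line with `Q = E` with a translation. -/
theorem exists_chain_or_residue_shapeOne (h : Crit G Ω D) (hP : RankOnePairs (G := G) Ω)
    (hl : Line2 D u x E E) (hT : HasTranslation u x E) (hy : u • y = y) (hyx : y ≠ x) :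
    ∃ R K A : Subgroup G, H6.Asch.Chain u x y E R K A ∨
      ∃ N : Subgroup G, ClassResidue u x E R K N A := by
  obtain ⟨R, A, c, hA⟩ := H51.Asch.exists_chain_core h hP hl hT hy hyx
  refine ⟨R, ⁅R, A⁆, A, ?_⟩
  rcases fused_or_residue_shapeOne h hl hy hyx c hA with hf | hres
  · exact Or.inl (H6.Asch.chain_of_shapeOne h hP hl hT hy hyx c hA hf)
  · exact Or.inr ⟨_, hres⟩

end Cfsg.Agent.H26.Asch
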