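import Cfsg.Agent.H26.Invol
import Cfsg.Agent.H1.Asch.FourCount
import Cfsg.Agent.S0215
import Cfsg.Agent.PGroups.Basic
import Mathlib.Tactic

/-!
# Bad involutions with a rank one line (Aschbacher's criterion): local facts

`D` is a class of involutions, each member fixing exactly one point; a bad involution fixes at
least two points; it has rank one when no two different commuting members centralise it.
-/

set_option autoImplicit false

namespace Cfsg.Agent.H26.Asch

open Subgroup

variable {G : Type*} [Group G] [Finite G] {Ω : Type*} [MulAction G Ω]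

/-- An involution with at least two fixed points. -/
def Bad (Ω : Type*) [MulAction G Ω] (t : G) : Prop :=
  orderOf t = 2 ∧ ∃ p q : Ω, p ≠ q ∧ t • p = p ∧ t • q = q

/-- The setting of the criterion, as far as rank one lines need it. -/
structure Base (Ω : Type*) [MulAction G Ω] (D : Set G) : Prop where
  conj_mem : ∀ d ∈ D, ∀ g : G, g * d * g⁻¹ ∈ D
  isConj : ∀ a ∈ D, ∀ b ∈ D, IsConj a b
  inv : ∀ d ∈ D, orderOf d = 2
  unique : ∀ d ∈ D, ∃! p : Ω, d • p = p
  comm : ∀ t : G, orderOf t = 2 → ∀ p : Ω, t • p = p → ∃ d ∈ D, d • p = p ∧ Commute d t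
  central : ∀ d ∈ D, ∃ S : Sylow 2 G, d ∈ (S : Subgroup G) ∧ ∀ s ∈ (S : Subgroup G), Commute s d
  closure_good : ∀ j : G, orderOf j = 2 → j ∈ Subgroup.closure {d | d ∈ D ∧ Commute d j} → ¬ Bad Ω j

/-- A bad involution centralised by no two different commuting members. -/
def RankOne (Ω : Type*) [MulAction G Ω] (D : Set G) (u : G) : Prop :=
  Bad Ω u ∧ ∀ a ∈ D, ∀ b ∈ D, Commute a u → Commute b u → Commute a b → a = b

variable {D : Set G} (h : Base Ω D)

omit [Finite G] in
theorem commute_conj {g a b : G} (hab : Commute a b) :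
    Commute (g * a * g⁻¹) (g * b * g⁻¹) := hab.map (MulAut.conj g).toMonoidHom

omit [Finite G] in
theorem Bad.conj {t : G} (ht : Bad Ω t) (g : G) : Bad Ω (g * t * g⁻¹) := by
  obtain ⟨ht2, p, q, hpq, hp, hq⟩ := ht
  refine ⟨by rw [H26.orderOf_conj_eq, ht2], g • p, g • q, fun e => hpq ?_, ?_, ?_⟩
  · simpa using congrArg (g⁻¹ • ·) e
  · rw [mul_smul, mul_smul, inv_smul_smul, hp]
  · rw [mul_smul, mul_smul, inv_smul_smul, hq]

omit [Finite G] in
include h in
theorem RankOne.conj {u : G} (hu : RankOne Ω D u) (g : G) : RankOne Ω D (g * u * g⁻¹) := by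
  refine ⟨hu.1.conj g, fun a ha b hb hau hbu hab => ?_⟩
  have e : ∀ x : G, g⁻¹ * (g * x * g⁻¹) * g⁻¹⁻¹ = x := fun x => by group
  have h1 := commute_conj (g := g⁻¹) hau
  have h2 := commute_conj (g := g⁻¹) hbu
  rw [e] at h1 h2
  have := hu.2 _ (h.conj_mem a ha g⁻¹) _ (h.conj_mem b hb g⁻¹) h1 h2 (commute_conj hab)
  simpa using this

omit [Finite G] in
include h in
theorem member_not_bad {d : G} (hd : d ∈ D) : ¬ Bad Ω d := by
  rintro ⟨-, p, q, hpq, hp, hq⟩
  exact hpq ((h.unique d hd).unique hp hq)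

omit [Finite G] in
include h in
theorem smul_eq_of_commute {d g : G} (hd : d ∈ D) {p : Ω} (hp : d • p = p) (hg : Commute g d) :
    g • p = p := by
  refine (h.unique d hd).unique ?_ hp
  rw [← mul_smul, ← hg.eq, mul_smul, hp]

omit [Finite G] in
include h in
theorem mul_self {d : G} (hd : d ∈ D) : d * d = 1 := H26.mul_self_of_orderOf_two (h.inv d hd)

omit [Finite G] in
include h in
/-- An involution of the subgroup generated by pairwise commuting members is good. -/
theorem good_closure {T : Set G} (hT : T ⊆ D) (hc : ∀ a ∈ T, ∀ b ∈ T, Commute a b) {j : G}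
    (hj : orderOf j = 2) (hjT : j ∈ Subgroup.closure T) : ¬ Bad Ω j := by
  have hsub : T ⊆ {d | d ∈ D ∧ Commute d j} := fun a ha => ⟨hT ha, ?_⟩
  · exact h.closure_good j hj (Subgroup.closure_mono hsub hjT)
  have hle : Subgroup.closure T ≤ centralizer {a} := by
    rw [Subgroup.closure_le]
    intro b hb
    exact mem_centralizer_singleton_iff.mpr (hc b hb a ha).eq
  exact (mem_centralizer_singleton_iff.mp (hle hjT)).symm

omit [Finite G] in
include h in
theorem good_mul {a b : G} (ha : a ∈ D) (hb : b ∈ D) (hab : Commute a b) (hne : a ≠ b) :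
    orderOf (a * b) = 2 ∧ ¬ Bad Ω (a * b) := by
  have h2 : orderOf (a * b) = 2 := by
    refine H26.orderOf_two_of_mul_self ?_ fun e => hne ?_
    · rw [mul_assoc, ← mul_assoc b, ← hab.eq, mul_assoc, mul_self h hb, mul_one, mul_self h ha]
    · calc a = a * (b * b) := by rw [mul_self h hb, mul_one]
        _ = b := by rw [← mul_assoc, e, one_mul]
  refine ⟨h2, good_closure h (T := {a, b}) ?_ ?_ h2
    (mul_mem (Subgroup.subset_closure (by simp)) (Subgroup.subset_closure (by simp)))⟩
  · rintro x (rfl | rfl) <;> assumption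
  · rintro x (rfl | rfl) y (rfl | rfl)
    · exact Commute.refl _
    · exact hab
    · exact hab.symm
    · exact Commute.refl _

include h in
/-- Two members in a 2-group that centralise a rank one bad involution are equal. -/
theorem RankOne.eq_of_mem {u : G} (hu : RankOne Ω D u) {P : Subgroup G} (hP : IsPGroup 2 P)
    {a b : G} (ha : a ∈ D) (hb : b ∈ D) (haP : a ∈ P) (hbP : b ∈ P)
    (hau : Commute a u) (hbu : Commute b u) : a = b := by
  by_contra hab
  have ha2 := mul_self h ha
  have hb2 := mul_self h hb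
  have hainv : a⁻¹ = a := inv_eq_of_mul_eq_one_right ha2
  have hbinv : b⁻¹ = b := inv_eq_of_mul_eq_one_right hb2
  obtain ⟨n, hn⟩ := IsPGroup.iff_orderOf.mp hP ⟨a * b, mul_mem haP hbP⟩
  rw [← orderOf_coe] at hn
  set k := a * b with hk
  have hk1 : k ≠ 1 := fun e => hab (by
    calc a = k * b⁻¹ := by rw [hk, mul_inv_cancel_right]
      _ = b := by rw [e, one_mul, hbinv])
  obtain ⟨m, rfl⟩ : ∃ m, n = m + 1 := by
    refine ⟨n - 1, (Nat.succ_pred_eq_of_ne_zero ?_).symm⟩
    rintro rfl
    exact hk1 (orderOf_eq_one_iff.mp hn)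
  set c := k ^ 2 ^ m with hc
  have hc2 : c * c = 1 := by
    rw [hc, ← pow_add, ← two_mul, ← pow_succ']; exact hn ▸ pow_orderOf_eq_one k
  have hc1 : c ≠ 1 := fun e => by
    have := orderOf_dvd_of_pow_eq_one e
    rw [hn] at this
    have := Nat.le_of_dvd (by positivity) this
    rw [pow_succ] at this
    have := Nat.two_pow_pos m
    omega
  have haka : ∀ i : ℕ, a * k ^ i * a⁻¹ = (k ^ i)⁻¹ := fun i => by
    rw [← conj_pow, ← inv_pow]
    congr 1
    rw [hk, mul_inv_rev, hainv, hbinv]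
    calc a * (a * b) * a = a * a * b * a := by group
      _ = b * a := by rw [ha2, one_mul]
  have hcinv : c⁻¹ = c := inv_eq_of_mul_eq_one_right hc2
  have hac : Commute a c := by
    have := haka (2 ^ m)
    rw [← hc, hcinv] at this
    exact mul_inv_eq_iff_eq_mul.mp this
  have hd : a * c ∈ D := by
    rcases Nat.eq_zero_or_pos m with rfl | hm
    · rw [hc, pow_zero, pow_one, hk, ← mul_assoc, ha2, one_mul]; exact hb
    · obtain ⟨l, rfl⟩ : ∃ l, m = l + 1 := ⟨m - 1, by omega⟩
      have e : a * c = (k ^ 2 ^ l)⁻¹ * a * (k ^ 2 ^ l)⁻¹⁻¹ := by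
        rw [inv_inv, ← haka, hainv, hc, pow_succ, pow_mul, sq]
        simp [mul_assoc, ha2]
      rw [e]; exact h.conj_mem a ha _
  have hcu : Commute c u := (hau.mul_left hbu).pow_left _
  have := hu.2 a ha (a * c) hd hau (hau.mul_left hcu) ((Commute.refl a).mul_right hac)
  exact hc1 (left_eq_mul.mp this)

omit [Finite G] in
/-- A four group on a group of odd order: if the three centralisers fix a point, so does the group. -/
theorem fix_of_four {x y : G} (hx : x * x = 1) (hy : y * y = 1) (hxy : Commute x y) {O : Subgroup G}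
    (hodd : Odd (Nat.card O)) (hnx : ∀ g ∈ O, x * g * x⁻¹ ∈ O) (hny : ∀ g ∈ O, y * g * y⁻¹ ∈ O)
    {p : Ω} (hfix : ∀ g ∈ O, Commute g x ∨ Commute g y ∨ Commute g (x * y) → g • p = p)
    {g : G} (hg : g ∈ O) : g • p = p := by
  obtain ⟨⟨f, i⟩, ⟨hf, hi, rfl⟩, -⟩ := H38.exists_unique_decomp hx hodd hnx hg
  obtain ⟨⟨c, d⟩, ⟨⟨hc, hcy⟩, ⟨hd, hdxy⟩, e⟩, -⟩ :=
    H1.Asch.exists_unique_split hx hy hxy hodd hnx hny hi
  have hfp : f • p = p :=
    hfix f hf.1 (Or.inl (mem_centralizer_singleton_iff.mp hf.2))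
  have hcp : c • p = p := hfix c hc.1 (Or.inr (Or.inl (mul_inv_eq_iff_eq_mul.mp hcy).symm))
  have hdp : d • p = p := hfix d hd.1 (Or.inr (Or.inr (mul_inv_eq_iff_eq_mul.mp hdxy).symm))
  show (f * i) • p = p
  simp only at e
  rw [← e, mul_smul, mul_smul, mul_smul, hcp, hdp, hcp, hfp]

include h in
/-- **Lemma (R).** Next to a rank one bad involution `u`, the only good involution commuting with a
member `z` whose product with `z` is good, is `z` itself. -/
theorem eq_of_good {u z j : G} (hu : RankOne Ω D u) (hz : z ∈ D) (hzu : Commute z u)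
    (hj : orderOf j = 2) (hju : Commute j u) (hjz : Commute j z) (hgj : ¬ Bad Ω j)
    (hgjz : ¬ Bad Ω (j * z)) : j = z := by
  classical
  by_contra hne
  set C := centralizer ({u} : Set G) with hC
  have hmC : ∀ {g : G}, g ∈ C ↔ Commute g u := fun {g} => mem_centralizer_singleton_iff
  haveI : Fact (Nat.Prime 2) := ⟨Nat.prime_two⟩
  set zC : C := ⟨z, hmC.mpr hzu⟩ with hzC
  have hz2 : orderOf zC = 2 := by rw [← orderOf_coe]; exact h.inv z hz
  obtain ⟨P, hP⟩ := (IsPGroup.of_card (n := 1)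
    (by rw [Nat.card_zpowers, hz2, pow_one]) : IsPGroup 2 (zpowers zC)).exists_le_sylow
  have hzP : zC ∈ P := hP (mem_zpowers zC)
  obtain ⟨N, hN, hNodd, hNz⟩ := Cfsg.Agent.S0215.result P zC hz2 hzP (fun g hg => by
    apply Subtype.ext
    refine hu.eq_of_mem h (P := (P : Subgroup C).map C.subtype) (P.2.map _)
      (h.conj_mem z hz g) hz ⟨_, hg, rfl⟩ ⟨_, hzP, rfl⟩ (hmC.mp (g * zC * g⁻¹).2) hzu)
  set O := N.map C.subtype with hO
  have hOodd : Odd (Nat.card O) := by
    rw [hO, Nat.card_congr (N.equivMapOfInjective _ C.subtype_injective).toEquiv.symm]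
    exact hNodd
  have hnorm : ∀ {x : G}, Commute x u → ∀ g ∈ O, x * g * x⁻¹ ∈ O := by
    rintro x hx _ ⟨n, hn, rfl⟩
    exact ⟨_, hN.conj_mem n hn ⟨x, hmC.mpr hx⟩, rfl⟩
  obtain ⟨p, hp, hpu⟩ := h.unique z hz
  have hjp : j • p = p := hpu _ (by show z • j • p = j • p; rw [← mul_smul, ← hjz.eq, mul_smul, hp])
  have hjj := H26.mul_self_of_orderOf_two hj
  have hzz := mul_self h hz
  have hjz2 : orderOf (j * z) = 2 := by
    refine H26.orderOf_two_of_mul_self ?_ fun e => hne ?_
    · rw [mul_assoc, ← mul_assoc z, ← hjz.eq, mul_assoc, hzz, mul_one, hjj]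
    · calc j = j * (z * z) := by rw [hzz, mul_one]
        _ = z := by rw [← mul_assoc, e, one_mul]
  have hgood : ∀ v : G, orderOf v = 2 → ¬ Bad Ω v → v • p = p → ∀ g : G, Commute g v → g • p = p := by
    intro v hv hvg hvp g hgv
    by_contra hgp
    exact hvg ⟨hv, g • p, p, hgp, by rw [← mul_smul, ← hgv.eq, mul_smul, hvp], hvp⟩
  have hOp : ∀ g ∈ O, g • p = p := fun g hg => by
    refine fix_of_four hjj hzz hjz hOodd (hnorm hju) (hnorm hzu) (p := p) ?_ hg
    rintro g' - (e | e | e)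
    · exact hgood j hj hgj hjp g' e
    · exact smul_eq_of_commute h hz hp e
    · exact hgood _ hjz2 hgjz (by rw [mul_smul, hp, hjp]) g' e
  -- `u` fixes a second point, and a member there moves `p`
  have hup : u • p = p := smul_eq_of_commute h hz hp hzu.symm
  obtain ⟨q, hqp, hq⟩ : ∃ q, q ≠ p ∧ u • q = q := by
    obtain ⟨a, b, hab, ha, hb⟩ := hu.1.2
    by_cases hap : a = p
    · exact ⟨b, fun e => hab (hap.trans e.symm), hb⟩
    · exact ⟨a, hap, ha⟩
  obtain ⟨d, hd, hdq, hdu⟩ := h.comm u hu.1.1 q hq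
  have hdd := mul_self h hd
  have hzinv : z⁻¹ = z := inv_eq_of_mul_eq_one_right hzz
  have hdinv : d⁻¹ = d := inv_eq_of_mul_eq_one_right hdd
  have hmem : z * d * z * d ∈ O := by
    refine ⟨_, hNz ⟨d, hmC.mpr hdu⟩, ?_⟩
    show z * d * z⁻¹ * d⁻¹ = _
    rw [hzinv, hdinv]
  have h1 : z • d • z • d • p = p := by
    rw [← mul_smul, ← mul_smul, ← mul_smul]; exact hOp _ hmem
  have h2 : d • z • d • p = p := by
    have := congrArg (z • ·) h1
    simpa [← mul_smul, ← mul_assoc, hzz, hp] using this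
  have h3 : z • d • p = d • p := by
    have := congrArg (d • ·) h2
    simpa [← mul_smul, ← mul_assoc, hdd] using this
  exact hqp ((h.unique d hd).unique hdq (hpu _ h3))

end Cfsg.Agent.H26.Asch
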