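import Cfsg.Agent.H26.Asch.ClassBasics

/-!
CLASS from `ClassData`, unless only the elements fixing a class act trivially on `K / N`: the
elements acting trivially on `K / N` centralise `E`.
-/

set_option autoImplicit false
set_option linter.style.haveILetI false

namespace Cfsg.Agent.H26.Asch

open Subgroup MulAction
open Cfsg.Agent.H6.Asch (normAt centAt)
open scoped commutatorElement Pointwise

universe u v

variable {G : Type u} [Group G] [Finite G] {Ω : Type v} [MulAction G Ω]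

namespace ClassData

variable {u : G} {x : Ω} {E R K N A : Subgroup G} (h : ClassData u x E R K N A)
include h

omit [Finite G] in
theorem smul_fix {g : G} (hg : g ∈ classGroup x E R) : g • x = x :=
  mem_stabilizer_iff.mp (mem_inf.mp (mem_inf.mp hg).1).1

omit [Finite G] in
theorem mem_normE {g : G} (hg : g ∈ classGroup x E R) : g ∈ normalizer (E : Set G) :=
  (mem_inf.mp (mem_inf.mp hg).1).2

omit [Finite G] in
theorem centAt_conj {g c : G} (hg : g ∈ normAt x E) (hc : c ∈ centAt x E) :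
    g * c * g⁻¹ ∈ centAt x E := by
  obtain ⟨hgx, hgE⟩ := mem_inf.mp hg
  rw [mem_stabilizer_iff] at hgx
  obtain ⟨hcx, hce⟩ := mem_centAt'.mp hc
  refine mem_centAt'.mpr ⟨by rw [mul_smul, mul_smul, inv_smul_eq_iff.mpr hgx.symm, hcx, hgx],
    fun e he => ?_⟩
  have h1 := hce _ ((mem_normalizer_iff.mp (inv_mem hgE) e).mp he)
  rw [inv_inv] at h1
  calc g * c * g⁻¹ * e * (g * c * g⁻¹)⁻¹ = g * (c * (g⁻¹ * e * g) * c⁻¹) * g⁻¹ := by group
    _ = e := by rw [h1]; group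

/-- Every element of `normAt` is congruent modulo `centAt` to one normalising `R`. -/
theorem exists_frattini {g : G} (hg : g ∈ normAt x E) :
    ∃ c ∈ centAt x E, c * g ∈ classGroup x E R := by
  obtain ⟨c, hc, hcR⟩ := H14.Asch.exists_conj_le_of_maximal h.R_two h.R_le h.R_max
    (R := R.map (MulAut.conj g).toMonoidHom) (h.R_two.map _) (by
      rintro _ ⟨r, hr, rfl⟩
      exact h.centAt_conj hg (h.R_le hr))
  refine ⟨c, hc, mem_inf.mpr ⟨(normAt x E).mul_mem (centAt_le_normAt' x E hc) hg,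
    Coprime.mem_normalizer_of_map_conj (Subgroup.eq_of_le_of_card_ge ?_ (by
      rw [Subgroup.card_map_of_injective (f := (MulAut.conj (c * g)).toMonoidHom)
        (MulAut.conj (c * g)).injective]))⟩⟩
  rintro _ ⟨r, hr, rfl⟩
  show c * g * r * (c * g)⁻¹ ∈ R
  have h1 := hcR (g * r * g⁻¹) ⟨r, hr, rfl⟩
  rwa [show c * g * r * (c * g)⁻¹ = c * (g * r * g⁻¹) * c⁻¹ by group]

omit [Finite G] in
theorem trivTop_conj_A {a g : G} (ha : a ∈ A) (hg : TrivTop x E R K N g) :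
    TrivTop x E R K N (a * g * a⁻¹) := by
  refine ⟨(classGroup x E R).mul_mem ((classGroup x E R).mul_mem (h.A_le ha) hg.1)
    ((classGroup x E R).inv_mem (h.A_le ha)), fun k hk => ?_⟩
  have h1 := h.conj_N (h.A_le ha) (hg.2 _ (h.K_invariant _ (A.inv_mem ha) k hk))
  convert h1 using 1
  simp only [commutatorElement_def]
  group

/-- An element acting trivially on `K / N` and fixing the class of `u` centralises `E`. -/
theorem centAt_of_trivTop_fix {g : G} (hg : TrivTop x E R K N g) (hN : g * u * g⁻¹ * u ∈ N) :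
    g ∈ centAt x E := by
  obtain ⟨c, hc, hcu⟩ := h.exists_split hg.1 hN
  set w := c⁻¹ * g with hw
  have hwT : TrivTop x E R K N w := h.trivTop_mul (h.trivTop_of_mem (R.inv_mem hc)) hg
  suffices w ∈ centAt x E by
    have h1 := (centAt x E).mul_mem (h.R_le hc) this
    rwa [hw, mul_inv_cancel_left] at h1
  -- `w` commutes with the torus modulo `centAt`
  have hcomm : ∀ a ∈ A, a⁻¹ * (w * a * w⁻¹) ∈ centAt x E := by
    intro a ha
    obtain ⟨b, hb, hbz⟩ := h.torus_norm w hwT.1 hcu a ha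
    set z := b⁻¹ * (w * a * w⁻¹) with hz
    have hzC : z ∈ classGroup x E R := (classGroup x E R).mul_mem
      ((classGroup x E R).inv_mem (h.A_le hb))
      ((classGroup x E R).mul_mem ((classGroup x E R).mul_mem hwT.1 (h.A_le ha))
        ((classGroup x E R).inv_mem hwT.1))
    have hzu : Commute z u :=
      (h.A_commute b hb).inv_left.mul_left ((hcu.mul_left (h.A_commute a ha)).mul_left hcu.inv_left)
    have hzT := h.trivTop_cent hzC hbz hzu
    have hab : TrivTop x E R K N (a⁻¹ * b) := by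
      have h1 := h.trivTop_mul (h.trivTop_mul (h.trivTop_conj_A (A.inv_mem ha) hwT)
        (h.trivTop_inv hwT)) (h.trivTop_inv hzT)
      convert h1 using 1
      rw [hz]; group
    have h2 := (centAt x E).mul_mem ((h.trivTop_iff_centAt (A.mul_mem (A.inv_mem ha) hb)).mp hab) hbz
    convert h2 using 1
    rw [hz]; group
  obtain ⟨e₁, he₁, he₁1⟩ : ∃ e ∈ E, e ≠ 1 := by
    by_contra hc'
    push Not at hc'
    have h4 := h.four_le
    rw [show Nat.card E = 1 from (Subgroup.eq_bot_iff_card E).mp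
      ((Subgroup.eq_bot_iff_forall E).mpr hc')] at h4
    omega
  have hwe : w * e₁ * w⁻¹ ∈ E := (mem_normalizer_iff.mp (h.mem_normE hwT.1) e₁).mp he₁
  have hwe1 : w * e₁ * w⁻¹ ≠ 1 := fun e => he₁1 (by
    calc e₁ = w⁻¹ * (w * e₁ * w⁻¹) * w := by group
      _ = 1 := by rw [e]; group)
  obtain ⟨a₀, ha₀, hae⟩ := h.trans e₁ he₁ _ hwe he₁1 hwe1
  have hz : a₀⁻¹ * w ∈ centAt x E := by
    refine mem_centAt'.mpr ⟨?_, fun e he => ?_⟩
    · rw [mul_smul, h.smul_fix hwT.1, inv_smul_eq_iff, h.smul_fix (h.A_le ha₀)]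
    by_cases he1 : e = 1
    · rw [he1]; group
    obtain ⟨d, hd, rfl⟩ := h.trans e₁ he₁ e he he₁1 he1
    have h1 := (mem_centAt'.mp (hcomm d hd)).2 _ hwe
    have hdd : a₀ * d = d * a₀ := (h.A_comm a₀ ha₀ d hd).eq
    calc a₀⁻¹ * w * (d * e₁ * d⁻¹) * (a₀⁻¹ * w)⁻¹
        = a₀⁻¹ * d * ((d⁻¹ * (w * d * w⁻¹)) * (w * e₁ * w⁻¹) * (d⁻¹ * (w * d * w⁻¹))⁻¹) *
            (a₀⁻¹ * d)⁻¹ := by group
      _ = a₀⁻¹ * d * (a₀ * e₁ * a₀⁻¹) * (a₀⁻¹ * d)⁻¹ := by rw [h1, hae]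
      _ = a₀⁻¹ * (d * a₀) * e₁ * (a₀⁻¹ * (d * a₀))⁻¹ := by group
      _ = d * e₁ * d⁻¹ := by rw [← hdd]; group
  have hzT := h.trivTop_cent ((classGroup x E R).mul_mem ((classGroup x E R).inv_mem (h.A_le ha₀))
    hwT.1) hz ((h.A_commute a₀ ha₀).inv_left.mul_left hcu)
  have ha₀T : TrivTop x E R K N a₀ := by
    have h1 := h.trivTop_mul hwT (h.trivTop_inv hzT)
    convert h1 using 1
    group
  have h1 := (centAt x E).mul_mem ((h.trivTop_iff_centAt ha₀).mp ha₀T) hz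
  rwa [mul_inv_cancel_left] at h1

/-- The elements acting trivially on `K / N` centralise `E`. -/
theorem centAt_of_trivTop {g : G} (hg : TrivTop x E R K N g) : g ∈ centAt x E := by
  classical
  haveI : Fact (Nat.Prime 2) := ⟨Nat.prime_two⟩
  have hsq : ∀ {t : G}, TrivTop x E R K N t → t * t ∈ centAt x E := by
    intro t ht
    refine h.centAt_of_trivTop_fix (h.trivTop_mul ht ht) ?_
    have hk := h.conj_mul_mem t ht.1
    rw [h.class_mul, show t * (t * u * t⁻¹ * u) * t⁻¹ * (t * u * t⁻¹ * u) =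
      ⁅t, t * u * t⁻¹ * u⁆ * ((t * u * t⁻¹ * u) * (t * u * t⁻¹ * u)) by
        rw [commutatorElement_def]; group]
    exact N.mul_mem (ht.2 _ hk) (h.sq_mem _ (h.K_le hk))
  set T : Subgroup G :=
    { carrier := {t | TrivTop x E R K N t}
      one_mem' := h.trivTop_of_mem R.one_mem
      mul_mem' := fun ha hb => h.trivTop_mul ha hb
      inv_mem' := fun ha => h.trivTop_inv ha } with hT
  let f : T →* MulAut E := (normalizerMonoidHom E).comp
    (Subgroup.inclusion (show T ≤ normalizer (E : Set G) from fun t ht => h.mem_normE ht.1))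
  have hf : ∀ (t : T) (e : E), ((f t e : E) : G) = (t : G) * e * (t : G)⁻¹ := fun _ _ => rfl
  have hPf : IsPGroup 2 f.range := by
    rintro ⟨_, t, rfl⟩
    refine ⟨1, Subtype.ext (MulEquiv.ext fun e => Subtype.ext ?_)⟩
    push_cast
    show (((f t) ^ 2) e : G) = (e : G)
    rw [sq, ← _root_.map_mul, hf]
    exact (mem_centAt'.mp (hsq t.2)).2 e e.2
  obtain ⟨n, hn⟩ : ∃ n, Nat.card E = 2 ^ n :=
    IsPGroup.iff_card.mp (fun e => ⟨1, Subtype.ext (by
      push_cast; rw [sq]; exact h.E_two e e.2)⟩)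
  have h2E : 2 ∣ Nat.card E := by
    have h4 := h.four_le
    rw [hn]
    rcases n with _ | n
    · rw [hn] at h4; simp at h4
    · exact dvd_pow_self 2 (Nat.succ_ne_zero _)
  obtain ⟨e₁, he₁, he₁1⟩ := hPf.exists_fixed_point_of_prime_dvd_card_of_fixed_point E h2E
    (a := (1 : E)) (fun m => _root_.map_one (m : MulAut E))
  refine mem_centAt'.mpr ⟨h.smul_fix hg.1, fun e he => ?_⟩
  by_cases he' : e = 1
  · rw [he']; group
  obtain ⟨d, hd, rfl⟩ := h.trans (e₁ : G) e₁.2 e he (fun e1 => he₁1 (Subtype.ext e1.symm)) he'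
  have h1 := congrArg Subtype.val
    (he₁ ⟨f ⟨d⁻¹ * g * d⁻¹⁻¹, h.trivTop_conj_A (A.inv_mem hd) hg⟩, _, rfl⟩)
  change d⁻¹ * g * d⁻¹⁻¹ * (e₁ : G) * (d⁻¹ * g * d⁻¹⁻¹)⁻¹ = (e₁ : G) at h1
  calc g * (d * e₁ * d⁻¹) * g⁻¹ = d * (d⁻¹ * g * d⁻¹⁻¹ * e₁ * (d⁻¹ * g * d⁻¹⁻¹)⁻¹) * d⁻¹ := by group
    _ = d * e₁ * d⁻¹ := by rw [h1]

/-- CLASS, if the classes are those of elements acting trivially on `K / N`. -/
theorem fused_of_trivTop
    (hall : ∀ g ∈ classGroup x E R, ∃ t, TrivTop x E R K N t ∧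
      g * u * g⁻¹ * u * (t * u * t⁻¹ * u)⁻¹ ∈ N) :
    ∀ g ∈ normAt x E, ∃ c ∈ centAt x E, g * u * g⁻¹ = c * u * c⁻¹ := by
  intro g hg
  obtain ⟨c, hc, hcg⟩ := h.exists_frattini hg
  obtain ⟨t, ht, htN⟩ := hall _ hcg
  set g' := c * g with hg'
  have hN : t⁻¹ * g' * u * (t⁻¹ * g')⁻¹ * u ∈ N := by
    rw [h.class_mul]
    have h1 := h.class_mul t⁻¹ t
    rw [inv_mul_cancel, one_mul, inv_one, mul_one, h.sq_u] at h1
    rw [eq_inv_of_mul_eq_one_right h1.symm]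
    have h2 := h.conj_N ((classGroup x E R).inv_mem ht.1) htN
    convert h2 using 1
    group
  obtain ⟨d, hd, hdu⟩ := h.filled _ hN _ ((classGroup x E R).mul_mem
    ((classGroup x E R).inv_mem ht.1) hcg) (by rw [mul_assoc _ u u, h.sq_u, mul_one])
  refine ⟨c⁻¹ * (t * d), (centAt x E).mul_mem ((centAt x E).inv_mem hc)
    ((centAt x E).mul_mem (h.centAt_of_trivTop ht) (h.R_le hd)), ?_⟩
  calc g * u * g⁻¹ = c⁻¹ * (t * (t⁻¹ * g' * u * (t⁻¹ * g')⁻¹) * t⁻¹) * c := by rw [hg']; group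
    _ = c⁻¹ * (t * d) * u * (c⁻¹ * (t * d))⁻¹ := by rw [hdu]; group

/-- CLASS, or: the classes form one orbit, `K` is invariant and only elements fixing a class act
trivially on `K / N`. -/
theorem fused_or_faithful :
    (∀ g ∈ normAt x E, ∃ c ∈ centAt x E, g * u * g⁻¹ = c * u * c⁻¹) ∨
      ((∀ g ∈ classGroup x E R, ∀ k ∈ K, g * k * g⁻¹ ∈ K) ∧
        (∀ k ∈ K, ∃ g ∈ classGroup x E R, g * u * g⁻¹ * u * k⁻¹ ∈ N) ∧
        ∀ g ∈ classGroup x E R, (∀ k ∈ K, ⁅g, k⁆ ∈ N) → g * u * g⁻¹ * u ∈ N) := by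
  have hone : ∀ {g : G}, g * u * g⁻¹ * u ∈ N →
      g * u * g⁻¹ * u * (1 * u * (1 : G)⁻¹ * u)⁻¹ ∈ N := fun {g} hg => by
    rwa [one_mul, inv_one, mul_one, h.sq_u, inv_one, mul_one]
  by_cases hmove : ∃ g ∈ classGroup x E R, g * u * g⁻¹ * u ∉ N
  swap
  · push Not at hmove
    exact Or.inl (h.fused_of_trivTop fun g hg =>
      ⟨1, h.trivTop_of_mem R.one_mem, hone (hmove g hg)⟩)
  obtain ⟨g₀, hg₀, hg₀N⟩ := hmove
  have hk₀ := h.conj_mul_mem g₀ hg₀
  have hclassA : ∀ {a g : G}, a ∈ A → a * g * u * (a * g)⁻¹ * u = a * (g * u * g⁻¹ * u) * a⁻¹ :=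
    fun {a g} ha => by rw [h.class_mul, h.class_A ha, mul_one]
  have horbit : ∀ k ∈ K, ∃ g ∈ classGroup x E R, g * u * g⁻¹ * u * k⁻¹ ∈ N := by
    intro k hk
    by_cases hkN : k ∈ N
    · refine ⟨1, (classGroup x E R).one_mem, ?_⟩
      rw [one_mul, inv_one, mul_one, h.sq_u, one_mul]
      exact N.inv_mem hkN
    obtain ⟨a, ha, hak⟩ := h.trans_top _ hk₀ k hk hg₀N hkN
    exact ⟨a * g₀, (classGroup x E R).mul_mem (h.A_le ha) hg₀, by rw [hclassA ha]; exact hak⟩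
  have hinv : ∀ g ∈ classGroup x E R, ∀ k ∈ K, g * k * g⁻¹ ∈ K := by
    intro g hg k hk
    obtain ⟨g', hg', hn⟩ := horbit k hk
    set n := g' * u * g'⁻¹ * u * k⁻¹ with hn'
    have h1 : g * (g' * u * g'⁻¹ * u) * g⁻¹ ∈ K := by
      have h2 := K.mul_mem (h.conj_mul_mem _ ((classGroup x E R).mul_mem hg hg'))
        (K.inv_mem (h.conj_mul_mem g hg))
      rwa [h.class_mul, mul_inv_cancel_right] at h2
    have h3 := K.mul_mem (h.N_le (N.inv_mem (h.conj_N hg hn))) h1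
    convert h3 using 1
    rw [hn']; group
  by_cases hT : ∃ t, TrivTop x E R K N t ∧ t * u * t⁻¹ * u ∉ N
  swap
  · push Not at hT
    exact Or.inr ⟨hinv, horbit, fun g hg hgk => hT g ⟨hg, hgk⟩⟩
  obtain ⟨t, ht, htN⟩ := hT
  refine Or.inl (h.fused_of_trivTop fun g hg => ?_)
  have hk := h.conj_mul_mem g hg
  by_cases hkN : g * u * g⁻¹ * u ∈ N
  · exact ⟨1, h.trivTop_of_mem R.one_mem, hone hkN⟩
  obtain ⟨a, ha, hak⟩ := h.trans_top _ (h.conj_mul_mem t ht.1) _ hk htN hkN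
  refine ⟨a * t * a⁻¹, h.trivTop_conj_A ha ht, ?_⟩
  have hau : a⁻¹ * u * a = u := by
    rw [mul_assoc, ← (h.A_commute a ha).eq, inv_mul_cancel_left]
  have h2 : a * t * a⁻¹ * u * (a * t * a⁻¹)⁻¹ * u = a * (t * u * t⁻¹ * u) * a⁻¹ := by
    calc a * t * a⁻¹ * u * (a * t * a⁻¹)⁻¹ * u = a * t * (a⁻¹ * u * a) * t⁻¹ * a⁻¹ * u := by group
      _ = a * t * u * t⁻¹ * a⁻¹ * u := by rw [hau]
      _ = a * t * u * (a * t)⁻¹ * u := by group
      _ = _ := hclassA ha
  rw [h2]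
  have h3 := N.inv_mem hak
  rwa [mul_inv_rev, inv_inv] at h3

end ClassData

end Cfsg.Agent.H26.Asch
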