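import Cfsg.Agent.H30.Asch.NoneProperPerp

/-!
No element proper: an involution with a single fixed point is a member.
-/

set_option autoImplicit false
set_option linter.style.haveILetI false

namespace Cfsg.Agent.H26.Asch

open Subgroup MulAction
open Cfsg.Agent.H14.Asch
open Cfsg.Agent.H39
open Cfsg.Agent.H30.Asch (NPCtx mem_fixing_iff)

universe u v

variable {G : Type u} [Group G] [Finite G] {Ω : Type v} [MulAction G Ω] [Finite Ω] {D : Set G}

/-- **GOOD**: an involution which is not bad is a member. -/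
theorem mem_of_not_bad (hc : NPCtx G Ω D) {w : G} (hw : orderOf w = 2) (hb : ¬ Bad Ω w) : w ∈ D := by
  have h := hc.crit
  obtain ⟨x, hx⟩ := h.exists_fixed hw
  obtain ⟨p, hpx⟩ : ∃ p : Ω, p ≠ x := by
    obtain ⟨p, q, hpq⟩ := h.exists_ne
    rcases eq_or_ne p x with rfl | e
    · exact ⟨q, hpq.symm⟩
    · exact ⟨p, e⟩
  obtain ⟨d, hd, hdp⟩ := h.exists_at p
  rcases Nat.even_or_odd (orderOf (w * d)) with he | he
  · obtain ⟨j, hj2, -, hjd, hjw⟩ := exists_central_involution (h.inv hd) hw he
    have hjp : j • p = p := h.fix_of_commute hd hjd hdp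
    have hjx : j • x = x := eq_of_not_bad hb hx (smul_fixed_of_commute hjw hx)
    obtain ⟨b, hb1, hbw, hk⟩ :=
      hc.exists_mul_member_fixing hj2 hpx.symm hjx hjp hw hjw.symm
    rcases hb1 with rfl | hbm
    · rw [mul_one] at hk
      exact absurd ⟨x, p, hpx.symm, hx, mem_fixing_iff.mp hk p hjp⟩ hb
    have hbb := mul_self_of_orderOf_eq_two (h.inv hbm.1)
    have hwb : w = w * b * b := by rw [mul_assoc, hbb, mul_one]
    by_cases hk1 : w * b = 1
    · rw [hwb, hk1, one_mul]; exact hbm.1
    · have hk2 : orderOf (w * b) = 2 := orderOf_eq_two_of_mul_self (by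
        calc w * b * (w * b) = w * (b * w) * b := by group
          _ = (w * w) * (b * b) := by rw [hbw.eq]; group
          _ = 1 := by rw [hbb, mul_self_of_orderOf_eq_two hw, one_mul]) hk1
      have hbad : Bad Ω (w * b) :=
        ⟨x, p, hpx.symm, mem_fixing_iff.mp hk x hjx, mem_fixing_iff.mp hk p hjp⟩
      have h1 := h.bad_mul_member hk2 hbad hbm.1 (hbw.mul_right (Commute.refl b))
      rw [← hwb] at h1
      exact absurd h1 hb
  · obtain ⟨k, -, -, -, hk⟩ := H39.exists_conj_of_odd (h.inv hd) hw he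
    exact hk ▸ h.conj_mem hd k

end Cfsg.Agent.H26.Asch
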