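import Cfsg.Agent.H26.Asch.Basic
import Cfsg.Agent.PGroups.TwoGroups
import Cfsg.Agent.H25.InvolutionTransfer

/-!
# Rank one lines: the transfer step

A normal four group `{1, z, t, t z}` of a Sylow 2-subgroup, with no rank one bad involution
centralising it, puts every rank one bad involution outside `⟨D⟩`.
-/

set_option autoImplicit false

namespace Cfsg.Agent.H26.Asch

open Subgroup

variable {G : Type*} [Group G] [Finite G] {Ω : Type*} [MulAction G Ω] {D : Set G}

/-- The conclusion: rank one bad involutions lie outside `⟨D⟩`. -/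
def Done (Ω : Type*) [MulAction G Ω] (D : Set G) : Prop :=
  ∀ v, RankOne Ω D v → v ∉ Subgroup.closure D

/-- `t` together with the central involution `z` spans a normal four group of `S`. -/
structure NearCentral (S : Subgroup G) (z t : G) : Prop where
  mem : t ∈ S
  sq : t * t = 1
  ne_one : t ≠ 1
  ne : t ≠ z
  conj : ∀ s ∈ S, s * t * s⁻¹ = t ∨ s * t * s⁻¹ = t * z

variable (h : Base Ω D)

include h in
theorem normal_closure_D : (Subgroup.closure D).Normal := by
  refine ⟨fun x hx g => ?_⟩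
  induction hx using Subgroup.closure_induction with
  | mem a ha => exact Subgroup.subset_closure (h.conj_mem a ha g)
  | one => simp
  | mul a b _ _ ia ib =>
    rw [show g * (a * b) * g⁻¹ = g * a * g⁻¹ * (g * b * g⁻¹) by group]
    exact mul_mem ia ib
  | inv a _ ia =>
    rw [show g * a⁻¹ * g⁻¹ = (g * a * g⁻¹)⁻¹ by group]
    exact inv_mem ia

include h in
theorem done_of_sylow (S : Sylow 2 G)
    (hS : ∀ u ∈ (S : Subgroup G), RankOne Ω D u → u ∉ Subgroup.closure D) : Done Ω D := by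
  intro v hv hvD
  haveI : Fact (Nat.Prime 2) := ⟨Nat.prime_two⟩
  obtain ⟨Q, hQ⟩ := (IsPGroup.of_card (n := 1) (by rw [Nat.card_zpowers, hv.1.1, pow_one]) :
    IsPGroup 2 (zpowers v)).exists_le_sylow
  obtain ⟨g, rfl⟩ := MulAction.exists_smul_eq G S Q
  obtain ⟨w, hw, rfl⟩ : v ∈ (S : Subgroup G).map (MulAut.conj g).toMonoidHom := hQ (mem_zpowers v)
  refine hS w hw ?_ ?_
  · have := hv.conj h g⁻¹
    simpa [mul_assoc] using this
  · have := (normal_closure_D h).conj_mem _ hvD g⁻¹
    simpa [mul_assoc] using this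

variable {S : Sylow 2 G} {z : G} (hz : z ∈ D) (hzS : z ∈ (S : Subgroup G))
  (hzc : ∀ s ∈ (S : Subgroup G), Commute s z)

include h hz in
/-- Thompson transfer, fed with `u ~ u z`. -/
theorem not_mem_of_transfer {Q : Subgroup G} (hQS : Q ≤ (S : Subgroup G))
    (hQ2 : Q.relIndex (S : Subgroup G) = 2) (hQ : ∀ v ∈ Q, ¬ RankOne Ω D v) {u : G}
    (huS : u ∈ (S : Subgroup G)) (hu : RankOne Ω D u) {w : G} (hw : w * u * w⁻¹ = u * z) :
    u ∉ Subgroup.closure D := by
  intro huD
  rcases H25.thompson_transfer S Q hQS hQ2 u hu.1.1 huS (fun e => hQ u e hu) with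
    ⟨M, hM, hM2, huM⟩ | ⟨g, hg⟩
  · have hwM : w * u * w⁻¹ ∉ M := fun e => huM (by
      have := hM.conj_mem _ e w⁻¹
      simpa [mul_assoc] using this)
    rw [hw] at hwM
    have hzM : z ∈ M := by
      by_contra hzM
      exact hwM ((mul_mem_iff_of_index_two hM2).mpr (iff_of_false huM hzM))
    refine huM ((Subgroup.closure_le M).mpr (fun d hd => ?_) huD)
    obtain ⟨g, rfl⟩ := isConj_iff.mp (h.isConj z hz d hd)
    exact hM.conj_mem z hzM g
  · exact hQ _ hg (hu.conj h g)

variable {t : G} (ht : NearCentral (S : Subgroup G) z t)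

include hz hzS hzc ht h in
theorem nearCentral_mul : NearCentral (S : Subgroup G) z (t * z) := by
  have hzz := mul_self h hz
  refine ⟨mul_mem ht.mem hzS, ?_, ?_, ?_, ?_⟩
  · rw [mul_assoc, ← mul_assoc z, (hzc t ht.mem).eq.symm, mul_assoc, hzz, mul_one, ht.sq]
  · intro e; exact ht.ne (by
      calc t = t * (z * z) := by rw [hzz, mul_one]
        _ = z := by rw [← mul_assoc, e, one_mul])
  · intro e; exact ht.ne_one (mul_eq_right.mp e)
  · intro s hs
    have e : s * (t * z) * s⁻¹ = s * t * s⁻¹ * z := by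
      rw [show s * (t * z) * s⁻¹ = s * t * s⁻¹ * (s * z * s⁻¹) by group,
        show s * z * s⁻¹ = z by rw [(hzc s hs).eq, mul_inv_cancel_right]]
    rcases ht.conj s hs with e' | e' <;> rw [e, e']
    · exact Or.inl rfl
    · exact Or.inr rfl

include h hz hzc ht in
theorem done_of_near (hno : ∀ v ∈ (S : Subgroup G), Commute v t → ¬ RankOne Ω D v) : Done Ω D := by
  refine done_of_sylow h S fun u huS hu => ?_
  set Q := (S : Subgroup G) ⊓ centralizer {t} with hQdef
  have hmQ : ∀ {s : G}, s ∈ Q ↔ s ∈ (S : Subgroup G) ∧ Commute s t := fun {s} =>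
    and_congr Iff.rfl mem_centralizer_singleton_iff
  have huu := H26.mul_self_of_orderOf_two hu.1.1
  have hut : u * t * u⁻¹ = t * z := (ht.conj u huS).resolve_left fun e =>
    hno u huS (mul_inv_eq_iff_eq_mul.mp e) hu
  refine not_mem_of_transfer h hz inf_le_left ?_ (fun v hv => hno v (hmQ.mp hv).1 (hmQ.mp hv).2)
    huS hu (w := t) ?_
  · rw [relIndex, index_eq_two_iff]
    refine ⟨⟨u, huS⟩, fun b => ?_⟩
    have hbz : (b : G) * z * (b : G)⁻¹ = z := by rw [(hzc b b.2).eq, mul_inv_cancel_right]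
    rcases ht.conj b b.2 with e | e
    · refine Or.inr ⟨hmQ.mpr ⟨b.2, mul_inv_eq_iff_eq_mul.mp e⟩, fun hbu => ?_⟩
      refine hno u huS ?_ hu
      have hb : (b : G) ∈ Q := hmQ.mpr ⟨b.2, mul_inv_eq_iff_eq_mul.mp e⟩
      exact (hmQ.mp ((mul_mem_cancel_left hb).mp hbu)).2
    · refine Or.inl ⟨hmQ.mpr ⟨mul_mem b.2 huS, mul_inv_eq_iff_eq_mul.mp ?_⟩, fun hb => ?_⟩
      · show (b : G) * u * t * ((b : G) * u)⁻¹ = t
        rw [show (b : G) * u * t * ((b : G) * u)⁻¹ = b * (u * t * u⁻¹) * (b : G)⁻¹ by group, hut,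
          show (b : G) * (t * z) * (b : G)⁻¹ = b * t * (b : G)⁻¹ * (b * z * (b : G)⁻¹) by group,
          e, hbz, mul_assoc, mul_self h hz, mul_one]
      · have hb' : Commute (b : G) t := (hmQ.mp (Subgroup.mem_subgroupOf.mp hb)).2
        have e' : (b : G) * t * (b : G)⁻¹ = t := by rw [hb'.eq, mul_inv_cancel_right]
        exact H26.ne_one_of_orderOf_two (h.inv z hz) (left_eq_mul.mp (e'.symm.trans e))
  · have uinv : u⁻¹ = u := inv_eq_of_mul_eq_one_right huu
    have tinv : t⁻¹ = t := inv_eq_of_mul_eq_one_right ht.sq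
    rw [uinv] at hut
    rw [tinv]
    calc t * u * t = (u * u) * (t * u * t) := by rw [huu, one_mul]
      _ = u * (u * t * u) * t := by group
      _ = u * (t * z * t) := by rw [hut]; group
      _ = u * z := by rw [(hzc t ht.mem).eq, mul_assoc, ht.sq, mul_one]

include h hz hzS hzc ht in
/-- A normal four group all of whose involutions are good. -/
theorem done_of_good (hgt : ¬ Bad Ω t) (hgtz : ¬ Bad Ω (t * z)) : Done Ω D := by
  refine done_of_near h hz hzc ht fun v hv hvt hv' => ht.ne ?_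
  exact eq_of_good h hv' hz (hzc v hv).symm (H26.orderOf_two_of_mul_self ht.sq ht.ne_one) hvt.symm
    (hzc t ht.mem) hgt hgtz

include h hz hzS hzc in
/-- An elementary abelian normal subgroup containing `z` properly gives a normal four group. -/
theorem exists_near {B : Subgroup G} (hBS : B ≤ (S : Subgroup G)) (hB2 : ∀ b ∈ B, b * b = 1)
    (hBn : ∀ s ∈ (S : Subgroup G), ∀ b ∈ B, s * b * s⁻¹ ∈ B) (hzB : z ∈ B) {b : G} (hb : b ∈ B)
    (hb1 : b ≠ 1) (hbz : b ≠ z) : ∃ t ∈ B, NearCentral (S : Subgroup G) z t := by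
  haveI : Fact (Nat.Prime 2) := ⟨Nat.prime_two⟩
  have hS2 : IsPGroup 2 (S : Subgroup G) := S.2
  set zS : (S : Subgroup G) := ⟨z, hzS⟩
  set B' := B.subgroupOf (S : Subgroup G)
  haveI : B'.Normal := ⟨fun x hx g => hBn g g.2 x hx⟩
  haveI : (zpowers zS).Normal := PGroups.normal_of_le_center (zpowers_le.mpr
    (Subgroup.mem_center_iff.mpr fun g => Subtype.ext (hzc g g.2)))
  have hz2 : Nat.card (zpowers zS) = 2 := by
    rw [Nat.card_zpowers, ← orderOf_coe]; exact h.inv z hz
  have hle : zpowers zS ≤ B' := zpowers_le.mpr hzB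
  have h4 : 2 ^ 1 * Nat.card (zpowers zS) ≤ Nat.card B' := by
    have hlt : zpowers zS < B' := by
      refine lt_of_le_of_ne hle fun e => ?_
      have : (⟨b, hBS hb⟩ : (S : Subgroup G)) ∈ zpowers zS := by rw [e]; exact hb
      obtain ⟨i, hi⟩ := mem_zpowers_iff.mp this
      have hzs : zS ^ 2 = 1 := Subtype.ext (by simpa [sq] using mul_self h hz)
      rcases Int.even_or_odd' i with ⟨k, rfl | rfl⟩
      · rw [zpow_mul, zpow_two, ← sq, hzs, one_zpow] at hi
        exact hb1 (congrArg Subtype.val hi).symm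
      · rw [zpow_add_one, zpow_mul, zpow_two, ← sq, hzs, one_zpow, one_mul] at hi
        exact hbz (congrArg Subtype.val hi).symm
    obtain ⟨M, -, -, hMK, hM⟩ := PGroups.exists_normal_card_mul (p := 2) hS2 _ B' hlt
    rw [pow_one, ← hM]
    exact Nat.card_le_card_of_injective _ (Subgroup.inclusion_injective hMK)
  obtain ⟨M, hMn, hzM, hMB, hM⟩ := PGroups.exists_normal_card_pow_mul (p := 2) hS2 _ B' hle 1 h4
  rw [hz2] at hM
  obtain ⟨m, hm, hmz⟩ : ∃ m ∈ M, m ∉ zpowers zS := by
    by_contra hc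
    push Not at hc
    have := Nat.card_le_card_of_injective _ (Subgroup.inclusion_injective (show M ≤ zpowers zS from hc))
    omega
  have hm1 : m ≠ 1 := fun e => hmz (e ▸ one_mem _)
  have hmz' : m ≠ zS := fun e => hmz (e ▸ mem_zpowers zS)
  have hmm : (m : G) * m = 1 := hB2 _ (hMB hm)
  refine ⟨m, hMB hm, m.2, hmm, fun e => hm1 (Subtype.ext e), fun e => hmz' (Subtype.ext e), ?_⟩
  have hzz := mul_self h hz
  intro s hs
  have hcard : M.carrier.ncard = 4 := by
    show Set.ncard (M : Set (S : Subgroup G)) = 4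
    rw [← Nat.card_coe_set_eq]; simpa using hM
  have hset : M.carrier = {1, zS, m, m * zS} := by
    symm
    refine Set.eq_of_subset_of_ncard_le ?_ ?_
    · rintro x (rfl | rfl | rfl | rfl)
      exacts [M.one_mem, hzM (mem_zpowers _), hm, M.mul_mem hm (hzM (mem_zpowers _))]
    · have hz1 : (1 : (S : Subgroup G)) ≠ zS := fun e =>
        H26.ne_one_of_orderOf_two (h.inv z hz) (congrArg Subtype.val e).symm
      have e1 : (1 : (S : Subgroup G)) ≠ m * zS := fun e => hmz' (by
        rw [mul_eq_one_iff_eq_inv.mp e.symm]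
        exact Subtype.ext (inv_eq_of_mul_eq_one_right hzz))
      have e2 : zS ≠ m * zS := fun e => hm1 (mul_eq_right.mp e.symm)
      have e3 : m ≠ m * zS := fun e => hz1 (left_eq_mul.mp e).symm
      rw [hcard, Set.ncard_insert_of_notMem (by simp [hz1, Ne.symm hm1, e1]),
        Set.ncard_insert_of_notMem (by simp [Ne.symm hmz', e2]), Set.ncard_pair e3]
  have hx : (⟨s, hs⟩ : (S : Subgroup G)) * m * (⟨s, hs⟩ : (S : Subgroup G))⁻¹ ∈ M.carrier :=
    hMn.conj_mem m hm _
  rw [hset] at hx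
  rcases hx with e | e | e | e
  · exact absurd (conj_eq_one_iff.mp e) hm1
  · refine absurd ?_ hmz'
    have e' := congrArg Subtype.val e
    apply Subtype.ext
    calc (m : G) = s⁻¹ * (s * m * s⁻¹) * s := by group
      _ = s⁻¹ * z * s := by rw [show s * m * s⁻¹ = z from e']
      _ = z := by rw [mul_assoc, ← (hzc s hs).eq, inv_mul_cancel_left]
  · exact Or.inl (congrArg Subtype.val e)
  · exact Or.inr (congrArg Subtype.val (Set.mem_singleton_iff.mp e))

include h hz hzS hzc in
/-- Pairwise commuting members, stable under `S`. -/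
theorem done_of_commuting {T : Set G} (hTS : T ⊆ (S : Subgroup G)) (hTD : T ⊆ D)
    (hTc : ∀ a ∈ T, ∀ b ∈ T, Commute a b)
    (hTn : ∀ s ∈ (S : Subgroup G), ∀ a ∈ T, s * a * s⁻¹ ∈ T) (hzT : z ∈ T) {a : G} (ha : a ∈ T)
    (haz : a ≠ z) : Done Ω D := by
  set B := Subgroup.closure T with hB
  have hBc : ∀ x ∈ B, ∀ y ∈ B, Commute x y := by
    intro x hx y hy
    exact (Subgroup.isMulCommutative_closure (fun p hp q hq => (hTc p hp q hq).eq)).is_comm.comm
      ⟨x, hx⟩ ⟨y, hy⟩ |> congrArg Subtype.val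
  have hB2 : ∀ b ∈ B, b * b = 1 := by
    intro b hb
    induction hb using Subgroup.closure_induction with
    | mem x hx => exact mul_self h (hTD hx)
    | one => rw [mul_one]
    | mul x y hx hy ix iy =>
      rw [mul_assoc, ← mul_assoc y, (hBc y hy x hx).eq, mul_assoc, iy, mul_one, ix]
    | inv x _ ix => rw [← mul_inv_rev, ix, inv_one]
  have hBn : ∀ s ∈ (S : Subgroup G), ∀ b ∈ B, s * b * s⁻¹ ∈ B := by
    intro s hs b hb
    induction hb using Subgroup.closure_induction with
    | mem x hx => exact Subgroup.subset_closure (hTn s hs x hx)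
    | one => simp
    | mul x y _ _ ix iy =>
      rw [show s * (x * y) * s⁻¹ = s * x * s⁻¹ * (s * y * s⁻¹) by group]; exact mul_mem ix iy
    | inv x _ ix =>
      rw [show s * x⁻¹ * s⁻¹ = (s * x * s⁻¹)⁻¹ by group]; exact inv_mem ix
  obtain ⟨t, htB, ht⟩ := exists_near h hz hzS hzc ((Subgroup.closure_le _).mpr hTS) hB2 hBn
    (Subgroup.subset_closure hzT) (Subgroup.subset_closure ha)
    (H26.ne_one_of_orderOf_two (h.inv a (hTD ha))) haz
  have hgood : ∀ x ∈ B, x ≠ 1 → ¬ Bad Ω x := fun x hx hx1 =>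
    good_closure h hTD hTc (H26.orderOf_two_of_mul_self (hB2 x hx) hx1) hx
  exact done_of_good h hz hzS hzc ht (hgood t htB ht.ne_one)
    (hgood _ (mul_mem htB (Subgroup.subset_closure hzT)) (nearCentral_mul h hz hzS hzc ht).ne_one)

end Cfsg.Agent.H26.Asch
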