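import Cfsg.Agent.H26.Asch.Kill

/-!
# Rank one lines: a Sylow 2-subgroup without normal four group
-/

set_option autoImplicit false

namespace Cfsg.Agent.H26.Asch

open Subgroup

variable {G : Type*} [Group G] [Finite G] {Ω : Type*} [MulAction G Ω] {D : Set G} (h : Base Ω D)
variable {S : Sylow 2 G} {z : G} (hz : z ∈ D) (hzS : z ∈ (S : Subgroup G))
  (hzc : ∀ s ∈ (S : Subgroup G), Commute s z)

include h hz hzS hzc in
/-- A normal abelian subgroup that is not cyclic gives a normal four group. -/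
theorem exists_near_of_noncyclic {A : Subgroup (S : Subgroup G)} (hAn : A.Normal)
    (hA : IsMulCommutative A) (hAc : ¬ IsCyclic A) :
    ∃ t, NearCentral (S : Subgroup G) z t := by
  haveI : Fact (Nat.Prime 2) := ⟨Nat.prime_two⟩
  have hS2 : IsPGroup 2 (S : Subgroup G) := S.2
  set zS : (S : Subgroup G) := ⟨z, hzS⟩
  have hzcS : ∀ g : (S : Subgroup G), Commute g zS := fun g => Subtype.ext (hzc g g.2)
  set A' := A ⊔ zpowers zS
  have hA' : IsMulCommutative A' := PGroups.isMulCommutative_sup_zpowers hA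
    (mem_centralizer_iff.mpr fun a _ => (hzcS a).eq)
  haveI := hAn
  haveI : (zpowers zS).Normal := PGroups.normal_of_le_center (zpowers_le.mpr
    (Subgroup.mem_center_iff.mpr fun g => hzcS g))
  have hA'n : A'.Normal := inferInstance
  have hA'c : ¬ IsCyclic A' := fun hc => hAc (by
    haveI := hc
    exact isCyclic_of_injective (Subgroup.inclusion (le_sup_left : A ≤ A')) (Subgroup.inclusion_injective _))
  let W : Subgroup (S : Subgroup G) :=
    { carrier := {a | a ∈ A' ∧ a ^ 2 = 1}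
      one_mem' := ⟨one_mem _, one_pow 2⟩
      mul_mem' := fun {a b} ha hb => ⟨mul_mem ha.1 hb.1, by
        rw [(show Commute a b from PGroups.comm_of_isMulCommutative hA' ha.1 hb.1).mul_pow, ha.2,
          hb.2, one_mul]⟩
      inv_mem' := fun {a} ha => ⟨inv_mem ha.1, by rw [inv_pow, ha.2, inv_one]⟩ }
  have hzW : zS ∈ W := ⟨mem_sup_right (mem_zpowers _),
    Subtype.ext (by simpa [sq] using mul_self h hz)⟩
  obtain ⟨b, hb, hb1, hbz⟩ : ∃ b ∈ W, b ≠ 1 ∧ b ≠ zS := by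
    by_contra hc
    push Not at hc
    refine hA'c (PGroups.isCyclic_of_small_omega hS2 hA' W (fun a ha hap => ⟨ha, hap⟩) ?_)
    have hsub : (W : Set (S : Subgroup G)) ⊆ {1, zS} := fun a ha => by
      by_cases ha1 : a = 1
      · exact Or.inl ha1
      · exact Or.inr (hc a ha ha1)
    show Nat.card (W : Set (S : Subgroup G)) ≤ 2
    rw [Nat.card_coe_set_eq]
    exact ((Set.ncard_le_ncard hsub).trans (Set.ncard_insert_le _ _)).trans (by simp)
  obtain ⟨t, -, ht⟩ := exists_near h hz hzS hzc (B := W.map (S : Subgroup G).subtype)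
    (map_subtype_le W) (by
      rintro _ ⟨w, hw, rfl⟩
      simpa [sq] using congrArg Subtype.val hw.2)
    (by
      rintro s hs _ ⟨w, hw, rfl⟩
      exact ⟨⟨s, hs⟩ * w * (⟨s, hs⟩ : (S : Subgroup G))⁻¹,
        ⟨hA'n.conj_mem w hw.1 _, by rw [conj_pow, hw.2, mul_one, mul_inv_cancel]⟩, rfl⟩)
    ⟨zS, hzW, rfl⟩ ⟨b, hb, rfl⟩ (fun e => hb1 (Subtype.ext e)) (fun e => hbz (Subtype.ext e))
  exact ⟨t, ht⟩

include h hz hzS hzc in
/-- Dihedral, semidihedral or quaternion Sylow 2-subgroups. -/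
theorem done_of_cyclic_normal
    (hn : ∀ A : Subgroup (S : Subgroup G), A.Normal → IsMulCommutative A → IsCyclic A)
    {a : G} (ha : a ∈ D) (haS : a ∈ (S : Subgroup G)) (haz : a ≠ z) : Done Ω D := by
  refine done_of_sylow h S fun u huS hu => ?_
  haveI : Fact (Nat.Prime 2) := ⟨Nat.prime_two⟩
  have hS2 : IsPGroup 2 (S : Subgroup G) := S.2
  have hzz := mul_self h hz
  have huz : u ≠ z := fun e => member_not_bad h hz (e ▸ hu.1)
  have sq1 : ∀ {x : G} (hx : x ∈ (S : Subgroup G)), x * x = 1 → (⟨x, hx⟩ : (S : Subgroup G)) ^ 2 = 1 :=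
    fun {x} _ e => Subtype.ext (by simpa [sq] using e)
  have hnc : ¬ IsCyclic (S : Subgroup G) := fun hc => huz (congrArg Subtype.val
    (PGroups.eq_of_sq_eq_one (H := (⊤ : Subgroup (S : Subgroup G)))
      (isCyclic_of_surjective (Subgroup.topEquiv.symm.toMonoidHom) Subgroup.topEquiv.symm.surjective)
      (mem_top (⟨u, huS⟩ : (S : Subgroup G))) (mem_top (⟨z, hzS⟩ : (S : Subgroup G)))
      (sq1 huS (H26.mul_self_of_orderOf_two hu.1.1)) (sq1 hzS hzz)
      (fun e => H26.ne_one_of_orderOf_two hu.1.1 (congrArg Subtype.val e))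
      (fun e => H26.ne_one_of_orderOf_two (h.inv z hz) (congrArg Subtype.val e))))
  obtain ⟨k, c', y', hc', hcard, hy', hcases⟩ :=
    PGroups.structure_of_normal_abelian_cyclic hS2 hnc hn
  obtain ⟨hk2, e, he⟩ : 2 ≤ k ∧ ∃ e : ℤ, y' * c' * y'⁻¹ = c' ^ e ∧
      ((3 ≤ k ∧ e = -1 ∧ y' ^ 2 = 1) ∨ (e = -1 ∧ y' ^ 2 = c' ^ 2 ^ (k - 1)) ∨
        (3 ≤ k ∧ e = 2 ^ (k - 1) - 1 ∧ y' ^ 2 = 1)) := by
    rcases hcases with ⟨h1, h2, h3⟩ | ⟨h1, h2, h3⟩ | ⟨h1, h2, h3⟩
    · exact ⟨by omega, -1, by rw [h2, zpow_neg_one], Or.inl ⟨h1, rfl, h3⟩⟩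
    · exact ⟨h1, -1, by rw [h2, zpow_neg_one], Or.inr (Or.inl ⟨rfl, h3⟩)⟩
    · refine ⟨by omega, 2 ^ (k - 1) - 1, ?_, Or.inr (Or.inr ⟨h1, rfl, h3⟩)⟩
      rw [h2, ← zpow_natCast, Nat.cast_sub Nat.one_le_two_pow]
      push_cast; rfl
  obtain ⟨he, hcase⟩ := he
  -- move to `G`
  set c : G := (c' : G) with hc
  set y : G := (y' : G) with hy
  have hck : orderOf c = 2 ^ k := by rw [hc, orderOf_coe, hc']
  have hyc : y * c * y⁻¹ = c ^ e := by simpa using congrArg Subtype.val he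
  have hidx : (zpowers c').index = 2 := by
    have := (zpowers c').card_mul_index
    rw [Nat.card_zpowers, hc', hcard, pow_succ] at this
    exact Nat.eq_of_mul_eq_mul_left (pow_pos two_pos k) this
  have hdec : ∀ s ∈ (S : Subgroup G), (∃ i : ℤ, s = c ^ i) ∨ ∃ i : ℤ, s = y * c ^ i := by
    intro s hs
    by_cases hsc : (⟨s, hs⟩ : (S : Subgroup G)) ∈ zpowers c'
    · obtain ⟨i, hi⟩ := hsc
      exact Or.inl ⟨i, by simpa using (congrArg Subtype.val hi).symm⟩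
    · have : y'⁻¹ * ⟨s, hs⟩ ∈ zpowers c' :=
        (mul_mem_iff_of_index_two hidx).mpr (iff_of_false (fun e => hy' (inv_mem_iff.mp e)) hsc)
      obtain ⟨i, hi⟩ := this
      refine Or.inr ⟨i, ?_⟩
      have := congrArg Subtype.val hi
      simp only [SubgroupClass.coe_zpow, Subgroup.coe_mul, Subgroup.coe_inv] at this
      rw [hy, hc, this, mul_inv_cancel_left]
  have hpow : ∀ i : ℤ, c ^ i = 1 ↔ (2 : ℤ) ^ k ∣ i := fun i => by
    rw [← orderOf_dvd_iff_zpow_eq_one, hck]; push_cast; rfl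
  have hyci : ∀ i : ℤ, y * c ^ i * y⁻¹ = c ^ (e * i) := fun i => by
    rw [← conj_zpow, hyc, ← zpow_mul]
  have hodd : ¬ (2 : ℤ) ∣ e := by
    rcases hcase with ⟨-, rfl, -⟩ | ⟨rfl, -⟩ | ⟨h3, rfl, -⟩
    · omega
    · omega
    · obtain ⟨l, rfl⟩ : ∃ l, k = l + 2 := ⟨k - 2, by omega⟩
      rw [show l + 2 - 1 = l + 1 by omega, pow_succ]; omega
  have h4k : (4 : ℤ) ∣ 2 ^ k := ⟨2 ^ (k - 2), by
    nth_rw 1 [show k = 2 + (k - 2) by omega]; rw [pow_add]; ring⟩
  have he3 : (4 : ℤ) ∣ e + 1 := by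
    rcases hcase with ⟨-, rfl, -⟩ | ⟨rfl, -⟩ | ⟨h3, rfl, -⟩
    · simp
    · simp
    · obtain ⟨l, rfl⟩ : ∃ l, k = l + 3 := ⟨k - 3, by omega⟩
      rw [show l + 3 - 1 = l + 2 by omega, pow_add]; exact ⟨2 ^ l, by ring⟩
  -- involutions in `⟨c⟩`
  have hC : ∀ i : ℤ, c ^ i * c ^ i = 1 → c ^ i = 1 ∨ c ^ i = c ^ (2 : ℤ) ^ (k - 1) := by
    intro i hi
    rw [← zpow_add, hpow] at hi
    obtain ⟨q, hq⟩ := hi
    have hk' : (2 : ℤ) ^ k = 2 * 2 ^ (k - 1) := by
      rw [← pow_succ']; congr 1; omega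
    rw [hk'] at hq
    have : i = 2 ^ (k - 1) * q := by linarith
    rcases Int.even_or_odd' q with ⟨l, rfl | rfl⟩
    · left; rw [hpow, hk', this]; exact ⟨l, by ring⟩
    · right
      rw [this, show (2 : ℤ) ^ (k - 1) * (2 * l + 1) = 2 ^ (k - 1) + 2 ^ k * l by rw [hk']; ring,
        zpow_add, (hpow _).mpr ⟨l, rfl⟩, mul_one]
  have hzC : ∃ i : ℤ, z = c ^ i := by
    refine (hdec z hzS).resolve_right ?_
    rintro ⟨i, hi⟩
    have e1 : c ^ e = c := by
      calc c ^ e = y * c * y⁻¹ := hyc.symm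
        _ = z * c * z⁻¹ := by rw [hi]; group
        _ = c := by rw [← (hzc c c'.2).eq, mul_inv_cancel_right]
    have h2 : c ^ (e - 1) = 1 := by rw [zpow_sub, e1, zpow_one, mul_inv_cancel]
    rw [hpow] at h2
    have := h4k.trans h2
    omega
  have hzh : z = c ^ (2 : ℤ) ^ (k - 1) := by
    obtain ⟨i, rfl⟩ := hzC
    exact (hC i hzz).resolve_left (H26.ne_one_of_orderOf_two (h.inv _ hz))
  have hout : ∀ x ∈ (S : Subgroup G), x * x = 1 → x ≠ 1 → x ≠ z → ∃ i : ℤ, x = y * c ^ i := by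
    intro x hx hxx hx1 hxz
    refine (hdec x hx).resolve_left ?_
    rintro ⟨i, rfl⟩
    rcases hC i hxx with e' | e'
    · exact hx1 e'
    · exact hxz (e'.trans hzh.symm)
  obtain ⟨α, hα⟩ := hout a haS (mul_self h ha) (H26.ne_one_of_orderOf_two (h.inv a ha)) haz
  have hac : ∀ i : ℤ, a * c ^ i * a⁻¹ = c ^ (e * i) := fun i => by
    rw [← hyci, hα]; group
  have hainv : a⁻¹ = a := inv_eq_of_mul_eq_one_right (mul_self h ha)
  -- a rank one element of `S` is `a c ^ odd`, and then `S` is dihedral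
  have hru : ∀ v ∈ (S : Subgroup G), RankOne Ω D v →
      ∃ j : ℤ, v = a * c ^ j ∧ ¬ (2 : ℤ) ∣ j ∧ e = -1 := by
    intro v hv hv'
    obtain ⟨i, hi⟩ := hout v hv (H26.mul_self_of_orderOf_two hv'.1.1)
      (H26.ne_one_of_orderOf_two hv'.1.1) (fun e' => member_not_bad h hz (e' ▸ hv'.1))
    have hj : v = a * c ^ (i - α) := by rw [hi, hα]; group
    have hjo : ¬ (2 : ℤ) ∣ i - α := fun hev => by
      -- a conjugate of `a`
      obtain ⟨l, hl⟩ := hev
      have hstep : ∀ i : ℤ, c ^ i * a * (c ^ i)⁻¹ = a * c ^ (e * i - i) := fun i => by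
        calc c ^ i * a * (c ^ i)⁻¹ = a * (a * c ^ i * a) * (c ^ i)⁻¹ := by
              rw [← mul_assoc a, ← mul_assoc a, mul_self h ha, one_mul]
          _ = a * c ^ (e * i - i) := by
              nth_rw 3 [← hainv]
              rw [hac, mul_assoc, ← zpow_neg, ← zpow_add, sub_eq_add_neg]
      obtain ⟨m, hm⟩ : ∃ m : ℤ, (2 : ℤ) ^ k ∣ (e * m - m) - 2 * l := by
        rcases hcase with ⟨-, rfl, -⟩ | ⟨rfl, -⟩ | ⟨h3, rfl, -⟩
        · exact ⟨-l, 0, by ring⟩
        · exact ⟨-l, 0, by ring⟩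
        · obtain ⟨r, rfl⟩ : ∃ r, k = r + 3 := ⟨k - 3, by omega⟩
          rw [show r + 3 - 1 = r + 2 by omega]
          refine ⟨l * (-1 - 2 ^ (r + 1)), -l * 2 ^ r, ?_⟩
          ring
      have : c ^ (e * m - m) = c ^ (i - α) := by
        rw [← mul_inv_eq_one, ← zpow_neg, ← zpow_add, hpow, hl, ← sub_eq_add_neg]; exact hm
      rw [← this, ← hstep] at hj
      exact member_not_bad h (hj ▸ h.conj_mem a ha _) hv'.1
    refine ⟨i - α, hj, hjo, ?_⟩
    rcases hcase with ⟨-, rfl, -⟩ | ⟨rfl, -⟩ | ⟨h3, rfl, -⟩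
    · rfl
    · rfl
    · exfalso
      have h1 := H26.mul_self_of_orderOf_two hv'.1.1
      rw [hj] at h1
      have h2 : c ^ ((2 ^ (k - 1) - 1) * (i - α) + (i - α)) = 1 := by
        rw [zpow_add, ← hac]
        calc a * c ^ (i - α) * a⁻¹ * c ^ (i - α) = a * c ^ (i - α) * (a * c ^ (i - α)) := by
              rw [hainv]; group
          _ = 1 := h1
      rw [hpow] at h2
      obtain ⟨q, hq⟩ := h2
      refine hjo ⟨q, ?_⟩
      have hk' : (2 : ℤ) ^ k = 2 ^ (k - 1) * 2 := by rw [← pow_succ]; congr 1; omega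
      rw [hk'] at hq
      exact mul_left_cancel₀ (pow_ne_zero (k - 1) (two_ne_zero (α := ℤ))) (by linarith)
  obtain ⟨j, hj, hjodd, rfl⟩ := hru u huS hu
  have hk3 : 3 ≤ k := by
    rcases hcase with ⟨h3, -, -⟩ | ⟨-, hq⟩ | ⟨h3, -, -⟩
    · exact h3
    · exfalso
      -- quaternion groups have a single involution
      obtain ⟨i, hi⟩ := hout u huS (H26.mul_self_of_orderOf_two hu.1.1)
        (H26.ne_one_of_orderOf_two hu.1.1) huz
      have h1 := H26.mul_self_of_orderOf_two hu.1.1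
      rw [hi] at h1
      have hyy : y * y = z := by
        rw [hzh, show (2 : ℤ) ^ (k - 1) = ((2 ^ (k - 1) : ℕ) : ℤ) by push_cast; rfl, zpow_natCast, hc,
          hy, ← Subgroup.coe_mul, ← sq, hq, SubgroupClass.coe_pow]
      apply H26.ne_one_of_orderOf_two (h.inv z hz)
      calc z = y * y := hyy.symm
        _ = y * (c ^ i * c ^ (-1 * i)) * y := by group
        _ = y * c ^ i * (y * c ^ i) := by rw [← hyci]; group
        _ = 1 := h1
    · exact h3
  -- the maximal subgroup `⟨a, c²⟩`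
  have ha2 := mul_self h ha
  have hflip : ∀ i : ℤ, c ^ i * a = a * c ^ (-i) := fun i => by
    calc c ^ i * a = a * (a * c ^ i * a⁻¹) := by rw [hainv, ← mul_assoc, ← mul_assoc, ha2, one_mul]
      _ = a * c ^ (-i) := by rw [hac, neg_one_mul]
  let Q : Subgroup G :=
    { carrier := {s | ∃ l : ℤ, s = c ^ (2 * l) ∨ s = a * c ^ (2 * l)}
      one_mem' := ⟨0, Or.inl (by simp)⟩
      mul_mem' := by
        rintro s s' ⟨l, rfl | rfl⟩ ⟨l', rfl | rfl⟩
        · exact ⟨l + l', Or.inl (by rw [← zpow_add]; ring_nf)⟩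
        · exact ⟨-l + l', Or.inr (by
            rw [← mul_assoc, hflip, mul_assoc, ← zpow_add]; ring_nf)⟩
        · exact ⟨l + l', Or.inr (by rw [mul_assoc, ← zpow_add]; ring_nf)⟩
        · exact ⟨-l + l', Or.inl (by
            rw [mul_assoc, ← mul_assoc (c ^ (2 * l)), hflip, mul_assoc a, ← mul_assoc, ha2, one_mul,
              ← zpow_add]; ring_nf)⟩
      inv_mem' := by
        rintro s ⟨l, rfl | rfl⟩
        · exact ⟨-l, Or.inl (by rw [← zpow_neg]; ring_nf)⟩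
        · exact ⟨l, Or.inr (by rw [mul_inv_rev, hainv, ← zpow_neg, hflip, neg_neg])⟩ }
  have hcS : ∀ i : ℤ, c ^ i ∈ (S : Subgroup G) := fun i => zpow_mem c'.2 i
  have hQS : Q ≤ (S : Subgroup G) := by
    rintro s ⟨l, rfl | rfl⟩
    exacts [hcS _, mul_mem haS (hcS _)]
  have hanc : ∀ i : ℤ, a ≠ c ^ i := fun i e' => by
    rcases hC i (e' ▸ ha2) with e'' | e''
    · exact H26.ne_one_of_orderOf_two (h.inv a ha) (e'.trans e'')
    · exact haz (e'.trans (e''.trans hzh.symm))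
  have hcQ : ∀ i : ℤ, c ^ i ∈ Q ↔ (2 : ℤ) ∣ i := by
    intro i
    constructor
    · rintro ⟨l, e' | e'⟩
      · have h1 : c ^ (i - 2 * l) = 1 := by rw [zpow_sub, e', mul_inv_cancel]
        rw [hpow] at h1
        obtain ⟨q, hq⟩ := ((dvd_pow_self (2 : ℤ) (by omega : k ≠ 0))).trans h1
        exact ⟨q + l, by omega⟩
      · exact absurd (by rw [zpow_sub, e', mul_inv_cancel_right]) (hanc (i - 2 * l))
    · rintro ⟨l, rfl⟩; exact ⟨l, Or.inl rfl⟩
  have haQ : a ∈ Q := ⟨0, Or.inr (by simp)⟩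
  refine not_mem_of_transfer h hz hQS ?_ ?_ huS hu (w := c ^ (-(2 : ℤ) ^ (k - 2))) ?_
  · rw [relIndex, index_eq_two_iff]
    refine ⟨⟨u, huS⟩, fun b => ?_⟩
    show Xor' ((b : G) * u ∈ Q) ((b : G) ∈ Q)
    rcases hdec b b.2 with ⟨i, hi⟩ | ⟨i, hi⟩
    · have e1 : (b : G) * u = a * c ^ (-i + j) := by
        rw [hi, hj, ← mul_assoc, hflip, mul_assoc, ← zpow_add]
      rw [e1, Q.mul_mem_cancel_left haQ, hi, hcQ, hcQ]
      by_cases h2 : (2 : ℤ) ∣ i
      · exact Or.inr ⟨h2, fun h3 => hjodd (by omega)⟩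
      · exact Or.inl ⟨by omega, h2⟩
    · have hb : (b : G) = a * c ^ (i - α) := by rw [hi, hα]; group
      have e1 : (b : G) * u = c ^ (-(i - α) + j) := by
        rw [hb, hj, mul_assoc, ← mul_assoc (c ^ (i - α)), hflip, mul_assoc a, ← mul_assoc, ha2, one_mul,
          ← zpow_add]
      rw [e1, hb, Q.mul_mem_cancel_left haQ, hcQ, hcQ]
      by_cases h2 : (2 : ℤ) ∣ i - α
      · exact Or.inr ⟨h2, fun h3 => hjodd (by omega)⟩
      · exact Or.inl ⟨by omega, h2⟩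
  · intro v hv hv'
    obtain ⟨j', rfl, hj', -⟩ := hru v (hQS hv) hv'
    exact hj' ((hcQ j').mp ((Q.mul_mem_cancel_left haQ).mp hv))
  · rw [hj, hzh, ← mul_assoc, hflip, ← zpow_neg, neg_neg, mul_assoc a, ← zpow_add, mul_assoc a,
      ← zpow_add, mul_assoc a, ← zpow_add]
    congr 1
    congr 1
    have : (2 : ℤ) ^ (k - 1) = 2 * 2 ^ (k - 2) := by rw [← pow_succ']; congr 1; omega
    omega

end Cfsg.Agent.H26.Asch
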