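import Cfsg.Agent.Coprime.Centralize
import Cfsg.Agent.H26.Invol
import Cfsg.Agent.PGroups.Basic
import Mathlib.Tactic

/-!
# Aschbacher's criterion at q = 4: no trivial section

A 2-group `R` with an automorphism `a` of order 3 whose fixed points have a single involution `u`,
with `C_R(u) = Z C_R(a)` for a four group `Z` moved freely by `a`: then `[R, a]` meets `C_R(a)`
trivially. (For `q ≥ 8` this follows from the weights; for `q = 4` squaring has to be excluded.)
-/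

set_option autoImplicit false

namespace Cfsg.Agent.H26.Asch

open Subgroup
open scoped commutatorElement

variable {G : Type*} [Group G] [Finite G]

/-- The data of the lemma. -/
structure FourData (R Z : Subgroup G) (a u : G) : Prop where
  two : IsPGroup 2 R
  ord : orderOf a = 3
  norm : a ∈ normalizer (R : Set G)
  mem : u ∈ R
  inv : orderOf u = 2
  fix : Commute u a
  uniq : ∀ x ∈ R, x * x = 1 → x ≠ 1 → Commute x a → x = u
  le : Z ≤ R
  card : Nat.card Z = 4
  sq : ∀ z ∈ Z, z * z = 1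
  normZ : a ∈ normalizer (Z : Set G)
  free : ∀ z ∈ Z, Commute z a → z = 1
  comm : ∀ z ∈ Z, Commute z u
  commT : ∀ t ∈ R, Commute t a → ∀ z ∈ Z, Commute t z
  cent : ∀ g ∈ R, Commute g u → ∃ z ∈ Z, ∃ t ∈ R, Commute t a ∧ g = z * t

variable {R Z : Subgroup G} {a u : G} (h : FourData R Z a u)

include h in
theorem FourData.mem_of_fixed {H : Subgroup G} (hHR : H ≤ R) (haH : a ∈ normalizer (H : Set G))
    (hT : ∀ t ∈ R, Commute t a → t ∈ H) {x : G} (hx : x ∈ R) (hfix : x⁻¹ * (a * x * a⁻¹) ∈ H) :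
    x ∈ H := by
  haveI : Fact (Nat.Prime 3) := ⟨Nat.prime_three⟩
  haveI : Fact (Nat.Prime 2) := ⟨Nat.prime_two⟩
  have hP : IsPGroup 3 (zpowers a) := IsPGroup.of_card (n := 1) (by rw [Nat.card_zpowers, h.ord, pow_one])
  have hndvd : ¬ 3 ∣ Nat.card H := by
    obtain ⟨n, hn⟩ := IsPGroup.iff_card.mp (h.two.to_le hHR)
    rw [hn]
    exact fun e => absurd (Nat.prime_three.dvd_of_dvd_pow e) (by norm_num)
  obtain ⟨n, hn, hc⟩ := Coprime.exists_commute_mem_coset hP (zpowers_le.mpr haH) hndvd (k := x) (by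
    intro b hb
    obtain ⟨i, rfl⟩ : ∃ i : ℕ, a ^ i = b :=
      (isOfFinOrder_of_finite a).mem_powers_iff_mem_zpowers.mpr hb
    induction i with
    | zero => simp
    | succ i ih =>
      have e : x⁻¹ * (a ^ (i + 1) * x * (a ^ (i + 1))⁻¹) =
          x⁻¹ * (a * x * a⁻¹) * (a * (x⁻¹ * (a ^ i * x * (a ^ i)⁻¹)) * a⁻¹) := by
        rw [pow_succ']; group
      rw [e]
      exact mul_mem hfix ((mem_normalizer_iff.mp haH _).mp (ih (pow_mem (mem_zpowers a) i))))
  have hxn : Commute (x * n) a :=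
    (Subgroup.mem_centralizer_iff.mp hc a (mem_zpowers a)).symm
  exact (mul_mem_cancel_right hn).mp (hT _ (mul_mem hx (hHR hn)) hxn)

omit [Finite G] in
/-- A subgroup of a group of order four with two different non-trivial elements. -/
theorem eq_of_two_mem [Finite G] {K Z : Subgroup G} (hKZ : K ≤ Z) (hZ : Nat.card Z = 4) {p q : G}
    (hp : p ∈ K) (hq : q ∈ K) (hp1 : p ≠ 1) (hq1 : q ≠ 1) (hpq : p ≠ q) : K = Z := by
  refine Subgroup.eq_of_le_of_card_ge hKZ ?_
  have hdvd := Subgroup.card_dvd_of_le hKZ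
  rw [hZ] at hdvd ⊢
  have h3 : ({1, p, q} : Set G).ncard = 3 := by
    rw [Set.ncard_insert_of_notMem (by simp [hp1.symm, hq1.symm]), Set.ncard_pair hpq]
  have hle : ({1, p, q} : Set G).ncard ≤ Nat.card K := by
    rw [← SetLike.coe_sort_coe, Nat.card_coe_set_eq]
    exact Set.ncard_le_ncard (by rintro r (rfl | rfl | rfl); exacts [K.one_mem, hp, hq])
  have := Nat.le_of_dvd (by norm_num) hdvd
  interval_cases hk : Nat.card K <;> omega

set_option maxHeartbeats 2000000 in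
include h in
/-- **No trivial section at q = 4.** -/
theorem FourData.commutator_inf_eq_bot {x : G} (hx : x ∈ ⁅R, zpowers a⁆) (hxa : Commute x a) :
    x = 1 := by
  classical
  haveI : Fact (Nat.Prime 2) := ⟨Nat.prime_two⟩
  have huu := H26.mul_self_of_orderOf_two h.inv
  have hu1 := H26.ne_one_of_orderOf_two h.inv
  have huinv : u⁻¹ = u := inv_eq_of_mul_eq_one_right huu
  have haR : ∀ {g : G}, g ∈ R → a * g * a⁻¹ ∈ R := fun hg => (mem_normalizer_iff.mp h.norm _).mp hg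
  -- a maximal admissible normal subgroup
  obtain ⟨N, hNmem, hNmax⟩ := (Set.toFinite {N : Subgroup G | N ≤ R ∧ R ≤ normalizer (N : Set G) ∧
    a ∈ normalizer (N : Set G) ∧ ∀ t ∈ N, Commute t a → t = 1}).exists_maximal
    ⟨⊥, bot_le, fun g _ => mem_normalizer_iff.mpr fun y => by simp [Subgroup.mem_bot],
      mem_normalizer_iff.mpr fun y => by simp [Subgroup.mem_bot], fun t ht _ => mem_bot.mp ht⟩
  obtain ⟨hNR, hRN, haN, hNfree⟩ := hNmem
  have hconjN : ∀ {g n : G}, g ∈ R → n ∈ N → g * n * g⁻¹ ∈ N := fun hg hn =>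
    (mem_normalizer_iff.mp (hRN hg) _).mp hn
  have hN2 : IsPGroup 2 N := h.two.to_le hNR
  set Nr := N.subgroupOf R with hNr
  haveI : Nr.Normal := ⟨fun n hn g => hconjN g.2 hn⟩
  have hsup : ∀ K : Subgroup G, K ≤ R → R ≤ normalizer (K : Set G) → a ∈ normalizer (K : Set G) →
      N ≤ K → (∀ t ∈ K, Commute t a → t = 1) → K ≤ N := fun K h1 h2 h3 h4 h5 =>
    hNmax ⟨h1, h2, h3, h5⟩ h4
  -- `u` is central modulo `N`
  have hucent : ∀ g ∈ R, g * u * g⁻¹ * u⁻¹ ∈ N := by
    have hne : N ≠ R := fun e => hu1 (hNfree u (e ▸ h.mem) h.fix)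
    have hntriv : Nontrivial (R ⧸ Nr) := QuotientGroup.nontrivial_iff.mpr fun e =>
      hne (le_antisymm hNR (Subgroup.subgroupOf_eq_top.mp e))
    set K := ((center (R ⧸ Nr)).comap (QuotientGroup.mk' Nr)).map R.subtype with hK
    have hmK : ∀ {k : G}, k ∈ K ↔ k ∈ R ∧ ∀ g ∈ R, g * k * g⁻¹ * k⁻¹ ∈ N := by
      intro k
      constructor
      · rintro ⟨k, hk, rfl⟩
        refine ⟨k.2, fun g hg => ?_⟩
        have e := Subgroup.mem_center_iff.mp (Subgroup.mem_comap.mp hk) (QuotientGroup.mk ⟨g, hg⟩)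
        rw [QuotientGroup.mk'_apply, ← QuotientGroup.mk_mul, ← QuotientGroup.mk_mul, eq_comm,
          QuotientGroup.eq] at e
        have e2 : ((k * ⟨g, hg⟩)⁻¹ * (⟨g, hg⟩ * k) : R) ∈ Nr := e
        have e3 : ((k : G) * g)⁻¹ * (g * (k : G)) ∈ N := Subgroup.mem_subgroupOf.mp e2
        have e4 := hconjN (mul_mem k.2 hg) e3
        rw [R.coe_subtype]
        convert e4 using 1; group
      · rintro ⟨hk, hk'⟩
        refine ⟨⟨k, hk⟩, Subgroup.mem_comap.mpr (Subgroup.mem_center_iff.mpr fun q => ?_), rfl⟩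
        induction q using QuotientGroup.induction_on with
        | H g =>
          rw [QuotientGroup.mk'_apply, ← QuotientGroup.mk_mul, ← QuotientGroup.mk_mul,
            QuotientGroup.eq, hNr, Subgroup.mem_subgroupOf]
          have h1 := hk' g g.2
          have h2 := hconjN (inv_mem (mul_mem g.2 hk)) (inv_mem h1)
          simp only [Subgroup.coe_mul, Subgroup.coe_inv]
          convert h2 using 1; group
    have hKR : K ≤ R := fun k hk => (hmK.mp hk).1
    have hNK : N ≤ K := fun n hn => hmK.mpr ⟨hNR hn, fun g hg =>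
      mul_mem (hconjN hg hn) (inv_mem hn)⟩
    have hRK : R ≤ normalizer (K : Set G) := le_normalizer_iff.mpr fun g hg k hk => by
      obtain ⟨hk1, hk2⟩ := hmK.mp hk
      have : g * k * g⁻¹ = (g * k * g⁻¹ * k⁻¹) * k := by group
      rw [this]; exact mul_mem (hNK (hk2 g hg)) hk
    have haK : a ∈ normalizer (K : Set G) := by
      suffices hle : zpowers a ≤ normalizer (K : Set G) from hle (mem_zpowers a)
      refine le_normalizer_iff.mpr ?_
      intro b hb k hk
      obtain ⟨i, rfl⟩ : ∃ i : ℕ, a ^ i = b :=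
        (isOfFinOrder_of_finite a).mem_powers_iff_mem_zpowers.mpr hb
      clear hb
      induction i with
      | zero => simpa using hk
      | succ i ih =>
        rw [show a ^ (i + 1) * k * (a ^ (i + 1))⁻¹ = a * (a ^ i * k * (a ^ i)⁻¹) * a⁻¹ by
          rw [pow_succ']; group]
        obtain ⟨hk1, hk2⟩ := hmK.mp ih
        refine hmK.mpr ⟨haR hk1, fun g hg => ?_⟩
        have hg' : a⁻¹ * g * a ∈ R := by
          have := (mem_normalizer_iff.mp (inv_mem h.norm) g).mp hg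
          rwa [inv_inv] at this
        have := (mem_normalizer_iff.mp haN _).mp (hk2 _ hg')
        convert this using 1; group
    obtain ⟨t, htK, hta, ht1⟩ : ∃ t ∈ K, Commute t a ∧ t ≠ 1 := by
      by_contra hc
      push Not at hc
      have hKN := hsup K hKR hRK haK hNK fun t ht hta => hc t ht hta
      have hcb : center (R ⧸ Nr) = ⊥ := by
        refine (eq_bot_iff_forall _).mpr fun q hq => ?_
        induction q using QuotientGroup.induction_on with
        | H g =>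
          exact (QuotientGroup.eq_one_iff _).mpr (Subgroup.mem_subgroupOf.mpr
            (hKN ⟨g, hq, rfl⟩))
      have hnt : Nontrivial (center (R ⧸ Nr)) := (h.two.to_quotient Nr).center_nontrivial
      exact (Subgroup.nontrivial_iff_ne_bot _).mp hnt hcb
    obtain ⟨n, hn⟩ := IsPGroup.iff_orderOf.mp h.two ⟨t, hKR htK⟩
    rw [← orderOf_coe] at hn
    have hn0 : n ≠ 0 := fun e => ht1 (orderOf_eq_one_iff.mp (by rw [hn, e, pow_zero]))
    have hord : orderOf (t ^ 2 ^ (n - 1)) = 2 := by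
      have hd : 2 ^ n = 2 ^ (n - 1) * 2 := by rw [← pow_succ]; congr 1; omega
      rw [orderOf_pow' t (by positivity), hn, Nat.gcd_eq_right ⟨2, hd⟩, hd,
        Nat.mul_div_cancel_left _ (by positivity)]
    have htu : t ^ 2 ^ (n - 1) = u := h.uniq _ (pow_mem (hKR htK) _)
      (H26.mul_self_of_orderOf_two hord) (H26.ne_one_of_orderOf_two hord) (hta.pow_left _)
    intro g hg
    exact (hmK.mp (htu ▸ pow_mem htK _)).2 g hg
  -- `R₁ = N C_R(a)`
  set T := R ⊓ centralizer ({a} : Set G) with hTdef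
  have hmT : ∀ {t : G}, t ∈ T ↔ t ∈ R ∧ Commute t a := fun {t} =>
    and_congr Iff.rfl mem_centralizer_singleton_iff
  have hTN : T ≤ normalizer (N : Set G) := inf_le_left.trans hRN
  set R₁ := N ⊔ T with hR₁def
  have hR₁R : R₁ ≤ R := sup_le hNR inf_le_left
  have hmR₁ : ∀ {g : G}, g ∈ R₁ ↔ ∃ n ∈ N, ∃ t ∈ T, g = n * t := by
    intro g
    constructor
    · intro hg
      obtain ⟨n, hn, t, ht, rfl⟩ := (Coprime.mem_sup_iff hTN).mp hg
      exact ⟨n, hn, t, ht, rfl⟩
    · rintro ⟨n, hn, t, ht, rfl⟩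
      exact mul_mem (mem_sup_left hn) (mem_sup_right ht)
  have haT : a ∈ normalizer (T : Set G) := by
    refine mem_normalizer_iff.mpr fun t => ⟨fun ht => ?_, fun ht => ?_⟩
    · rwa [← (hmT.mp ht).2.eq, mul_inv_cancel_right]
    · have h2 := (hmT.mp ht).2
      have e : a * t * a⁻¹ = t := by
        calc a * t * a⁻¹ = a⁻¹ * (a * (a * t * a⁻¹)) := by group
          _ = a⁻¹ * (a * t * a⁻¹ * a) := by rw [h2.eq]
          _ = t := by group
      rwa [e] at ht
  have haR₁ : a ∈ normalizer (R₁ : Set G) := by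
    refine mem_normalizer_iff.mpr fun g => ⟨fun hg => ?_, fun hg => ?_⟩
    · obtain ⟨n, hn, t, ht, rfl⟩ := hmR₁.mp hg
      rw [show a * (n * t) * a⁻¹ = a * n * a⁻¹ * (a * t * a⁻¹) by group]
      exact mul_mem (mem_sup_left ((mem_normalizer_iff.mp haN _).mp hn))
        (mem_sup_right ((mem_normalizer_iff.mp haT _).mp ht))
    · obtain ⟨n, hn, t, ht, e⟩ := hmR₁.mp hg
      have hn' : a⁻¹ * n * a ∈ N := by
        have := (mem_normalizer_iff.mp (inv_mem haN) n).mp hn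
        rwa [inv_inv] at this
      have ht' : a⁻¹ * t * a = t := by rw [mul_assoc, (hmT.mp ht).2.eq, inv_mul_cancel_left]
      have : g = a⁻¹ * n * a * (a⁻¹ * t * a) := by
        calc g = a⁻¹ * (a * g * a⁻¹) * a := by group
          _ = _ := by rw [e]; group
      rw [this, ht']; exact mul_mem (mem_sup_left hn') (mem_sup_right ht)
  have hfix : ∀ {g : G}, g ∈ R → g⁻¹ * (a * g * a⁻¹) ∈ R₁ → g ∈ R₁ := fun hg hf =>
    h.mem_of_fixed hR₁R haR₁ (fun t ht hta => mem_sup_right (hmT.mpr ⟨ht, hta⟩)) hg hf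
  by_cases hR₁ : R ≤ R₁
  · -- then `[R, a] ≤ N`
    have hle : ⁅R, zpowers a⁆ ≤ N := by
      refine commutator_le.mpr fun g hg b hb => ?_
      obtain ⟨n, hn, t, ht, rfl⟩ := hmR₁.mp (hR₁ hg)
      have htb : Commute t b := by
        obtain ⟨i, rfl⟩ := hb
        exact (hmT.mp ht).2.zpow_right i
      have e : ⁅n * t, b⁆ = n * (b * n⁻¹ * b⁻¹) := by
        rw [commutatorElement_def, mul_inv_rev]
        calc n * t * b * (t⁻¹ * n⁻¹) * b⁻¹ = n * (t * b) * t⁻¹ * n⁻¹ * b⁻¹ := by group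
          _ = _ := by rw [htb.eq]; group
      rw [e]
      exact mul_mem hn ((mem_normalizer_iff.mp ((zpowers_le.mpr haN) hb) _).mp (inv_mem hn))
    exact hNfree x (hle hx) hxa
  exfalso
  -- counting
  set C := R ⊓ centralizer ({u} : Set G) with hCdef
  have hmC : ∀ {g : G}, g ∈ C ↔ g ∈ R ∧ Commute g u := fun {g} =>
    and_congr Iff.rfl mem_centralizer_singleton_iff
  have hcardC : Nat.card C ≤ 4 * Nat.card T := by
    have hex : ∀ g : C, ∃ p : Z × T, (g : G) = p.1 * p.2 := fun g => by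
      obtain ⟨z, hz, t, ht, hta, e⟩ := h.cent g (hmC.mp g.2).1 (hmC.mp g.2).2
      exact ⟨(⟨z, hz⟩, ⟨t, hmT.mpr ⟨ht, hta⟩⟩), e⟩
    choose f hf using hex
    calc Nat.card C ≤ Nat.card (Z × T) := Nat.card_le_card_of_injective f fun g g' e =>
          Subtype.ext (by rw [hf g, hf g', e])
      _ = 4 * Nat.card T := by rw [Nat.card_prod, h.card]
  let cc : R ⧸ C.subgroupOf R → N := Quotient.lift
    (fun g : R => (⟨(g : G) * u * (g : G)⁻¹ * u⁻¹, hucent g g.2⟩ : N)) (fun g g' e => by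
      have e : g⁻¹ * g' ∈ C.subgroupOf R := QuotientGroup.leftRel_apply.mp e
      have h2 := (hmC.mp (Subgroup.mem_subgroupOf.mp e)).2
      simp only [Subgroup.coe_mul, Subgroup.coe_inv] at h2
      apply Subtype.ext
      show (g : G) * u * (g : G)⁻¹ * u⁻¹ = g' * u * (g' : G)⁻¹ * u⁻¹
      congr 1
      calc (g : G) * u * (g : G)⁻¹ = g * (u * ((g : G)⁻¹ * g')) * (g' : G)⁻¹ := by group
        _ = g * ((g : G)⁻¹ * g' * u) * (g' : G)⁻¹ := by rw [h2.eq]
        _ = _ := by group)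
  have hcc : Function.Injective cc := by
    intro q q'
    induction q using QuotientGroup.induction_on with
    | H g =>
      induction q' using QuotientGroup.induction_on with
      | H g' =>
        intro e
        have e' : (g : G) * u * (g : G)⁻¹ = g' * u * (g' : G)⁻¹ :=
          mul_right_cancel (congrArg Subtype.val e)
        refine QuotientGroup.eq.mpr (Subgroup.mem_subgroupOf.mpr (hmC.mpr ⟨(g⁻¹ * g').2, ?_⟩))
        show (g : G)⁻¹ * g' * u = u * ((g : G)⁻¹ * g')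
        calc (g : G)⁻¹ * g' * u = (g : G)⁻¹ * (g' * u * (g' : G)⁻¹) * g' := by group
          _ = _ := by rw [← e']; group
  have hidx : Nat.card R = Nat.card (R ⧸ C.subgroupOf R) * Nat.card C := by
    rw [Subgroup.card_eq_card_quotient_mul_card_subgroup (C.subgroupOf R),
      Nat.card_congr (Subgroup.subgroupOfEquivOfLe inf_le_left).toEquiv]
  have hcardR₁ : Nat.card R₁ = Nat.card N * Nat.card T := by
    have hNT : N ⊓ T = ⊥ := (eq_bot_iff_forall _).mpr fun t ht =>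
      hNfree t ht.1 (hmT.mp ht.2).2
    rw [hR₁def, Coprime.card_sup hTN hNT]
  have hq : Nat.card (R ⧸ C.subgroupOf R) ≤ Nat.card N := Nat.card_le_card_of_injective cc hcc
  have h4 : Nat.card R ≤ 4 * Nat.card R₁ := by
    rw [hidx, hcardR₁]
    calc _ ≤ Nat.card N * (4 * Nat.card T) := Nat.mul_le_mul hq hcardC
      _ = _ := by ring
  -- an index two step above `R₁` is impossible
  have hno2 : ∀ K : Subgroup G, K ≤ R → a ∈ normalizer (K : Set G) → R₁ ≤ K →
      (R₁.subgroupOf K).index ≠ 2 := by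
    intro K hKR haK hR₁K hi
    obtain ⟨g, hgK, hg⟩ : ∃ g ∈ K, g ∉ R₁ := by
      by_contra hc
      push Not at hc
      have : R₁.subgroupOf K = ⊤ := Subgroup.subgroupOf_eq_top.mpr hc
      rw [this, index_top] at hi
      omega
    have h1 : a * g * a⁻¹ ∉ R₁ := fun e => hg ((mem_normalizer_iff.mp haR₁ g).mpr e)
    refine hg (hfix (hKR hgK) ?_)
    have := (mul_mem_iff_of_index_two hi (a := (⟨g, hgK⟩ : K)⁻¹)
      (b := (⟨a * g * a⁻¹, (mem_normalizer_iff.mp haK g).mp hgK⟩ : K))).mpr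
      (iff_of_false (fun e => hg (inv_mem_iff.mp (Subgroup.mem_subgroupOf.mp e)))
        (fun e => h1 (Subgroup.mem_subgroupOf.mp e)))
    exact this
  have hlt : R₁ < R := lt_of_le_not_ge hR₁R hR₁
  have hsub : ∀ {K L : Subgroup G}, K ≤ L → Nat.card K * (K.subgroupOf L).index = Nat.card L :=
    fun {K L} hKL => by
      rw [← Nat.card_congr (Subgroup.subgroupOfEquivOfLe hKL).toEquiv, Subgroup.card_mul_index]
  have hidx2 : ∀ {K L : Subgroup G}, L ≤ R → K < L → ∃ e, 1 ≤ e ∧ (K.subgroupOf L).index = 2 ^ e := by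
    intro K L hLR hKL
    obtain ⟨e, he⟩ := (h.two.to_le hLR).index (K.subgroupOf L)
    refine ⟨e, Nat.one_le_iff_ne_zero.mpr fun e0 => ?_, he⟩
    rw [e0, pow_zero, Subgroup.index_eq_one, Subgroup.subgroupOf_eq_top] at he
    exact not_le_of_gt hKL he
  have hRR₁ : R ≤ normalizer (R₁ : Set G) := by
    by_contra hnot
    set K := R ⊓ normalizer (R₁ : Set G) with hKdef
    have hK₁ : R₁ ≤ K := le_inf hR₁R le_normalizer
    have hKR : K < R := lt_of_le_of_ne inf_le_left fun e => hnot (e ▸ inf_le_right)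
    have hgt : R₁ < K := by
      have hne : R₁.subgroupOf R ≠ ⊤ := fun e => hR₁ (Subgroup.subgroupOf_eq_top.mp e)
      obtain ⟨y, hy, hyn⟩ := SetLike.exists_of_lt (PGroups.lt_normalizer h.two hne)
      refine lt_of_le_not_ge hK₁ fun e => hyn (Subgroup.mem_subgroupOf.mpr (e ⟨y.2, ?_⟩))
      refine mem_normalizer_iff.mpr fun v => ?_
      have hy' := Subgroup.mem_normalizer_iff.mp hy
      refine ⟨fun hv => (hy' ⟨v, hR₁R hv⟩).mp hv, fun hv => ?_⟩
      have hvR : v ∈ R := by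
        have := mul_mem (mul_mem (inv_mem y.2) (hR₁R hv)) y.2
        simpa [mul_assoc] using this
      exact (hy' ⟨v, hvR⟩).mpr hv
    have haK : a ∈ normalizer (K : Set G) := by
      refine mem_normalizer_iff.mpr fun v => ?_
      have hn : ∀ b ∈ normalizer (R₁ : Set G), ∀ v, v ∈ normalizer (R₁ : Set G) →
          b * v * b⁻¹ ∈ normalizer (R₁ : Set G) := fun b hb v hv =>
        mul_mem (mul_mem hb hv) (inv_mem hb)
      constructor
      · rintro ⟨h1, h2⟩; exact ⟨haR h1, hn a haR₁ v h2⟩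
      · rintro ⟨h1, h2⟩
        refine ⟨(mem_normalizer_iff.mp h.norm v).mpr h1, ?_⟩
        have := hn a⁻¹ (inv_mem haR₁) _ h2
        simpa [mul_assoc] using this
    obtain ⟨e1, he1, hi1⟩ := hidx2 hKR.le hgt
    obtain ⟨e2, he2, hi2⟩ := hidx2 le_rfl hKR
    have h1 := hsub hK₁
    have h2 := hsub hKR.le
    rw [hi1] at h1
    rw [hi2, ← h1] at h2
    have hpos : 0 < Nat.card R₁ := Nat.card_pos
    have h3 : 2 ^ e1 * 2 ^ e2 ≤ 4 := by
      refine Nat.le_of_mul_le_mul_left ?_ hpos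
      rw [← mul_assoc, h2, mul_comm]; exact h4
    have h5 : 2 ≤ 2 ^ e2 := le_trans (by norm_num) (Nat.pow_le_pow_right two_pos he2)
    have h6 : 2 ^ e1 ≤ 2 := by
      have := Nat.mul_le_mul_left (2 ^ e1) h5
      omega
    have h7 : e1 = 1 := le_antisymm ((Nat.pow_le_pow_iff_right one_lt_two).mp (h6.trans_eq (pow_one 2).symm)) he1
    rw [h7, pow_one] at hi1
    exact hno2 K inf_le_left haK hK₁ hi1
  have hR₁n : (R₁.subgroupOf R).Normal := ⟨fun y hy g => (mem_normalizer_iff.mp (hRR₁ g.2) _).mp hy⟩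
  haveI := hR₁n
  obtain ⟨e0, he0, hi0⟩ := hidx2 le_rfl hlt
  have hindex4 : (R₁.subgroupOf R).index = 4 := by
    have h1 := hsub hR₁R
    rw [hi0] at h1
    have h3 : 2 ^ e0 ≤ 4 := by
      refine Nat.le_of_mul_le_mul_left ?_ (Nat.card_pos (α := R₁))
      rw [h1, mul_comm]; exact h4
    have h7 : e0 ≤ 2 := (Nat.pow_le_pow_iff_right one_lt_two).mp (h3.trans_eq (by norm_num))
    rcases (show e0 = 1 ∨ e0 = 2 by omega) with rfl | rfl
    · exact absurd (by rw [hi0, pow_one]) (hno2 R le_rfl h.norm hR₁R)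
    · rw [hi0]; norm_num
  -- squares fall into `R₁`
  have hsq : ∀ g ∈ R, g * g ∈ R₁ := by
    intro g hg
    by_contra hgg
    refine hgg (hfix (mul_mem hg hg) ?_)
    have hq4 : Nat.card (R ⧸ R₁.subgroupOf R) = 4 := by rw [← Subgroup.index_eq_card, hindex4]
    set π := QuotientGroup.mk' (R₁.subgroupOf R)
    set y := π ⟨g, hg⟩ with hy
    have hy2 : y ^ 2 ≠ 1 := fun e => hgg (by
      rw [hy, ← map_pow, QuotientGroup.mk'_apply, QuotientGroup.eq_one_iff] at e
      have := Subgroup.mem_subgroupOf.mp e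
      rwa [SubgroupClass.coe_pow, pow_two] at this)
    have hy4 : y ^ 4 = 1 := by rw [← hq4]; exact pow_card_eq_one'
    have hord : orderOf y = 4 := by
      have := orderOf_dvd_of_pow_eq_one hy4
      have hne1 : orderOf y ≠ 1 := fun e => hy2 (by rw [orderOf_eq_one_iff.mp e, one_pow])
      have hne2 : orderOf y ≠ 2 := fun e => hy2 (e ▸ pow_orderOf_eq_one y)
      have hle := Nat.le_of_dvd (by norm_num) this
      interval_cases hk : orderOf y <;> omega
    have htop : zpowers y = ⊤ := Subgroup.eq_top_of_card_eq _ (by rw [Nat.card_zpowers, hord, hq4])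
    obtain ⟨k, hk⟩ := mem_zpowers_iff.mp (htop ▸ mem_top (π ⟨a * g * a⁻¹, haR hg⟩) :
      π ⟨a * g * a⁻¹, haR hg⟩ ∈ zpowers y)
    have hodd : ¬ (2 : ℤ) ∣ k := by
      rintro ⟨l, rfl⟩
      have e : (π ⟨a * g * a⁻¹, haR hg⟩) ^ 2 = 1 := by
        rw [← hk, ← zpow_natCast, ← zpow_mul, show (2 : ℤ) * l * (2 : ℕ) = (4 : ℕ) * l by push_cast; ring,
          zpow_mul, zpow_natCast, hy4, one_zpow]
      rw [← map_pow, QuotientGroup.mk'_apply, QuotientGroup.eq_one_iff] at e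
      have e2 := Subgroup.mem_subgroupOf.mp e
      rw [SubgroupClass.coe_pow, pow_two] at e2
      simp only at e2
      rw [show a * g * a⁻¹ * (a * g * a⁻¹) = a * (g * g) * a⁻¹ by group] at e2
      exact hgg ((mem_normalizer_iff.mp haR₁ _).mpr e2)
    obtain ⟨l, rfl⟩ : ∃ l, k = 2 * l + 1 := ⟨k / 2, by omega⟩
    have e : (π ⟨g, hg⟩) ^ 2 = (π ⟨a * g * a⁻¹, haR hg⟩) ^ 2 := by
      rw [← hk, ← hy, ← zpow_natCast, ← zpow_natCast, ← zpow_mul,
        show (2 * l + 1) * (2 : ℕ) = (4 : ℕ) * l + (2 : ℕ) by push_cast; ring, zpow_add, zpow_mul,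
        show y ^ ((4 : ℕ) : ℤ) = 1 by rw [zpow_natCast, hy4], one_zpow, one_mul]
    rw [← map_pow, ← map_pow, QuotientGroup.mk'_apply, QuotientGroup.mk'_apply, QuotientGroup.eq] at e
    have e2 := Subgroup.mem_subgroupOf.mp e
    simp only [Subgroup.coe_mul, Subgroup.coe_inv, SubgroupClass.coe_pow, pow_two] at e2
    rwa [show a * g * a⁻¹ * (a * g * a⁻¹) = a * (g * g) * a⁻¹ by group] at e2
  -- the elements `d, e, f`
  obtain ⟨g, hgR, hg⟩ := SetLike.exists_of_lt hlt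
  set d := g⁻¹ * (a * g * a⁻¹) with hd
  set e := a * d * a⁻¹ with he
  set f := a * e * a⁻¹ with hf
  have hdR : d ∈ R := mul_mem (inv_mem hgR) (haR hgR)
  have heR : e ∈ R := haR hdR
  have hd₁ : d ∉ R₁ := fun hh => hg (hfix hgR hh)
  have he₁ : e ∉ R₁ := fun hh => hd₁ ((mem_normalizer_iff.mp haR₁ d).mpr hh)
  have hf₁ : f ∉ R₁ := fun hh => he₁ ((mem_normalizer_iff.mp haR₁ e).mpr hh)
  have ha3 : a * a * a = 1 := by
    have := pow_orderOf_eq_one a; rw [h.ord, pow_succ, pow_succ, pow_one] at this; exact this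
  have haf : a * f * a⁻¹ = d := by
    calc a * f * a⁻¹ = a * a * a * d * (a * a * a)⁻¹ := by rw [hf, he]; group
      _ = d := by rw [ha3]; group
  have hdef : d * e * f = 1 := by
    calc d * e * f = g⁻¹ * (a * a * a * g * (a * a * a)⁻¹) := by rw [hf, he, hd]; group
      _ = 1 := by rw [ha3]; group
  have hdc : ∀ t ∈ T, d * t * d⁻¹ * t⁻¹ ∈ N := by
    intro t ht
    have htR := (hmT.mp ht).1
    have hgt : g * t * g⁻¹ ∈ R₁ := (mem_normalizer_iff.mp (hRR₁ hgR) t).mp (mem_sup_right ht)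
    obtain ⟨n, hn, t', ht', e'⟩ := hmR₁.mp hgt
    have h1 : a * g * a⁻¹ * t * (a * g * a⁻¹)⁻¹ = a * n * a⁻¹ * t' := by
      have e1 : a⁻¹ * t * a = t := by rw [mul_assoc, (hmT.mp ht).2.eq, inv_mul_cancel_left]
      calc a * g * a⁻¹ * t * (a * g * a⁻¹)⁻¹ = a * g * (a⁻¹ * t * a) * g⁻¹ * a⁻¹ := by group
        _ = a * (g * t * g⁻¹) * a⁻¹ := by rw [e1]; group
        _ = a * n * a⁻¹ * (a * t' * a⁻¹) := by rw [e']; group
        _ = _ := by rw [← (hmT.mp ht').2.eq, mul_inv_cancel_right]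
    have h2 : d * t * d⁻¹ * t⁻¹ = g⁻¹ * (a * n * a⁻¹ * n⁻¹) * g⁻¹⁻¹ := by
      calc d * t * d⁻¹ * t⁻¹ =
            g⁻¹ * (a * g * a⁻¹ * t * (a * g * a⁻¹)⁻¹) * g * t⁻¹ := by rw [hd]; group
        _ = g⁻¹ * (a * n * a⁻¹ * n⁻¹) * (n * t') * g * t⁻¹ := by rw [h1]; group
        _ = _ := by rw [← e']; group
    rw [h2]
    exact hconjN (inv_mem hgR) (mul_mem ((mem_normalizer_iff.mp haN _).mp hn) (inv_mem hn))
  have hec : ∀ t ∈ T, e * t * e⁻¹ * t⁻¹ ∈ N := by
    intro t ht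
    have e1 : a * t * a⁻¹ = t := by rw [← (hmT.mp ht).2.eq, mul_inv_cancel_right]
    have := (mem_normalizer_iff.mp haN _).mp (hdc t ht)
    rw [show a * (d * t * d⁻¹ * t⁻¹) * a⁻¹ =
      a * d * a⁻¹ * (a * t * a⁻¹) * (a * d * a⁻¹)⁻¹ * (a * t * a⁻¹)⁻¹ by group, e1, ← he] at this
    exact this
  obtain ⟨n₁, hn₁, c, hcT, hdd⟩ := hmR₁.mp (hsq d hdR)
  have hcR := (hmT.mp hcT).1
  have hca : a * c * a⁻¹ = c := by rw [← (hmT.mp hcT).2.eq, mul_inv_cancel_right]
  -- modulo `N`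
  set π := QuotientGroup.mk' Nr
  have hπ : ∀ {v w : R}, π v = π w ↔ (v : G) * (w : G)⁻¹ ∈ N := fun {v w} => by
    rw [QuotientGroup.mk'_apply, QuotientGroup.mk'_apply, QuotientGroup.eq_iff_div_mem, hNr,
      Subgroup.mem_subgroupOf]
    simp [div_eq_mul_inv]
  set D := π ⟨d, hdR⟩ with hD
  set E' := π ⟨e, heR⟩ with hE
  set Cq := π ⟨c, hcR⟩ with hCq
  have hDD : D * D = Cq := by
    rw [hD, ← map_mul, hπ]
    show d * d * c⁻¹ ∈ N
    rw [hdd, mul_inv_cancel_right]; exact hn₁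
  have hEE : E' * E' = Cq := by
    rw [hE, ← map_mul, hπ]
    show e * e * c⁻¹ ∈ N
    have := (mem_normalizer_iff.mp haN _).mp hn₁
    have e1 : e * e = a * n₁ * a⁻¹ * (a * c * a⁻¹) := by
      calc e * e = a * (d * d) * a⁻¹ := by rw [he]; group
        _ = _ := by rw [hdd]; group
    rw [e1, hca, mul_inv_cancel_right]; exact this
  have hfR : f ∈ R := haR heR
  have hFF : π ⟨f, hfR⟩ * π ⟨f, hfR⟩ = Cq := by
    rw [← map_mul, hπ]
    show f * f * c⁻¹ ∈ N
    have := (mem_normalizer_iff.mp haN _).mp ((mem_normalizer_iff.mp haN _).mp hn₁)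
    have e1 : f * f = a * (a * n₁ * a⁻¹) * a⁻¹ * (a * (a * c * a⁻¹) * a⁻¹) := by
      calc f * f = a * (a * (d * d) * a⁻¹) * a⁻¹ := by rw [hf, he]; group
        _ = _ := by rw [hdd]; group
    rw [e1, hca, hca, mul_inv_cancel_right]; exact this
  have hF : π ⟨f, hfR⟩ = (D * E')⁻¹ := by
    refine eq_inv_of_mul_eq_one_right ?_
    rw [hD, hE, ← map_mul, ← map_mul, ← map_one π, hπ]
    show d * e * f * (1 : G)⁻¹ ∈ N
    rw [hdef, inv_one, one_mul]; exact one_mem N
  have hTcomm : ∀ {t : G} (ht : t ∈ T), Commute D (π ⟨t, (hmT.mp ht).1⟩) ∧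
      Commute E' (π ⟨t, (hmT.mp ht).1⟩) := by
    intro t ht
    constructor <;> refine mul_inv_eq_iff_eq_mul.mp ?_
    · rw [hD, ← map_inv, ← map_mul, ← map_mul, hπ]; exact hdc t ht
    · rw [hE, ← map_inv, ← map_mul, ← map_mul, hπ]; exact hec t ht
  have hR₁D : ∀ {v : R}, (v : G) ∈ R₁ → Commute D (π v) ∧ Commute E' (π v) := by
    intro v hv
    obtain ⟨n, hn, t, ht, e'⟩ := hmR₁.mp hv
    have : π v = π ⟨t, (hmT.mp ht).1⟩ := by
      rw [hπ]; show (v : G) * t⁻¹ ∈ N; rw [e', mul_inv_cancel_right]; exact hn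
    rw [this]; exact hTcomm ht
  obtain ⟨hDC, hEC⟩ : Commute D Cq ∧ Commute E' Cq := hTcomm hcT
  -- the commutator of `d` and `e`
  have hK₁ : e * d * e⁻¹ * d⁻¹ ∈ R₁ := by
    have h1 : e * d * (e * d) ∈ R₁ := hsq _ (mul_mem heR hdR)
    have h2 : d⁻¹ * (e⁻¹ * e⁻¹) * d⁻¹⁻¹ ∈ R₁ :=
      (mem_normalizer_iff.mp (hRR₁ (inv_mem hdR)) _).mp (by
        rw [← mul_inv_rev]; exact inv_mem (hsq e heR))
    have h3 : d⁻¹ * d⁻¹ ∈ R₁ := by rw [← mul_inv_rev]; exact inv_mem (hsq d hdR)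
    have : e * d * e⁻¹ * d⁻¹ = e * d * (e * d) * (d⁻¹ * (e⁻¹ * e⁻¹) * d⁻¹⁻¹) * (d⁻¹ * d⁻¹) := by
      group
    rw [this]; exact mul_mem (mul_mem h1 h2) h3
  set K := E' * D * E'⁻¹ * D⁻¹ with hK
  have hKv : K = π ⟨e * d * e⁻¹ * d⁻¹, hR₁R hK₁⟩ := by
    rw [hK, hD, hE, ← map_inv, ← map_inv, ← map_mul, ← map_mul, ← map_mul]; rfl
  obtain ⟨hDK, hEK⟩ : Commute D K ∧ Commute E' K := by
    rw [hKv]; exact hR₁D (v := ⟨_, hR₁R hK₁⟩) hK₁
  have hED : E' * D = K * D * E' := by rw [hK]; group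
  have hFC : D * E' * (D * E') = Cq⁻¹ := by
    rw [← inv_inj, mul_inv_rev, ← hF, hFF, inv_inv]
  have hK3 : K * (Cq * Cq) = Cq⁻¹ := by
    rw [← hFC]
    calc K * (Cq * Cq) = K * (D * D * (E' * E')) := by rw [hDD, hEE]
      _ = (K * D) * D * E' * E' := by group
      _ = (D * K) * D * E' * E' := by rw [hDK.eq]
      _ = D * (K * D * E') * E' := by group
      _ = D * E' * (D * E') := by rw [← hED]; group
  have hKK : K * K = 1 := by
    have h1 : E' * (D * D) = (D * D) * E' := by rw [hDD]; exact hEC.eq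
    have h2 : E' * (D * D) = K * K * (D * D) * E' := by
      calc E' * (D * D) = (E' * D) * D := (mul_assoc _ _ _).symm
        _ = K * D * E' * D := by rw [hED]
        _ = K * D * (E' * D) := mul_assoc _ _ _
        _ = K * D * (K * D * E') := by rw [hED]
        _ = K * (D * K) * D * E' := by simp only [mul_assoc]
        _ = K * (K * D) * D * E' := by rw [hDK.eq]
        _ = K * K * (D * D) * E' := by simp only [mul_assoc]
    rw [h1] at h2
    exact mul_eq_right.mp (mul_right_cancel h2).symm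
  have hC6 : Cq ^ 6 = 1 := by
    have e1 : K = (Cq * Cq * Cq)⁻¹ := by
      rw [eq_mul_inv_of_mul_eq hK3]
      simp only [mul_inv_rev, mul_assoc]
    rw [e1, ← mul_inv_rev, inv_eq_one] at hKK
    rw [← hKK]; simp only [pow_succ, pow_zero, one_mul, mul_assoc]
  have hcc2 : c * c = 1 := by
    refine hNfree _ ?_ ((hmT.mp hcT).2.mul_left (hmT.mp hcT).2)
    obtain ⟨k, hk⟩ := IsPGroup.iff_orderOf.mp (h.two.to_quotient Nr) Cq
    have h6 : orderOf Cq ∣ 6 := orderOf_dvd_of_pow_eq_one hC6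
    rw [hk] at h6
    have hk1 : k ≤ 1 := by
      by_contra hk2
      have h4 : 4 ∣ 6 := (Dvd.intro (2 ^ (k - 2)) (by
        rw [show k = 2 + (k - 2) by omega, pow_add]; norm_num)).trans h6
      norm_num at h4
    have hC2 : Cq * Cq = 1 := by
      rw [← pow_two Cq, ← orderOf_dvd_iff_pow_eq_one, hk]
      exact (pow_dvd_pow 2 hk1).trans (by norm_num)
    rw [hCq, ← map_mul, ← map_one π, hπ] at hC2
    simpa using hC2
  have hmem_or : ∀ v : R, (v : G) ∈ R₁ ∨ d⁻¹ * (v : G) ∈ R₁ ∨ e⁻¹ * (v : G) ∈ R₁ ∨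
      f⁻¹ * (v : G) ∈ R₁ := by
    intro v
    by_contra hc
    push Not at hc
    obtain ⟨hv0, hv1, hv2, hv3⟩ := hc
    have hq4 : Nat.card (R ⧸ R₁.subgroupOf R) = 4 := by rw [← Subgroup.index_eq_card, hindex4]
    have key : ∀ {p q : R}, (QuotientGroup.mk p : R ⧸ R₁.subgroupOf R) = QuotientGroup.mk q →
        (p : G)⁻¹ * q ∈ R₁ := fun {p q} e' => by
      simpa using Subgroup.mem_subgroupOf.mp (QuotientGroup.eq.mp e')
    have hde : d⁻¹ * e ∉ R₁ := fun hh => hd₁ (hfix hdR (by rw [← he]; exact hh))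
    have hef : e⁻¹ * f ∉ R₁ := fun hh => he₁ (hfix heR (by rw [← hf]; exact hh))
    have hfd : f⁻¹ * d ∉ R₁ := fun hh => hf₁ (hfix hfR (by rw [haf]; exact hh))
    set A : Set (R ⧸ R₁.subgroupOf R) := {QuotientGroup.mk 1, QuotientGroup.mk ⟨d, hdR⟩,
      QuotientGroup.mk ⟨e, heR⟩, QuotientGroup.mk ⟨f, hfR⟩, QuotientGroup.mk v}
    have hA : A.ncard = 5 := by
      have hne : ∀ {p q : R}, (p : G)⁻¹ * q ∉ R₁ →
          (QuotientGroup.mk p : R ⧸ R₁.subgroupOf R) ≠ QuotientGroup.mk q := fun hh e' => hh (key e')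
      have h1d : ((1 : R) : G)⁻¹ * (d : G) ∉ R₁ := by simpa using hd₁
      have h1e : ((1 : R) : G)⁻¹ * (e : G) ∉ R₁ := by simpa using he₁
      have h1f : ((1 : R) : G)⁻¹ * (f : G) ∉ R₁ := by simpa using hf₁
      have h1v : ((1 : R) : G)⁻¹ * (v : G) ∉ R₁ := by simpa using hv0
      have hdf : d⁻¹ * f ∉ R₁ := fun hh => hfd (by simpa using inv_mem hh)
      rw [Set.ncard_insert_of_notMem, Set.ncard_insert_of_notMem, Set.ncard_insert_of_notMem,
        Set.ncard_pair (hne hv3)]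
      · simp only [Set.mem_insert_iff, Set.mem_singleton_iff, not_or]
        exact ⟨hne hef, hne hv2⟩
      · simp only [Set.mem_insert_iff, Set.mem_singleton_iff, not_or]
        exact ⟨hne hde, hne hdf, hne hv1⟩
      · simp only [Set.mem_insert_iff, Set.mem_singleton_iff, not_or]
        exact ⟨hne h1d, hne h1e, hne h1f, hne h1v⟩
    have := Set.ncard_le_card A
    rw [hq4, hA] at this
    omega
  have hcu : c = u := by
    refine h.uniq c hcR hcc2 ?_ (hmT.mp hcT).2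
    intro hc1
    have hCq1 : Cq = 1 := by rw [hCq, show (⟨c, hcR⟩ : R) = 1 from Subtype.ext hc1, map_one]
    rw [hCq1, one_mul, mul_one, inv_one] at hK3
    have hcomm : Commute D E' := by
      have := hED; rw [hK3, one_mul] at this; exact this.symm
    have hDcent : ∀ v : R, Commute D (π v) ∧ Commute E' (π v) := by
      intro v
      have hFc : Commute D (π ⟨f, hfR⟩) ∧ Commute E' (π ⟨f, hfR⟩) := by
        rw [hF]
        exact ⟨((Commute.refl D).mul_right hcomm).inv_right,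
          (hcomm.symm.mul_right (Commute.refl E')).inv_right⟩
      have hgen : ∀ (p : R), (Commute D (π p) ∧ Commute E' (π p)) → (p : G)⁻¹ * v ∈ R₁ →
          Commute D (π v) ∧ Commute E' (π v) := by
        intro p hp hpv
        obtain ⟨h1, h2⟩ := hR₁D (v := p⁻¹ * v) hpv
        have e1 : π v = π p * π (p⁻¹ * v) := by rw [← map_mul, mul_inv_cancel_left]
        rw [e1]
        exact ⟨hp.1.mul_right h1, hp.2.mul_right h2⟩
      rcases hmem_or v with hv | hv | hv | hv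
      · exact hR₁D hv
      · exact hgen ⟨d, hdR⟩ ⟨Commute.refl _, hcomm.symm⟩ hv
      · exact hgen ⟨e, heR⟩ ⟨hcomm, Commute.refl _⟩ hv
      · exact hgen ⟨f, hfR⟩ hFc hv
    have hDD1 : D * D = 1 := hDD.trans hCq1
    have hEE1 : E' * E' = 1 := hEE.trans hCq1
    have m1 : D * (D * E') = E' := by rw [← mul_assoc, hDD1, one_mul]
    have m2 : E' * (D * E') = D := by rw [← mul_assoc, ← hcomm.eq, mul_assoc, hEE1, mul_one]
    have m3 : D * E' * D = E' := by rw [mul_assoc, ← hcomm.eq, ← mul_assoc, hDD1, one_mul]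
    have m4 : D * E' * E' = D := by rw [mul_assoc, hEE1, mul_one]
    have m5 : D * E' * (D * E') = 1 := by rw [← mul_assoc, m3, hEE1]
    let V : Subgroup (R ⧸ Nr) :=
      { carrier := {1, D, E', D * E'}
        one_mem' := Or.inl rfl
        mul_mem' := by
          intro p q hp hq
          simp only [Set.mem_insert_iff, Set.mem_singleton_iff] at hp hq ⊢
          rcases hp with rfl | rfl | rfl | rfl <;> rcases hq with rfl | rfl | rfl | rfl <;>
            simp only [one_mul, mul_one, hDD1, hEE1, m1, m2, m3, m4, m5, hcomm.symm.eq, true_or, or_true]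
        inv_mem' := by
          intro p hp
          simp only [Set.mem_insert_iff, Set.mem_singleton_iff] at hp ⊢
          rcases hp with rfl | rfl | rfl | rfl
          · simp
          · simp [inv_eq_of_mul_eq_one_right hDD1]
          · simp [inv_eq_of_mul_eq_one_right hEE1]
          · refine Or.inr (Or.inr (Or.inr ?_))
            rw [mul_inv_rev, inv_eq_of_mul_eq_one_right hDD1, inv_eq_of_mul_eq_one_right hEE1,
              hcomm.eq] }
    set M := (V.comap π).map R.subtype with hMdef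
    have hmM : ∀ {v : R}, (v : G) ∈ M ↔ π v ∈ V := fun {v} =>
      ⟨fun ⟨w, hw, e'⟩ => Subtype.ext e' ▸ hw, fun hv => ⟨v, hv, rfl⟩⟩
    have hMR : M ≤ R := Subgroup.map_subtype_le _
    have hNM : N ≤ M := fun n hn => by
      refine (hmM (v := ⟨n, hNR hn⟩)).mpr ?_
      rw [show π ⟨n, hNR hn⟩ = 1 from (QuotientGroup.eq_one_iff _).mpr hn]
      exact one_mem V
    have hVc : ∀ p ∈ V, ∀ v : R, Commute p (π v) := by
      intro p hp v
      obtain ⟨h1, h2⟩ := hDcent v
      rcases hp with rfl | rfl | rfl | rfl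
      exacts [Commute.one_left _, h1, h2, h1.mul_left h2]
    have hRM : R ≤ normalizer (M : Set G) := le_normalizer_iff.mpr fun v hv m hm => by
      obtain ⟨m, hm', rfl⟩ := hm
      refine ⟨⟨v, hv⟩ * m * (⟨v, hv⟩ : R)⁻¹, ?_, rfl⟩
      show π (⟨v, hv⟩ * m * (⟨v, hv⟩ : R)⁻¹) ∈ V
      rw [map_mul, map_mul, map_inv, ← (hVc _ hm' _).eq, mul_inv_cancel_right]
      exact hm'
    have haM1 : ∀ m ∈ M, a * m * a⁻¹ ∈ M := by
      rintro _ ⟨m, hm, rfl⟩
      have himg : ∀ (p q : R), π m = π p → (q : G) = a * p * a⁻¹ →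
          π (⟨a * m * a⁻¹, haR m.2⟩ : R) = π q := by
        intro p q hmp hq
        rw [hπ] at hmp ⊢
        show a * (m : G) * a⁻¹ * (q : G)⁻¹ ∈ N
        rw [hq, show a * (m : G) * a⁻¹ * (a * p * a⁻¹)⁻¹ = a * (m * (p : G)⁻¹) * a⁻¹ by group]
        exact (mem_normalizer_iff.mp haN _).mp hmp
      refine (hmM (v := ⟨a * m * a⁻¹, haR m.2⟩)).mpr ?_
      have hm2 : π m = 1 ∨ π m = D ∨ π m = E' ∨ π m = D * E' := hm
      rcases hm2 with hm | hm | hm | hm
      · rw [himg 1 1 (by rw [hm, map_one]) (by simp), map_one]; exact one_mem V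
      · rw [himg ⟨d, hdR⟩ ⟨e, heR⟩ hm rfl]; exact Or.inr (Or.inr (Or.inl rfl))
      · rw [himg ⟨e, heR⟩ ⟨f, hfR⟩ hm rfl, hF]
        exact inv_mem (Or.inr (Or.inr (Or.inr rfl)) : D * E' ∈ V)
      · rw [himg (⟨f, hfR⟩⁻¹) (⟨d, hdR⟩⁻¹) (by rw [hm, map_inv, hF, inv_inv])
          (by simp only [Subgroup.coe_inv]; rw [← haf]; group), map_inv]
        exact inv_mem (Or.inr (Or.inl rfl) : D ∈ V)
    have haM : a ∈ normalizer (M : Set G) := by
      refine mem_normalizer_iff.mpr fun m => ⟨haM1 m, fun hm => ?_⟩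
      have := haM1 _ (haM1 _ hm)
      rwa [show a * (a * (a * m * a⁻¹) * a⁻¹) * a⁻¹ = a * a * a * m * (a * a * a)⁻¹ by group, ha3,
        one_mul, inv_one, mul_one] at this
    have hMfree : ∀ t ∈ M, Commute t a → t = 1 := by
      intro t ht hta
      have htR := hMR ht
      have htT : t ∈ T := hmT.mpr ⟨htR, hta⟩
      have hv : π ⟨t, htR⟩ ∈ V := (hmM (v := ⟨t, htR⟩)).mp ht
      have hout : ∀ (p : R), π ⟨t, htR⟩ = π p → (p : G) ∈ R₁ := fun p hp => by
        rw [hπ] at hp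
        have : (p : G) = (t * (p : G)⁻¹)⁻¹ * t := by group
        rw [this]; exact mul_mem (mem_sup_left (inv_mem hp)) (mem_sup_right htT)
      have hv2 : π ⟨t, htR⟩ = 1 ∨ π ⟨t, htR⟩ = D ∨ π ⟨t, htR⟩ = E' ∨ π ⟨t, htR⟩ = D * E' := hv
      rcases hv2 with hv | hv | hv | hv
      · exact hNfree t (Subgroup.mem_subgroupOf.mp ((QuotientGroup.eq_one_iff _).mp hv)) hta
      · exact absurd (hout ⟨d, hdR⟩ hv) hd₁
      · exact absurd (hout ⟨e, heR⟩ hv) he₁
      · refine absurd (hout (⟨f, hfR⟩⁻¹) (by rw [hv, map_inv, hF, inv_inv])) ?_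
        simpa using hf₁
    have hdM : d ∈ M := (hmM (v := ⟨d, hdR⟩)).mpr (Or.inr (Or.inl rfl))
    exact hd₁ (mem_sup_left (hsup M hMR hRM haM hNM hMfree hdM))
  rw [hcu] at hdd
  -- `u` inverts `N`
  have hsurj : Function.Surjective cc := by
    refine ((Nat.bijective_iff_injective_and_card cc).mpr ⟨hcc, le_antisymm hq ?_⟩).2
    have h1 := hsub hR₁R
    rw [hindex4, hcardR₁, hidx] at h1
    have h2 : Nat.card N * (Nat.card T * 4) ≤ Nat.card (R ⧸ C.subgroupOf R) * (Nat.card T * 4) := by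
      calc Nat.card N * (Nat.card T * 4) = Nat.card (R ⧸ C.subgroupOf R) * Nat.card C := by
            rw [← mul_assoc]; exact h1
        _ ≤ _ := Nat.mul_le_mul le_rfl (hcardC.trans_eq (mul_comm _ _))
    exact Nat.le_of_mul_le_mul_right h2 (by have := Nat.card_pos (α := T); positivity)
  have hinvN : ∀ n ∈ N, u * n * u⁻¹ = n⁻¹ := by
    intro n hn
    obtain ⟨q, hq'⟩ := hsurj ⟨n, hn⟩
    induction q using QuotientGroup.induction_on with
    | H g' =>
      have e' : (g' : G) * u * (g' : G)⁻¹ * u⁻¹ = n := congrArg Subtype.val hq'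
      have e2 : n * u = g' * u * (g' : G)⁻¹ := by rw [← e', inv_mul_cancel_right]
      have e3 : n * u * (n * u) = 1 := by
        rw [e2, show (g' : G) * u * (g' : G)⁻¹ * (g' * u * (g' : G)⁻¹) =
          g' * (u * u) * (g' : G)⁻¹ by group, huu]
        group
      rw [huinv]
      exact eq_inv_of_mul_eq_one_right (by rw [← e3]; group)
  have hNab : ∀ p ∈ N, ∀ q ∈ N, Commute p q := by
    intro p hp q hq'
    have e1 := hinvN _ (mul_mem hp hq')
    rw [show u * (p * q) * u⁻¹ = u * p * u⁻¹ * (u * q * u⁻¹) by group, hinvN p hp, hinvN q hq',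
      mul_inv_rev] at e1
    exact Commute.inv_inv_iff.mp e1
  -- `Z = Ω₁(N)`
  have hZone : ∀ n ∈ N, n * n = 1 → n ≠ 1 → n ∈ Z ∧ Z ≤ N := by
    intro n hn hnn hn1
    have hnu : Commute n u := by
      have h1 := hinvN n hn
      rw [inv_eq_of_mul_eq_one_right hnn] at h1
      exact (mul_inv_eq_iff_eq_mul.mp h1).symm
    obtain ⟨z, hz, t, htR, hta, e'⟩ := h.cent n (hNR hn) hnu
    have hz1 : z ≠ 1 := fun hh => hn1 (by
      rw [hh, one_mul] at e'; exact hNfree n hn (e' ▸ hta))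
    have haz : a * z * a⁻¹ ∈ Z := (mem_normalizer_iff.mp h.normZ _).mp hz
    set w := a * z * a⁻¹ * z⁻¹ with hw
    have hwN : w ∈ N := by
      have : w = a * n * a⁻¹ * n⁻¹ := by
        rw [e', hw, mul_inv_rev]
        calc a * z * a⁻¹ * z⁻¹ = a * z * (t * a⁻¹ * t⁻¹) * z⁻¹ := by
              rw [hta.inv_right.eq, mul_inv_cancel_right]
          _ = _ := by group
      rw [this]
      exact mul_mem ((mem_normalizer_iff.mp haN _).mp hn) (inv_mem hn)
    have hwZ : w ∈ Z := mul_mem haz (inv_mem hz)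
    have hw1 : w ≠ 1 := fun hh => hz1 (h.free z hz (mul_inv_eq_iff_eq_mul.mp (mul_inv_eq_one.mp hh)).symm)
    have hZN : Z ≤ N := by
      have haw : a * w * a⁻¹ ∈ Z ⊓ N :=
        ⟨(mem_normalizer_iff.mp h.normZ _).mp hwZ, (mem_normalizer_iff.mp haN _).mp hwN⟩
      have hle : Z ⊓ N = Z := eq_of_two_mem inf_le_left h.card ⟨hwZ, hwN⟩ haw hw1
        (fun hh => hw1 (conj_eq_one_iff.mp hh))
        (fun hh => hw1 (h.free w hwZ (mul_inv_eq_iff_eq_mul.mp hh.symm).symm))
      exact fun z hz => (hle.ge hz).2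
    have ht1 : t = 1 := hNfree t (by
      have : t = z⁻¹ * n := by rw [e', inv_mul_cancel_left]
      rw [this]; exact mul_mem (inv_mem (hZN hz)) hn) hta
    exact ⟨by rw [e', ht1, mul_one]; exact hz, hZN⟩
  obtain ⟨n₀, hn₀, hn₀1⟩ : ∃ n ∈ N, n ≠ 1 := by
    by_contra hc
    push Not at hc
    have hRC : R ≤ C := fun v hv => hmC.mpr ⟨hv, mul_inv_eq_iff_eq_mul.mp
      (mul_inv_eq_one.mp (hc _ (hucent v hv)))⟩
    have hZnorm : R ≤ normalizer (Z : Set G) := le_normalizer_iff.mpr fun v hv z hz => by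
      obtain ⟨z', hz', t, htR, hta, rfl⟩ := h.cent v hv (hmC.mp (hRC hv)).2
      rw [show z' * t * z * (z' * t)⁻¹ = z' * (t * z * t⁻¹) * z'⁻¹ by group,
        (h.commT t htR hta z hz).eq, mul_inv_cancel_right]
      exact mul_mem (mul_mem hz' hz) (inv_mem hz')
    have hNZ : N ≤ Z := fun n hn => by rw [hc n hn]; exact one_mem Z
    have hZN := hsup Z h.le hZnorm h.normZ hNZ h.free
    have : Nat.card Z ≤ 1 := by
      have : Z = ⊥ := (eq_bot_iff_forall _).mpr fun z hz => hc z (hZN hz)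
      rw [this, Subgroup.card_bot]
    rw [h.card] at this
    omega
  obtain ⟨hn₀Z, hZN⟩ : ∃ n ∈ N, n ∈ Z ∧ Z ≤ N := by
    obtain ⟨k, hk⟩ := IsPGroup.iff_orderOf.mp hN2 ⟨n₀, hn₀⟩
    rw [← orderOf_coe] at hk
    have hk0 : k ≠ 0 := fun e' => hn₀1 (orderOf_eq_one_iff.mp (by rw [hk, e', pow_zero]))
    have hd' : 2 ^ k = 2 ^ (k - 1) * 2 := by rw [← pow_succ]; congr 1; omega
    have hord : orderOf (n₀ ^ 2 ^ (k - 1)) = 2 := by
      rw [orderOf_pow' n₀ (by positivity), hk, Nat.gcd_eq_right ⟨2, hd'⟩, hd',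
        Nat.mul_div_cancel_left _ (by positivity)]
    exact ⟨_, pow_mem hn₀ _, hZone _ (pow_mem hn₀ _) (H26.mul_self_of_orderOf_two hord)
      (H26.ne_one_of_orderOf_two hord)⟩
  obtain ⟨-, -, hZN⟩ := hZN
  -- `R` centralises `Z`
  have hRZn : R ≤ normalizer (Z : Set G) := le_normalizer_iff.mpr fun v hv z hz => by
    by_cases hz1 : z = 1
    · simp [hz1]
    · refine (hZone _ (hconjN hv (hZN hz)) ?_ ?_).1
      · rw [show v * z * v⁻¹ * (v * z * v⁻¹) = v * (z * z) * v⁻¹ by group, h.sq z hz]; group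
      · simpa [conj_eq_one_iff] using hz1
  have hRZ : ∀ v ∈ R, ∀ z ∈ Z, Commute v z := by
    haveI : (Z.subgroupOf R).Normal := ⟨fun y hy g' => (mem_normalizer_iff.mp (hRZn g'.2) _).mp hy⟩
    have hne : Z.subgroupOf R ≠ ⊥ := fun e' => by
      have h1 := (Nat.card_congr (Subgroup.subgroupOfEquivOfLe h.le).toEquiv)
      rw [e', Subgroup.card_bot, h.card] at h1
      omega
    obtain ⟨z₀, hz₀, hz₀1⟩ := Subgroup.ne_bot_iff_exists_ne_one.mp
      (PGroups.inf_center_ne_bot (p := 2) h.two (Z.subgroupOf R) hne) |>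
        fun ⟨q, hq⟩ => (⟨(q : R), q.2, fun e' => hq (Subtype.ext e')⟩ :
          ∃ z : R, z ∈ Z.subgroupOf R ⊓ center R ∧ z ≠ 1)
    have hz₀c : ∀ v ∈ R, Commute v (z₀ : G) := fun v hv =>
      congrArg Subtype.val (Subgroup.mem_center_iff.mp hz₀.2 ⟨v, hv⟩)
    have hz₀1' : (z₀ : G) ≠ 1 := fun e' => hz₀1 (Subtype.ext e')
    set w := a * (z₀ : G) * a⁻¹ with hwdef
    have hwc : ∀ v ∈ R, Commute v w := fun v hv => by
      have hv' : a⁻¹ * v * a ∈ R := by
        have := (mem_normalizer_iff.mp (inv_mem h.norm) v).mp hv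
        rwa [inv_inv] at this
      have := (hz₀c _ hv').map (MulAut.conj a).toMonoidHom
      have e1 : a * (a⁻¹ * v * a) * a⁻¹ = v := by group
      simp only [MulEquiv.coe_toMonoidHom, MulAut.conj_apply, e1] at this
      exact this
    intro v hv z hz
    set Zc := Z ⊓ centralizer ({v} : Set G) with hZcdef
    have hmZ : ∀ {y : G}, y ∈ Z → Commute v y → y ∈ Zc := fun hy hc =>
      ⟨hy, mem_centralizer_singleton_iff.mpr hc.symm.eq⟩
    have hz₀Z : (z₀ : G) ∈ Z := Subgroup.mem_subgroupOf.mp hz₀.1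
    have hwZ : w ∈ Z := (mem_normalizer_iff.mp h.normZ _).mp hz₀Z
    have hle : Zc = Z := eq_of_two_mem inf_le_left h.card (hmZ hz₀Z (hz₀c v hv)) (hmZ hwZ (hwc v hv))
      hz₀1' (fun hh => hz₀1' (conj_eq_one_iff.mp hh))
      (fun hh => hz₀1' (h.free _ hz₀Z (mul_inv_eq_iff_eq_mul.mp hh.symm).symm))
    exact (mem_centralizer_singleton_iff.mp (hle.ge hz).2 : z * v = v * z).symm
  -- `N` has exponent two
  have hN4 : ∀ n ∈ N, n * n * (n * n) = 1 → n * n = 1 := by
    intro n hn hn4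
    have hnn : n * n ∈ N := mul_mem hn hn
    have hsqZ : n * n ∈ Z := by
      by_cases h1 : n * n = 1
      · rw [h1]; exact one_mem Z
      · exact (hZone _ hnn hn4 h1).1
    set δ := n⁻¹ * (d * n * d⁻¹) with hδ
    have hδN : δ ∈ N := mul_mem (inv_mem hn) (hconjN hdR hn)
    have hδ2 : δ * δ = 1 := by
      have hcm : Commute n⁻¹ (d * n * d⁻¹) := hNab _ (inv_mem hn) _ (hconjN hdR hn)
      rw [hδ, mul_assoc, ← mul_assoc (d * n * d⁻¹) n⁻¹, ← hcm.eq, mul_assoc n⁻¹ (d * n * d⁻¹),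
        ← mul_assoc n⁻¹ n⁻¹, show d * n * d⁻¹ * (d * n * d⁻¹) = d * (n * n) * d⁻¹ by group,
        (hRZ d hdR _ hsqZ).eq, mul_inv_cancel_right]
      group
    have hδd : d * δ * d⁻¹ = δ := by
      by_cases h1 : δ = 1
      · simp [h1]
      · rw [(hRZ d hdR δ (hZone δ hδN hδ2 h1).1).eq, mul_inv_cancel_right]
    have e1 : d * (d * n * d⁻¹) * d⁻¹ = n := by
      rw [show d * n * d⁻¹ = n * δ by rw [hδ, mul_inv_cancel_left],
        show d * (n * δ) * d⁻¹ = d * n * d⁻¹ * (d * δ * d⁻¹) by group, hδd,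
        show d * n * d⁻¹ = n * δ by rw [hδ, mul_inv_cancel_left], mul_assoc, hδ2, mul_one]
    have e2 : d * (d * n * d⁻¹) * d⁻¹ = n⁻¹ := by
      calc d * (d * n * d⁻¹) * d⁻¹ = d * d * n * (d * d)⁻¹ := by group
        _ = n₁ * (u * n * u⁻¹) * n₁⁻¹ := by rw [hdd]; group
        _ = n⁻¹ := by rw [hinvN n hn, (hNab _ hn₁ _ (inv_mem hn)).eq, mul_inv_cancel_right]
    rw [e1] at e2
    exact mul_eq_one_iff_eq_inv.mpr e2
  have hNexp : ∀ n ∈ N, n * n = 1 := by
    intro n hn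
    by_contra hne
    obtain ⟨k, hk⟩ := IsPGroup.iff_orderOf.mp hN2 ⟨n, hn⟩
    rw [← orderOf_coe] at hk
    have hk2 : 2 ≤ k := by
      by_contra hlt'
      apply hne
      rw [← pow_two n, ← orderOf_dvd_iff_pow_eq_one, hk]
      exact (pow_dvd_pow 2 (by omega : k ≤ 1)).trans (by norm_num)
    have hd' : 2 ^ k = 2 ^ (k - 2) * 4 := by
      rw [show (4 : ℕ) = 2 ^ 2 by norm_num, ← pow_add]; congr 1; omega
    set m := n ^ 2 ^ (k - 2) with hm
    have hm4 : m * m * (m * m) = 1 := by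
      rw [hm, ← pow_add, ← pow_add, ← orderOf_dvd_iff_pow_eq_one, hk, hd']
      exact ⟨1, by ring⟩
    have := hN4 m (pow_mem hn _) hm4
    rw [hm, ← pow_add, ← orderOf_dvd_iff_pow_eq_one, hk, hd'] at this
    have h1 := Nat.le_of_dvd (by have := Nat.two_pow_pos (k - 2); omega) this
    have := Nat.two_pow_pos (k - 2)
    omega
  -- the contradiction
  have hn₁Z : n₁ ∈ Z := by
    by_cases h1 : n₁ = 1
    · rw [h1]; exact one_mem Z
    · exact (hZone n₁ hn₁ (hNexp n₁ hn₁) h1).1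
  have hdu : Commute d u := by
    have hu' : u = n₁⁻¹ * (d * d) := by rw [hdd, inv_mul_cancel_left]
    rw [hu']
    exact (hRZ d hdR _ (inv_mem hn₁Z)).mul_right ((Commute.refl d).mul_right (Commute.refl d))
  obtain ⟨z, hz, t, htR, hta, e'⟩ := h.cent d hdR hdu
  exact hd₁ (e' ▸ mul_mem (mem_sup_left (hZN hz)) (mem_sup_right (hmT.mpr ⟨htR, hta⟩)))

end Cfsg.Agent.H26.Asch
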