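import Cfsg.Agent.H26.Asch.MaxClass

/-!
# Aschbacher's criterion: rank one lines

Every bad involution centralised by no two different commuting members lies outside `⟨D⟩`.
The proof only uses, for a bad `t`, that two members of a 2-group centralising `t` commute.
-/

set_option autoImplicit false

namespace Cfsg.Agent.H26.Asch

open Subgroup

variable {G : Type*} [Group G] [Finite G] {Ω : Type*} [MulAction G Ω] {D : Set G} (h : Base Ω D)

omit [Finite G] in
theorem conj_eq_self_of_commute {x y : G} (e : Commute x y) : x * y * x⁻¹ = y :=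
  mul_inv_eq_iff_eq_mul.mpr e.eq

/-- Normalisers grow inside a 2-subgroup. -/
theorem exists_normalizing {H K : Subgroup G} (hK : IsPGroup 2 K) (hHK : H < K) :
    ∃ x ∈ K, x ∉ H ∧ x ∈ normalizer (H : Set G) := by
  haveI : Fact (Nat.Prime 2) := ⟨Nat.prime_two⟩
  have hne : H.subgroupOf K ≠ ⊤ := fun e => not_le_of_gt hHK (Subgroup.subgroupOf_eq_top.mp e)
  obtain ⟨x, hx, hxn⟩ := SetLike.exists_of_lt (PGroups.lt_normalizer hK hne)
  refine ⟨x, x.2, hxn, Subgroup.mem_normalizer_iff.mpr fun v => ?_⟩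
  have hx' := Subgroup.mem_normalizer_iff.mp hx
  refine ⟨fun hh => (hx' ⟨v, hHK.le hh⟩).mp hh, fun hh => ?_⟩
  have hvK : v ∈ K := by
    have := K.mul_mem (K.mul_mem (K.inv_mem x.2) (hHK.le hh)) x.2
    simpa [mul_assoc] using this
  exact (hx' ⟨v, hvK⟩).mpr hh

variable {S : Sylow 2 G} {z : G} (hz : z ∈ D) (hzS : z ∈ (S : Subgroup G))
  (hzc : ∀ s ∈ (S : Subgroup G), Commute s z)

include h hz hzS hzc in
/-- A member isolated in a Sylow 2-subgroup: Glauberman's Z*. -/
theorem done_of_isolated (hX : ∀ a ∈ D, a ∈ (S : Subgroup G) → a = z) : Done Ω D := by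
  refine done_of_sylow h S fun u huS hu huD => ?_
  have hzz := mul_self h hz
  have hzinv : z⁻¹ = z := inv_eq_of_mul_eq_one_right hzz
  obtain ⟨N, hN, hNodd, hNz⟩ := Cfsg.Agent.S0215.result S z (h.inv z hz) hzS fun g hg =>
    hX _ (h.conj_mem z hz g) hg
  have key : ∀ x ∈ Subgroup.closure D, x ∈ N ∨ z * x ∈ N := by
    intro x hx
    have hflip : ∀ n ∈ N, z * n * z ∈ N := fun n hn => by
      have := hN.conj_mem n hn z; rwa [hzinv] at this
    induction hx using Subgroup.closure_induction with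
    | mem d hd =>
      obtain ⟨g, rfl⟩ := isConj_iff.mp (h.isConj z hz d hd)
      refine Or.inr ?_
      have := hNz g
      rw [hzinv] at this
      rwa [← mul_assoc, ← mul_assoc]
    | one => exact Or.inl (one_mem _)
    | mul x y _ _ ix iy =>
      rcases ix with ix | ix <;> rcases iy with iy | iy
      · exact Or.inl (mul_mem ix iy)
      · refine Or.inr ?_
        have := mul_mem (hflip x ix) iy
        rwa [show z * x * z * (z * y) = z * x * (z * z) * y by group, hzz, mul_one, mul_assoc] at this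
      · exact Or.inr (by rw [← mul_assoc]; exact mul_mem ix iy)
      · refine Or.inl ?_
        have := mul_mem (hflip _ ix) iy
        rwa [show z * (z * x) * z * (z * y) = (z * z) * x * (z * z) * y by group, hzz, one_mul,
          mul_one] at this
    | inv x _ ix =>
      rcases ix with ix | ix
      · exact Or.inl (inv_mem ix)
      · refine Or.inr ?_
        have := hflip _ (inv_mem ix)
        rwa [mul_inv_rev, hzinv, mul_assoc, mul_assoc, hzz, mul_one] at this
  have huu := H26.mul_self_of_orderOf_two hu.1.1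
  rcases key u huD with h1 | h1
  · exact H26.ne_one_of_orderOf_two hu.1.1 (H38.eq_one_of_mul_self_eq_one hNodd h1 huu)
  · have h2 : z * u * (z * u) = 1 := by
      rw [mul_assoc, ← mul_assoc u, (hzc u huS).eq, mul_assoc, huu, mul_one, hzz]
    have h3 := H38.eq_one_of_mul_self_eq_one hNodd h1 h2
    have h4 : u = z := by rw [← hzinv]; exact (inv_eq_of_mul_eq_one_right h3).symm
    exact member_not_bad h hz (h4 ▸ hu.1)

variable (hline : ∀ t, Bad Ω t → ∀ P : Subgroup G, IsPGroup 2 P → ∀ a ∈ D, ∀ b ∈ D,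
  a ∈ P → b ∈ P → Commute a t → Commute b t → Commute a b)
variable {t : G} (ht : NearCentral (S : Subgroup G) z t)

omit [Finite G] in
include hzc ht in
theorem conj_mul_z {a s : G} (ha : a * t * a⁻¹ = t * z) (hs : s ∈ (S : Subgroup G)) :
    s * (t * z) * s⁻¹ = s * t * s⁻¹ * z := by
  rw [show s * (t * z) * s⁻¹ = s * t * s⁻¹ * (s * z * s⁻¹) by group,
    conj_eq_self_of_commute (hzc s hs)]

include h hz hzS hzc hline ht in
/-- A bad `t` with a second member centralising it. -/
theorem done_of_bad_two (htb : Bad Ω t) {a : G} (ha : a ∈ D) (haS : a ∈ (S : Subgroup G))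
    (haz : a ≠ z) (hat : Commute a t) : Done Ω D := by
  have hzz := mul_self h hz
  refine done_of_commuting h hz hzS hzc (T := {x | x ∈ D ∧ x ∈ (S : Subgroup G) ∧ Commute x t})
    (fun x hx => hx.2.1) (fun x hx => hx.1)
    (fun x hx y hy => hline t htb _ S.2 x hx.1 y hy.1 hx.2.1 hy.2.1 hx.2.2 hy.2.2)
    (fun s hs x hx => ⟨h.conj_mem x hx.1 s, mul_mem (mul_mem hs hx.2.1) (inv_mem hs), ?_⟩)
    ⟨hz, hzS, (hzc t ht.mem).symm⟩ ⟨ha, haS, hat⟩ haz
  have h1 : Commute (s * x * s⁻¹) (s * t * s⁻¹) := commute_conj hx.2.2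
  rcases ht.conj s hs with e | e <;> rw [e] at h1
  · exact h1
  · have h2 : Commute (s * x * s⁻¹) z :=
      hzc _ (mul_mem (mul_mem hs hx.2.1) (inv_mem hs))
    have := h1.mul_right h2
    rwa [show t * z * z = t by rw [mul_assoc, hzz, mul_one]] at this

include h hz hzS hzc hline ht in
/-- A bad `t`: no other member of `S` centralises it. -/
theorem done_of_bad (htb : Bad Ω t) : Done Ω D := by
  classical
  haveI : Fact (Nat.Prime 2) := ⟨Nat.prime_two⟩
  by_cases hX : ∀ a ∈ D, a ∈ (S : Subgroup G) → a = z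
  · exact done_of_isolated h hz hzS hzc hX
  push Not at hX
  by_cases hC : ∃ a ∈ D, a ∈ (S : Subgroup G) ∧ a ≠ z ∧ Commute a t
  · obtain ⟨a, ha, haS, haz, hat⟩ := hC
    exact done_of_bad_two h hz hzS hzc hline ht htb ha haS haz hat
  push Not at hC
  have hmove : ∀ a ∈ D, a ∈ (S : Subgroup G) → a ≠ z → a * t * a⁻¹ = t * z := fun a ha haS haz =>
    (ht.conj a haS).resolve_left fun e => hC a ha haS haz (mul_inv_eq_iff_eq_mul.mp e)
  obtain ⟨a₀, ha₀, ha₀S, ha₀z⟩ := hX
  have hzz := mul_self h hz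
  have hzinv : z⁻¹ = z := inv_eq_of_mul_eq_one_right hzz
  have hz1 := H26.ne_one_of_orderOf_two (h.inv z hz)
  have hconjz : ∀ s ∈ (S : Subgroup G), s * (t * z) * s⁻¹ = s * t * s⁻¹ * z := fun s hs =>
    conj_mul_z hzc ht (hmove a₀ ha₀ ha₀S ha₀z) hs
  set C := (S : Subgroup G) ⊓ centralizer {t} with hCdef
  have hmC : ∀ {s : G}, s ∈ C ↔ s ∈ (S : Subgroup G) ∧ Commute s t := fun {s} =>
    and_congr Iff.rfl mem_centralizer_singleton_iff
  have hCi : C.relIndex (S : Subgroup G) = 2 := by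
    rw [relIndex, index_eq_two_iff]
    refine ⟨⟨a₀, ha₀S⟩, fun b => ?_⟩
    show Xor' ((b : G) * a₀ ∈ C) ((b : G) ∈ C)
    have e0 : (b : G) * a₀ * t * ((b : G) * a₀)⁻¹ = b * t * (b : G)⁻¹ * z := by
      rw [show (b : G) * a₀ * t * ((b : G) * a₀)⁻¹ = b * (a₀ * t * a₀⁻¹) * (b : G)⁻¹ by group,
        hmove a₀ ha₀ ha₀S ha₀z, hconjz b b.2]
    rcases ht.conj b b.2 with e | e
    · refine Or.inr ⟨hmC.mpr ⟨b.2, mul_inv_eq_iff_eq_mul.mp e⟩, fun hb => hz1 ?_⟩
      rw [conj_eq_self_of_commute (hmC.mp hb).2, e] at e0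
      exact left_eq_mul.mp e0
    · refine Or.inl ⟨hmC.mpr ⟨mul_mem b.2 ha₀S, mul_inv_eq_iff_eq_mul.mp ?_⟩, fun hb => hz1 ?_⟩
      · show (b : G) * a₀ * t * ((b : G) * a₀)⁻¹ = t
        rw [e0, e, mul_assoc, hzz, mul_one]
      · rw [conj_eq_self_of_commute (hmC.mp hb).2] at e
        exact left_eq_mul.mp e
  have hS2C : Nat.card (S : Subgroup G) = 2 * Nat.card C := by
    have e1 := (C.subgroupOf (S : Subgroup G)).card_mul_index
    have e2 : Nat.card (C.subgroupOf (S : Subgroup G)) = Nat.card C :=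
      Nat.card_congr (Subgroup.subgroupOfEquivOfLe inf_le_left).toEquiv
    rw [relIndex] at hCi
    rw [hCi, e2] at e1
    omega
  have hCz : ∀ a ∈ D, a ∈ C → a = z := fun a ha haC => by
    by_contra haz; exact hC a ha (hmC.mp haC).1 haz (hmC.mp haC).2
  -- if `C` is not Sylow in `C(t)`, another Sylow 2-subgroup of `G` has `t` central
  set Ct := centralizer ({t} : Set G) with hCtdef
  have hC2 : IsPGroup 2 C := S.2.to_le inf_le_left
  obtain ⟨P, hP⟩ := (hC2.comap_of_injective Ct.subtype Ct.subtype_injective :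
    IsPGroup 2 (C.subgroupOf Ct)).exists_le_sylow
  set P' := (P : Subgroup Ct).map Ct.subtype with hP'def
  have hP'2 : IsPGroup 2 P' := P.2.map _
  have hP't : P' ≤ Ct := map_subtype_le _
  have hCP : C ≤ P' := fun x hx => ⟨⟨x, hx.2⟩, hP hx, rfl⟩
  rcases eq_or_lt_of_le hCP with hPC | hPC
  swap
  · obtain ⟨x, hxP, hxC, hxn⟩ := exists_normalizing hP'2 hPC
    have hzC : z ∈ C := hmC.mpr ⟨hzS, (hzc t ht.mem).symm⟩
    have hxz : Commute x z := by
      refine mul_inv_eq_iff_eq_mul.mp (hCz _ (h.conj_mem z hz x) ?_)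
      exact (Subgroup.mem_normalizer_iff.mp hxn z).mp hzC
    set S₁ := C ⊔ zpowers x with hS₁def
    have hS₁P : S₁ ≤ P' := sup_le hCP (zpowers_le.mpr hxP)
    have hlt : C < S₁ := lt_of_le_of_ne le_sup_left fun e =>
      hxC (e ▸ Subgroup.mem_sup_right (mem_zpowers x))
    have hS₁2 : IsPGroup 2 S₁ := hP'2.to_le hS₁P
    obtain ⟨R, hR⟩ := hS₁2.exists_le_sylow
    have hRS : Nat.card (R : Subgroup G) = Nat.card (S : Subgroup G) := by
      rw [R.card_eq_multiplicity, S.card_eq_multiplicity]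
    have hcard : Nat.card (R : Subgroup G) ≤ Nat.card S₁ := by
      rw [hRS, hS2C]
      have e1 := Subgroup.relIndex_mul_relIndex (⊥ : Subgroup G) C S₁ bot_le le_sup_left
      rw [relIndex_bot_left, relIndex_bot_left] at e1
      have e2 : 1 < C.relIndex S₁ := by
        refine (Nat.one_lt_iff_ne_zero_and_ne_one).mpr ⟨?_, fun e => ?_⟩
        · intro e; rw [e, mul_zero] at e1; exact Nat.card_pos.ne e1
        · exact not_le_of_gt hlt (relIndex_eq_one.mp e)
      rw [← e1, mul_comm 2]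
      exact Nat.mul_le_mul_left _ e2
    have hReq : S₁ = (R : Subgroup G) := Subgroup.eq_of_le_of_card_ge hR hcard
    have hS₁t : S₁ ≤ Ct := hS₁P.trans hP't
    have hS₁z : S₁ ≤ centralizer {z} := sup_le
      (fun c hc => mem_centralizer_singleton_iff.mpr (hzc c hc.1).eq)
      (zpowers_le.mpr (mem_centralizer_singleton_iff.mpr hxz.eq))
    have hzR : z ∈ (R : Subgroup G) := hReq ▸ (Subgroup.mem_sup_left hzC : z ∈ S₁)
    have hzcR : ∀ s ∈ (R : Subgroup G), Commute s z := fun s hs =>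
      mem_centralizer_singleton_iff.mp (hS₁z (hReq ▸ hs))
    have htR : NearCentral (R : Subgroup G) z t := by
      refine ⟨hReq ▸ (Subgroup.mem_sup_left (hmC.mpr ⟨ht.mem, Commute.refl t⟩) : t ∈ S₁), ht.sq,
        ht.ne_one, ht.ne, fun s hs => Or.inl ?_⟩
      exact conj_eq_self_of_commute (mem_centralizer_singleton_iff.mp (hS₁t (hReq ▸ hs)))
    by_cases hXR : ∀ a ∈ D, a ∈ (R : Subgroup G) → a = z
    · exact done_of_isolated h hz hzR hzcR hXR
    · push Not at hXR
      obtain ⟨a, ha, haR, haz⟩ := hXR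
      exact done_of_bad_two h hz hzR hzcR hline htR htb ha haR haz
        (mem_centralizer_singleton_iff.mp (hS₁t (hReq ▸ haR)))
  -- so `t` has rank one
  have htU : RankOne Ω D t := by
    refine ⟨htb, fun a ha b hb hat hbt hab => ?_⟩
    set T := Subgroup.closure ({a, b} : Set G) with hTdef
    obtain ⟨n, hn⟩ : ∃ n, orderOf (a * b) = 2 ^ n := by
      by_cases e : a = b
      · exact ⟨0, by rw [e, mul_self h hb, orderOf_one, pow_zero]⟩
      · exact ⟨1, by rw [(good_mul h ha hb hab e).1, pow_one]⟩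
    have hT2 : IsPGroup 2 T := H26.isPGroup_closure_pair (mul_self h ha) (mul_self h hb) (hn ▸ pow_orderOf_eq_one (a * b))
    have hTt : T ≤ Ct := (Subgroup.closure_le _).mpr (by
      rintro x (rfl | rfl)
      · exact mem_centralizer_singleton_iff.mpr hat.eq
      · exact mem_centralizer_singleton_iff.mpr hbt.eq)
    obtain ⟨Q, hQ⟩ := (hT2.comap_of_injective Ct.subtype Ct.subtype_injective :
      IsPGroup 2 (T.subgroupOf Ct)).exists_le_sylow
    obtain ⟨g, hg⟩ := MulAction.exists_smul_eq Ct Q P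
    have himg : ∀ x ∈ T, (g : G) * x * (g : G)⁻¹ ∈ C := fun x hx => by
      rw [hPC]
      refine ⟨g * ⟨x, hTt hx⟩ * g⁻¹, ?_, rfl⟩
      rw [← hg]
      exact ⟨⟨x, hTt hx⟩, hQ hx, rfl⟩
    have ea := hCz _ (h.conj_mem a ha g) (himg a (Subgroup.subset_closure (by simp)))
    have eb := hCz _ (h.conj_mem b hb g) (himg b (Subgroup.subset_closure (by simp)))
    simpa using ea.trans eb.symm
  -- members commuting with `a ≠ z`
  have hcomm : ∀ a ∈ D, a ∈ (S : Subgroup G) → a ≠ z → ∀ b ∈ D, b ∈ (S : Subgroup G) →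
      Commute a b → b = z ∨ b = a ∨ b = a * z := by
    intro a ha haS haz b hb hbS hab
    by_contra hcon
    push Not at hcon
    obtain ⟨hbz, hba, hbaz⟩ := hcon
    have hainv : a⁻¹ = a := inv_eq_of_mul_eq_one_right (mul_self h ha)
    obtain ⟨hc2, hcg⟩ := good_mul h ha hb hab (Ne.symm hba)
    have hct : Commute (a * b) t := by
      refine mul_inv_eq_iff_eq_mul.mp ?_
      rw [show a * b * t * (a * b)⁻¹ = a * (b * t * b⁻¹) * a⁻¹ by group, hmove b hb hbS hbz,
        hconjz a haS, hmove a ha haS haz, mul_assoc, hzz, mul_one]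
    have hcz : Commute (a * b) z := hzc _ (mul_mem haS hbS)
    have hne : a * b ≠ z := fun e => hbaz (by
      calc b = a⁻¹ * (a * b) := (inv_mul_cancel_left a b).symm
        _ = a * z := by rw [e, hainv])
    refine hne (eq_of_good h htU hz (hzc t ht.mem).symm hc2 hct hcz hcg ?_)
    refine good_closure h (T := {a, b, z}) ?_ ?_ (H26.orderOf_two_of_mul_self ?_ ?_)
      (mul_mem (mul_mem (Subgroup.subset_closure (by simp)) (Subgroup.subset_closure (by simp)))
        (Subgroup.subset_closure (by simp)))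
    · rintro x (rfl | rfl | rfl) <;> assumption
    · rintro x (rfl | rfl | rfl) y (rfl | rfl | rfl)
      exacts [Commute.refl _, hab, hzc _ haS, hab.symm, Commute.refl _, hzc _ hbS,
        (hzc _ haS).symm, (hzc _ hbS).symm, Commute.refl _]
    · rw [show a * b * z * (a * b * z) = a * b * (z * (a * b)) * z by group, ← hcz.eq,
        show a * b * (a * b * z) * z = a * b * (a * b) * (z * z) by group,
        H26.mul_self_of_orderOf_two hc2, hzz, mul_one]
    · intro e
      exact hne (by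
        calc a * b = a * b * (z * z) := by rw [hzz, mul_one]
          _ = z := by rw [← mul_assoc, e, one_mul])
  -- extremal choice of `z'`
  set Cz := centralizer ({z} : Set G) ⊓ centralizer ({a₀} : Set G) with hCzdef
  have hT₀ : IsPGroup 2 (Subgroup.closure ({a₀, z} : Set G)) :=
    S.2.to_le ((Subgroup.closure_le _).mpr (by rintro x (rfl | rfl) <;> assumption))
  have hT₀le : Subgroup.closure ({a₀, z} : Set G) ≤ Cz := (Subgroup.closure_le _).mpr (by
    rintro x (rfl | rfl)
    · exact ⟨mem_centralizer_singleton_iff.mpr (hzc _ ha₀S).eq,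
        mem_centralizer_singleton_iff.mpr rfl⟩
    · exact ⟨mem_centralizer_singleton_iff.mpr rfl,
        mem_centralizer_singleton_iff.mpr (hzc _ ha₀S).symm.eq⟩)
  obtain ⟨P₀, hP₀⟩ := (hT₀.comap_of_injective Cz.subtype Cz.subtype_injective :
    IsPGroup 2 ((Subgroup.closure ({a₀, z} : Set G)).subgroupOf Cz)).exists_le_sylow
  set P₁ := (P₀ : Subgroup Cz).map Cz.subtype with hP₁def
  have hP₁z : P₁ ≤ centralizer {z} := (map_subtype_le _).trans inf_le_left
  have hP₁a : P₁ ≤ centralizer {a₀} := (map_subtype_le _).trans inf_le_right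
  have ha₀P : a₀ ∈ P₁ := ⟨⟨a₀, hT₀le (Subgroup.subset_closure (by simp))⟩,
    hP₀ (show a₀ ∈ _ from Subgroup.subset_closure (by simp)), rfl⟩
  have hScz : (S : Subgroup G) ≤ centralizer {z} := fun s hs =>
    mem_centralizer_singleton_iff.mpr (hzc s hs).eq
  obtain ⟨Q₁, hQ₁⟩ := ((P₀.2.map Cz.subtype).comap_of_injective (centralizer ({z} : Set G)).subtype
    (centralizer ({z} : Set G)).subtype_injective :
      IsPGroup 2 (P₁.subgroupOf (centralizer {z}))).exists_le_sylow
  obtain ⟨g, hg⟩ := MulAction.exists_smul_eq (centralizer ({z} : Set G)) Q₁ (S.subtype hScz)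
  have hgS : ∀ x ∈ P₁, (g : G) * x * (g : G)⁻¹ ∈ (S : Subgroup G) := fun x hx => by
    have : (g * ⟨x, hP₁z hx⟩ * g⁻¹ : centralizer ({z} : Set G)) ∈ S.subtype hScz := by
      rw [← hg]; exact ⟨⟨x, hP₁z hx⟩, hQ₁ hx, rfl⟩
    exact this
  have hgz : Commute (g : G) z := mem_centralizer_singleton_iff.mp g.2
  set a := (g : G) * a₀ * (g : G)⁻¹ with hadef
  have ha : a ∈ D := h.conj_mem a₀ ha₀ g
  have haS : a ∈ (S : Subgroup G) := hgS a₀ ha₀P
  have haz : a ≠ z := fun e => ha₀z (by
    calc a₀ = (g : G)⁻¹ * a * g := by rw [hadef]; group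
      _ = z := by rw [e, mul_assoc, ← hgz.eq, inv_mul_cancel_left])
  have hainv : a⁻¹ = a := inv_eq_of_mul_eq_one_right (mul_self h ha)
  have hata : t * a * t⁻¹ = a * z := by
    have e := hmove a ha haS haz
    have ti : t⁻¹ = t := inv_eq_of_mul_eq_one_right ht.sq
    rw [hainv] at e
    rw [ti]
    calc t * a * t = a * (a * t * a) * t := by
          rw [← mul_assoc a, ← mul_assoc a, mul_self h ha, one_mul]
      _ = a * (t * z * t) := by rw [e]; group
      _ = a * z := by rw [mul_assoc t, ← (hzc t ht.mem).eq, ← mul_assoc t, ht.sq, one_mul]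
  set A := (S : Subgroup G) ⊓ centralizer {a} with hAdef
  have hmA : ∀ {s : G}, s ∈ A ↔ s ∈ (S : Subgroup G) ∧ Commute s a := fun {s} =>
    and_congr Iff.rfl mem_centralizer_singleton_iff
  have hAmax : ∀ R : Subgroup G, IsPGroup 2 R → R ≤ centralizer {z} → R ≤ centralizer {a} → A ≤ R →
      R ≤ A := by
    intro R hR hRz hRa hAR
    set f := (MulAut.conj (g : G)⁻¹).toMonoidHom with hf
    have hRle : R.map f ≤ Cz := by
      rintro _ ⟨x, hx, rfl⟩
      have h1 : Commute ((g : G)⁻¹ * x * (g : G)⁻¹⁻¹) ((g : G)⁻¹ * z * (g : G)⁻¹⁻¹) :=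
        commute_conj (mem_centralizer_singleton_iff.mp (hRz hx))
      have h2 : Commute ((g : G)⁻¹ * x * (g : G)⁻¹⁻¹) ((g : G)⁻¹ * a * (g : G)⁻¹⁻¹) :=
        commute_conj (mem_centralizer_singleton_iff.mp (hRa hx))
      rw [show (g : G)⁻¹ * z * (g : G)⁻¹⁻¹ = z by rw [inv_inv, mul_assoc, ← hgz.eq, inv_mul_cancel_left]] at h1
      rw [show (g : G)⁻¹ * a * (g : G)⁻¹⁻¹ = a₀ by rw [hadef]; group] at h2
      exact ⟨mem_centralizer_singleton_iff.mpr h1.eq, mem_centralizer_singleton_iff.mpr h2.eq⟩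
    obtain ⟨Q, hQ⟩ := ((hR.map f).comap_of_injective Cz.subtype Cz.subtype_injective :
      IsPGroup 2 ((R.map f).subgroupOf Cz)).exists_le_sylow
    have e1 : Nat.card R ≤ Nat.card P₁ := by
      have e2 : Nat.card (R.map f) = Nat.card R :=
        (Nat.card_congr (R.equivMapOfInjective f (MulAut.conj (g : G)⁻¹).injective).toEquiv).symm
      rw [← e2, ← Nat.card_congr (Subgroup.subgroupOfEquivOfLe hRle).toEquiv, hP₁def,
        ← Nat.card_congr ((P₀ : Subgroup Cz).equivMapOfInjective _ Cz.subtype_injective).toEquiv,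
        P₀.card_eq_multiplicity, ← Q.card_eq_multiplicity]
      exact Nat.card_le_card_of_injective _ (Subgroup.inclusion_injective hQ)
    have e3 : Nat.card P₁ ≤ Nat.card A := by
      refine Nat.card_le_card_of_injective (fun x => (⟨(g : G) * x * (g : G)⁻¹,
        hmA.mpr ⟨hgS x x.2, commute_conj (mem_centralizer_singleton_iff.mp (hP₁a x.2))⟩⟩ : A)) ?_
      intro x y e
      exact Subtype.ext (by simpa using congrArg Subtype.val e)
    exact (Subgroup.eq_of_le_of_card_ge hAR (e1.trans e3)).ge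
  -- an element moving `z` to `a z`
  obtain ⟨S₂, haS₂, hS₂c⟩ := h.central a ha
  set Ca := centralizer ({a} : Set G) with hCadef
  have hA2 : IsPGroup 2 A := S.2.to_le inf_le_left
  obtain ⟨Q₂, hQ₂⟩ := (hA2.comap_of_injective Ca.subtype Ca.subtype_injective :
    IsPGroup 2 (A.subgroupOf Ca)).exists_le_sylow
  set Q₂' := (Q₂ : Subgroup Ca).map Ca.subtype with hQ₂'def
  have htA : t ∉ A := fun e => haz (by
    have := conj_eq_self_of_commute (hmA.mp e).2
    rw [hata] at this
    exact absurd (mul_eq_left.mp this) hz1)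
  have hAQ : A < Q₂' := by
    refine lt_of_le_of_ne (fun x hx => ⟨⟨x, hx.2⟩, hQ₂ hx, rfl⟩) fun e => ?_
    have h1 : Nat.card A < Nat.card (S : Subgroup G) := by
      rcases (Nat.card_le_card_of_injective _ (Subgroup.inclusion_injective
        (inf_le_left : A ≤ (S : Subgroup G)))).lt_or_eq with h | h
      · exact h
      · exact absurd ((Subgroup.eq_of_le_of_card_ge (inf_le_left : A ≤ (S : Subgroup G)) h.ge).ge
          ht.mem) htA
    have hS₂a : (S₂ : Subgroup G) ≤ Ca := fun s hs =>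
      mem_centralizer_singleton_iff.mpr (hS₂c s hs).eq
    rw [e, hQ₂'def, ← Nat.card_congr
      ((Q₂ : Subgroup Ca).equivMapOfInjective _ Ca.subtype_injective).toEquiv,
      Q₂.card_eq_multiplicity, ← (S₂.subtype hS₂a).card_eq_multiplicity, S₂.coe_subtype,
      Nat.card_congr (Subgroup.subgroupOfEquivOfLe hS₂a).toEquiv, S.card_eq_multiplicity,
      ← S₂.card_eq_multiplicity] at h1
    exact lt_irrefl _ h1
  obtain ⟨y, hyQ, hyA, hyn⟩ := exists_normalizing (Q₂.2.map _) hAQ
  have hya : Commute y a := mem_centralizer_singleton_iff.mp ((map_subtype_le (Q₂ : Subgroup Ca)) hyQ)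
  have hzA : z ∈ A := hmA.mpr ⟨hzS, (hzc a haS).symm⟩
  have hyzA : y * z * y⁻¹ ∈ A := (Subgroup.mem_normalizer_iff.mp hyn z).mp hzA
  have hyz : y * z * y⁻¹ = a * z := by
    have hne : y * z * y⁻¹ ≠ z := fun e => by
      have hR : A ⊔ zpowers y ≤ Q₂' := sup_le hAQ.le (zpowers_le.mpr hyQ)
      refine hyA (hAmax _ ((Q₂.2.map _).to_le hR) (sup_le (inf_le_left.trans hScz)
        (zpowers_le.mpr (mem_centralizer_singleton_iff.mpr (mul_inv_eq_iff_eq_mul.mp e))))
        (sup_le inf_le_right (zpowers_le.mpr (mem_centralizer_singleton_iff.mpr hya.eq))) le_sup_left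
        (Subgroup.mem_sup_right (mem_zpowers y)))
    have hne' : y * z * y⁻¹ ≠ a := fun e => haz (by
      have := congrArg (fun v => y⁻¹ * v * y) e
      simp only [mul_assoc, inv_mul_cancel_left, inv_mul_cancel, mul_one] at this
      rw [this, ← hya.eq, inv_mul_cancel_left])
    rcases hcomm a ha haS haz _ (h.conj_mem z hz y) (hmA.mp hyzA).1 (hmA.mp hyzA).2.symm
      with e | e | e
    · exact absurd e hne
    · exact absurd e hne'
    · exact e
  have hnosq : ∀ c ∈ A, c * c ≠ z := by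
    intro c hc e
    set d := y * c * y⁻¹ with hd
    have hdA : d ∈ A := (Subgroup.mem_normalizer_iff.mp hyn c).mp hc
    have hdd : d * d = a * z := by rw [hd, ← hyz, ← e]; group
    have hdt : Commute (d * d) t := by
      have hdS := (hmA.mp hdA).1
      refine mul_inv_eq_iff_eq_mul.mp ?_
      rw [show d * d * t * (d * d)⁻¹ = d * (d * t * d⁻¹) * d⁻¹ by group]
      rcases ht.conj d hdS with e' | e'
      · rw [e', e']
      · rw [e', hconjz d hdS, e', mul_assoc, hzz, mul_one]
    rw [hdd] at hdt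
    have h1 := hdt.mul_left (hzc t ht.mem).symm
    rw [mul_assoc, hzz, mul_one] at h1
    exact hC a ha haS haz h1
  -- the stabiliser of `{a, a z}` is everything
  have hmulz : ∀ s ∈ (S : Subgroup G), s * (a * z) * s⁻¹ = s * a * s⁻¹ * z := fun s hs => by
    rw [show s * (a * z) * s⁻¹ = s * a * s⁻¹ * (s * z * s⁻¹) by group,
      conj_eq_self_of_commute (hzc s hs)]
  let N : Subgroup G :=
    { carrier := {s | s ∈ (S : Subgroup G) ∧ (s * a * s⁻¹ = a ∨ s * a * s⁻¹ = a * z)}
      one_mem' := ⟨one_mem _, Or.inl (by simp)⟩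
      mul_mem' := by
        rintro s s' ⟨hs, es⟩ ⟨hs', es'⟩
        refine ⟨mul_mem hs hs', ?_⟩
        rw [show s * s' * a * (s * s')⁻¹ = s * (s' * a * s'⁻¹) * s⁻¹ by group]
        rcases es' with e | e <;> rw [e]
        · exact es
        · rw [hmulz s hs]
          rcases es with e1 | e1 <;> rw [e1]
          · exact Or.inr rfl
          · exact Or.inl (by rw [mul_assoc, hzz, mul_one])
      inv_mem' := by
        rintro s ⟨hs, es⟩
        refine ⟨inv_mem hs, ?_⟩
        rcases es with e | e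
        · left; nth_rw 1 [← e]; group
        · right
          calc s⁻¹ * a * s⁻¹⁻¹ = s⁻¹ * (a * z) * s⁻¹⁻¹ * z := by
                rw [hmulz _ (inv_mem hs), mul_assoc (s⁻¹ * a * s⁻¹⁻¹), hzz, mul_one]
            _ = a * z := by nth_rw 1 [← e]; group }
  have hNS : N ≤ (S : Subgroup G) := fun s hs => hs.1
  have haN : a ∈ N := ⟨haS, Or.inl (by rw [mul_inv_cancel_right])⟩
  have htN : t ∈ N := ⟨ht.mem, Or.inr hata⟩
  rcases eq_or_lt_of_le hNS with hN | hN
  · refine done_of_good h hz hzS hzc (t := a) ⟨haS, mul_self h ha,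
      H26.ne_one_of_orderOf_two (h.inv a ha), haz, fun s hs => ?_⟩ (member_not_bad h ha) ?_
    · rw [← hN] at hs; exact hs.2
    · exact (good_mul h ha hz (hzc a haS) haz).2
  exfalso
  obtain ⟨s, hsS, hsN, hsn⟩ := exists_normalizing S.2 hN
  set b := s * a * s⁻¹ with hbdef
  have hbN : b ∈ N := (Subgroup.mem_normalizer_iff.mp hsn a).mp haN
  have hb : b ∈ D := h.conj_mem a ha s
  have hbz : b ≠ z := fun e => haz (by
    calc a = s⁻¹ * b * s := by rw [hbdef]; group
      _ = z := by rw [e, mul_assoc, ← (hzc s hsS).eq, inv_mul_cancel_left])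
  have hnab : ¬ Commute a b := fun e => by
    rcases hcomm a ha haS haz b hb hbN.1 e with e' | e' | e'
    · exact hbz e'
    · exact hsN ⟨hsS, Or.inl e'⟩
    · exact hsN ⟨hsS, Or.inr e'⟩
  have hbinv : b⁻¹ = b := inv_eq_of_mul_eq_one_right (mul_self h hb)
  have haa := mul_self h ha
  have hbb := mul_self h hb
  set k := a * b with hk
  have hkN : k ∈ N := mul_mem haN hbN
  have hkk : k * k = k * a * k⁻¹ * a := by
    rw [hk, mul_inv_rev, hbinv, hainv]
    calc a * b * (a * b) = a * b * a * b * (a * a) := by rw [haa, mul_one]; group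
      _ = _ := by group
  have hkt : Commute k t := by
    refine mul_inv_eq_iff_eq_mul.mp ?_
    rw [hk, show a * b * t * (a * b)⁻¹ = a * (b * t * b⁻¹) * a⁻¹ by group,
      hmove b hb hbN.1 hbz, hconjz a haS, hmove a ha haS haz, mul_assoc, hzz, mul_one]
  rcases hkN.2 with e | e
  · apply hnab
    rw [e, haa] at hkk
    have : k⁻¹ = k := inv_eq_of_mul_eq_one_right hkk
    rw [hk, mul_inv_rev, hbinv, hainv] at this
    exact this.symm
  · rw [e, show a * z * a = z by rw [(hzc a haS).eq, mul_assoc, haa, mul_one]] at hkk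
    refine hnosq (k * t) (hmA.mpr ⟨mul_mem hkN.1 ht.mem, ?_⟩) ?_
    · refine mul_inv_eq_iff_eq_mul.mp ?_
      rw [show k * t * a * (k * t)⁻¹ = k * (t * a * t⁻¹) * k⁻¹ by group, hata, hmulz k hkN.1, e,
        mul_assoc, hzz, mul_one]
    · calc k * t * (k * t) = k * (t * k) * t := by group
        _ = k * k * (t * t) := by rw [← hkt.eq]; group
        _ = z := by rw [hkk, ht.sq, mul_one]

include h hline in
/-- **Rank one lines**: such bad involutions lie outside `⟨D⟩`. -/
theorem rankOne_notMem_closure {u : G} (hu : RankOne Ω D u) : u ∉ Subgroup.closure D := by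
  classical
  haveI : Fact (Nat.Prime 2) := ⟨Nat.prime_two⟩
  suffices hd : Done Ω D from hd u hu
  obtain ⟨p, -, -, hp, -⟩ := hu.1.2
  obtain ⟨z, hz, -, -⟩ := h.comm u hu.1.1 p hp
  obtain ⟨S, hzS, hzc⟩ := h.central z hz
  by_cases hX : ∀ a ∈ D, a ∈ (S : Subgroup G) → a = z
  · exact done_of_isolated h hz hzS hzc hX
  push Not at hX
  obtain ⟨a, ha, haS, haz⟩ := hX
  by_cases hn : ∀ A : Subgroup (S : Subgroup G), A.Normal → IsMulCommutative A → IsCyclic A
  · exact done_of_cyclic_normal h hz hzS hzc hn ha haS haz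
  push Not at hn
  obtain ⟨A, hAn, hA, hAc⟩ := hn
  obtain ⟨t, ht⟩ := exists_near_of_noncyclic h hz hzS hzc hAn hA hAc
  by_cases hno : ∀ v ∈ (S : Subgroup G), Commute v t → ¬ RankOne Ω D v
  · exact done_of_near h hz hzc ht hno
  push Not at hno
  by_cases htb : Bad Ω t
  · exact done_of_bad h hz hzS hzc hline ht htb
  by_cases htzb : Bad Ω (t * z)
  · exact done_of_bad h hz hzS hzc hline (nearCentral_mul h hz hzS hzc ht) htzb
  exact done_of_good h hz hzS hzc ht htb htzb

end Cfsg.Agent.H26.Asch
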