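import Cfsg.Agent.H26.Asch.TorusField
import Cfsg.Agent.Thompson.BaerSuzuki
import Cfsg.Agent.H39.Dihedral

/-!
A finite group acting faithfully and linearly on an elementary abelian two-group `E` and, by a
cocycle, transitively and affinely on its points, the stabiliser of the origin normalising the
image of a torus in it: an involution without fixed point inverts an element of odd prime order
fixing exactly two points, and the order of `E` is two to that prime.
-/

set_option autoImplicit false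
set_option linter.style.haveILetI false
set_option linter.unusedSectionVars false

namespace Cfsg.Agent.H26.Asch

open Subgroup MulAction

universe u v

variable {G : Type v} [Group G] [Finite G] {E : Type u} [AddCommGroup E] [Finite E]
  [DistribMulAction G E]

/-- The affine action `g ↦ (e ↦ τ g + g • e)` of a linear group, without translations. -/
structure SemiData (τ : G → E) (A : Subgroup G) : Prop where
  torus : Torus A E
  cocycle : ∀ g h : G, τ (g * h) = τ g + g • τ h
  surj : ∀ e : E, ∃ g : G, τ g = e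
  faithful : ∀ g : G, (∀ e : E, g • e = e) → g = 1
  base : ∀ a ∈ A, τ a = 0
  norm : ∀ g : G, τ g = 0 → NormImage A E g

/-- An involution without a fixed point inverts `r` of odd prime order `p`; `r` fixes exactly the
points `0` and `c`, and the order of `E` is `2 ^ p`. -/
structure Pivot (τ : G → E) (p : ℕ) (r s : G) (c : E) : Prop where
  prime : p.Prime
  p_ne : p ≠ 2
  ord : orderOf r = p
  inv : orderOf s = 2
  conj : s * r * s = r⁻¹
  r_zero : τ r = 0
  r_fix : ∀ v : E, r • v = v ↔ v = 0 ∨ v = c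
  c_ne : c ≠ 0
  s_c : τ s = c
  card : Nat.card E = 2 ^ p
  pair : ∀ g : G, τ g = 0 → g • c = c → g ∈ zpowers r

/-- The points of the affine action. -/
def Pt (E : Type u) : Type u := E

instance (E : Type u) [Finite E] : Finite (Pt E) := ‹Finite E›

namespace SemiData

variable {τ : G → E} {A : Subgroup G} (h : SemiData τ A)
include h

theorem map_one : τ 1 = 0 := by
  have := h.cocycle 1 1
  rw [one_mul, one_smul, left_eq_add] at this
  exact this

theorem sub_self (v w : E) : v + (v + w) = w := by rw [← add_assoc, h.torus.two, zero_add]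

theorem eq_of_add_eq_zero {v w : E} (hvw : v + w = 0) : v = w := by
  rw [← add_zero v, ← h.torus.two w, ← add_assoc, hvw, zero_add]

theorem map_inv (g : G) : τ g⁻¹ = g⁻¹ • τ g := by
  have := h.cocycle g⁻¹ g
  rw [inv_mul_cancel, h.map_one] at this
  exact h.eq_of_add_eq_zero this.symm

/-- The image of the origin and of the vector `v`. -/
theorem conj_apply (γ g : G) (v : E) :
    τ γ + γ • (τ g + g • v) = τ (γ * g) + (γ * g) • v := by
  rw [h.cocycle, mul_smul, smul_add, add_assoc]

/-- The affine action. -/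
@[reducible] def pointAction : MulAction G (Pt E) where
  smul g e := (τ g + g • (show E from e) : E)
  one_smul e := by
    show τ 1 + (1 : G) • (show E from e) = (show E from e)
    rw [h.map_one, one_smul, zero_add]
  mul_smul g g' e := (h.conj_apply g g' (show E from e)).symm

/-- The stabiliser of the origin. -/
def stab : Subgroup G where
  carrier := {g | τ g = 0}
  one_mem' := h.map_one
  mul_mem' {a b} ha hb := by
    show τ (a * b) = 0
    rw [h.cocycle, (ha : τ a = 0), (hb : τ b = 0), smul_zero, add_zero]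
  inv_mem' {a} ha := by
    show τ a⁻¹ = 0
    rw [h.map_inv, (ha : τ a = 0), smul_zero]

theorem mem_stab {g : G} : g ∈ h.stab ↔ τ g = 0 := Iff.rfl

theorem card_eq : Nat.card G = Nat.card E * Nat.card h.stab := by
  letI := h.pointAction
  have hs : stabilizer G (show Pt E from (0 : E)) = h.stab := by
    refine SetLike.ext fun g => ?_
    show τ g + g • (0 : E) = 0 ↔ τ g = 0
    rw [smul_zero, add_zero]
  haveI hP : IsPretransitive G (Pt E) := by
    refine ⟨fun (v w : E) => ?_⟩
    obtain ⟨γ, hγ⟩ := h.surj v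
    obtain ⟨δ, hδ⟩ := h.surj w
    refine ⟨δ * γ⁻¹, ?_⟩
    show τ (δ * γ⁻¹) + (δ * γ⁻¹) • v = w
    rw [h.cocycle, h.map_inv, mul_smul, add_assoc, ← smul_add, hγ, h.torus.two, smul_zero,
      add_zero, hδ]
  rw [← hs, show Nat.card E = Nat.card (Pt E) from rfl,
    ← MulAction.index_stabilizer_of_transitive G (show Pt E from (0 : E)), mul_comm,
    Subgroup.card_mul_index]

theorem exists_card : ∃ L : ℕ, 2 ≤ L ∧ Nat.card E = 2 ^ L := by
  haveI : Fact (Nat.Prime 2) := ⟨Nat.prime_two⟩
  have hpg : IsPGroup 2 (Multiplicative E) := fun e => ⟨1, by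
    rw [pow_one, sq]; exact h.torus.two e.toAdd⟩
  obtain ⟨L, hL⟩ := IsPGroup.iff_card.mp hpg
  have hL' : Nat.card E = 2 ^ L := (Nat.card_congr Multiplicative.ofAdd).trans hL
  refine ⟨L, ?_, hL'⟩
  have := h.torus.four_le
  rw [hL'] at this
  by_contra hlt
  interval_cases L <;> simp at this

theorem sigma_cond : ∀ g ∈ h.stab, NormImage A E g := fun g hg => h.norm g hg

/-- An element of odd order fixing the origin and `c`, inverted by one fixing the origin. -/
theorem eq_one_of_inverted {r k : G} {c : E} (hr : τ r = 0) (hk : τ k = 0) (hc : c ≠ 0)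
    (hrc : r • c = c) (hodd : Odd (orderOf r)) (hinv : k * r * k⁻¹ = r⁻¹) : r = 1 := by
  let σ := h.torus.sigma h.sigma_cond
  set r' : h.stab := ⟨r, hr⟩
  set k' : h.stab := ⟨k, hk⟩
  have h1 : k' * r' * k'⁻¹ = r'⁻¹ := Subtype.ext hinv
  have h2 := congrArg σ h1
  rw [_root_.map_mul, _root_.map_mul, _root_.map_inv, _root_.map_inv,
    h.torus.sigma_comm h.sigma_cond k' r', mul_inv_cancel_right] at h2
  have h3 : σ r' ^ 2 = 1 := by rw [sq]; exact eq_inv_iff_mul_eq_one.mp h2
  obtain ⟨j, hj⟩ := hodd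
  have h4 : σ r' ^ (2 * j + 1) = 1 := by
    rw [← _root_.map_pow, show r' ^ (2 * j + 1) = 1 from Subtype.ext (by
      rw [SubgroupClass.coe_pow, ← hj]; exact pow_orderOf_eq_one r), _root_.map_one]
  rw [pow_succ, pow_mul, h3, one_pow, one_mul] at h4
  obtain ⟨a, ha, hae⟩ := h.torus.exists_of_sigma_eq_one h.sigma_cond h4
  refine h.faithful r fun e => (hae e).trans (h.torus.regular ha hc ?_ e)
  rw [← hae]; exact hrc

/-- An element fixing a point fixes the translates by its fixed vectors. -/
theorem fixes_add {g : G} {v e : E} (hv : τ g + g • v = v) (he : g • e = e) :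
    τ g + g • (v + e) = v + e := by rw [smul_add, he, ← add_assoc, hv]

/-- The origin moved to a fixed point. -/
theorem conj_stab {g γ : G} (hv : τ g + g • τ γ = τ γ) : τ (γ⁻¹ * g * γ) = 0 := by
  rw [mul_assoc, h.cocycle, h.cocycle, hv, h.map_inv, ← smul_add, h.torus.two, smul_zero]

/-- The elements commuting with `r` and fixing a fixed point are transitive on the others. -/
theorem exists_commute {r : G} {w x y : E} (hr : τ r + r • w = w) (hx : x ≠ 0) (hy : y ≠ 0)
    (hrx : r • x = x) (hry : r • y = y) :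
    ∃ g : G, Commute g r ∧ τ g + g • w = w ∧ g • x = y := by
  obtain ⟨γ, rfl⟩ := h.surj w
  set r' := γ⁻¹ * r * γ with hr'
  have hr'0 : τ r' = 0 := h.conj_stab hr
  set x' := γ⁻¹ • x with hx'
  set y' := γ⁻¹ • y with hy'
  have hfix : ∀ {z : E}, r • z = z → r' • γ⁻¹ • z = γ⁻¹ • z := fun {z} hz => by
    rw [hr', mul_smul, mul_smul, smul_inv_smul, hz]
  have hx'0 : x' ≠ 0 := (smul_ne_zero_iff_ne _).mpr hx
  obtain ⟨a, ha, hax⟩ := h.torus.trans x' y' hx'0 ((smul_ne_zero_iff_ne _).mpr hy)
  obtain ⟨b, hb, hab⟩ := h.norm r' hr'0 a ha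
  have hbx : b • x' = y' := by
    rw [← hab, show r'⁻¹ • x' = x' from inv_smul_eq_iff.mpr (hfix hrx).symm, hax, hfix hry]
  have hba : ∀ e : E, b • e = a • e := fun e => by
    have hreg := h.torus.regular (mul_mem (inv_mem ha) hb) hx'0
      (by rw [mul_smul, hbx, ← hax, inv_smul_smul]) e
    rw [mul_smul, inv_smul_eq_iff] at hreg
    exact hreg
  have hcomm : Commute a r' := by
    have hid : r' * a * r'⁻¹ * a⁻¹ = 1 := h.faithful _ fun e => by
      rw [mul_smul, mul_smul, mul_smul, hab, hba, smul_inv_smul]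
    exact ((mul_inv_eq_iff_eq_mul.mp (mul_inv_eq_one.mp hid))).symm
  refine ⟨γ * a * γ⁻¹, ?_, ?_, ?_⟩
  · have h1 := hcomm.map (MulAut.conj γ).toMonoidHom
    simp only [MulEquiv.coe_toMonoidHom, MulAut.conj_apply] at h1
    rwa [show γ * r' * γ⁻¹ = r by rw [hr']; group] at h1
  · rw [h.cocycle, h.cocycle, h.base a ha, smul_zero, add_zero, h.map_inv, mul_smul, mul_smul,
      mul_smul, add_assoc, h.torus.two, add_zero]
  · rw [mul_smul, mul_smul, ← hx', hax, hy', smul_inv_smul]

theorem eq_one_of_forall_fixed {s : G} (hs : ∀ e : E, τ s + s • e = e) : s = 1 := by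
  have h0 := hs 0
  rw [smul_zero, add_zero] at h0
  exact h.faithful s fun e => by have := hs e; rwa [h0, zero_add] at this

theorem two_normal_eq_bot {N : Subgroup G} [N.Normal] (hN : IsPGroup 2 N) : N = ⊥ := by
  haveI : Fact (Nat.Prime 2) := ⟨Nat.prime_two⟩
  obtain ⟨L, hL, hcard⟩ := h.exists_card
  obtain ⟨e, he, hne⟩ := hN.exists_fixed_point_of_prime_dvd_card_of_fixed_point E
    (by rw [hcard]; exact dvd_pow_self 2 (by omega)) (a := (0 : E)) (fun n => smul_zero _)
  have hfix : ∀ n ∈ N, ∀ x : E, n • x = x := by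
    intro n hn x
    by_cases hx : x = 0
    · rw [hx, smul_zero]
    obtain ⟨a, -, rfl⟩ := h.torus.trans e x (Ne.symm hne) hx
    have hn' : a⁻¹ * n * a ∈ N := by
      simpa using (inferInstance : N.Normal).conj_mem n hn a⁻¹
    have h1 : (a⁻¹ * n * a) • e = e := he ⟨_, hn'⟩
    rw [mul_smul, mul_smul, inv_smul_eq_iff] at h1
    exact h1
  exact (eq_bot_iff_forall _).mpr fun n hn => h.faithful n (hfix n hn)

/-- An involution without fixed points. -/
theorem exists_fpf_involution : ∃ s : G, orderOf s = 2 ∧ ∀ v : E, τ s + s • v ≠ v := by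
  haveI : Fact (Nat.Prime 2) := ⟨Nat.prime_two⟩
  obtain ⟨L, hL, hcard⟩ := h.exists_card
  letI := h.pointAction
  obtain ⟨P⟩ := Sylow.nonempty (p := 2) (G := G)
  set S := ((P : Subgroup G) ⊓ h.stab).subgroupOf P with hS
  obtain ⟨i, hi⟩ := IsPGroup.iff_card.mp P.isPGroup'
  have hdvd : Nat.card E * Nat.card ((P : Subgroup G) ⊓ h.stab : Subgroup G) ≤
      Nat.card (P : Subgroup G) := by
    obtain ⟨j, hj⟩ := IsPGroup.iff_card.mp (P.isPGroup'.to_le (inf_le_left :
      (P : Subgroup G) ⊓ h.stab ≤ (P : Subgroup G)))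
    have h1 : Nat.card E * Nat.card ((P : Subgroup G) ⊓ h.stab : Subgroup G) ∣ Nat.card G := by
      rw [h.card_eq]
      exact mul_dvd_mul_left _ (Subgroup.card_dvd_of_le inf_le_right)
    rw [hcard, hj, ← pow_add] at h1 ⊢
    exact Nat.le_of_dvd Nat.card_pos (P.pow_dvd_card_of_pow_dvd_card h1)
  have hidx : Nat.card S * S.index = Nat.card (P : Subgroup G) := S.card_mul_index
  have hSc : Nat.card S = Nat.card ((P : Subgroup G) ⊓ h.stab : Subgroup G) :=
    Nat.card_congr (Subgroup.subgroupOfEquivOfLe inf_le_left).toEquiv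
  have htr : ∀ v : E, ∃ g ∈ (P : Subgroup G), τ g = v := by
    let f : (P : Subgroup G) ⧸ S → E := Quotient.lift (fun g => τ (g : G)) fun a b hab => by
      have h1 : τ ((a : G)⁻¹ * b) = 0 := (QuotientGroup.leftRel_apply.mp hab).2
      have h2 := h.cocycle (a : G) ((a : G)⁻¹ * b)
      rw [h1, smul_zero, add_zero, mul_inv_cancel_left] at h2
      exact h2.symm
    have hinj : Function.Injective f := by
      intro a b hab
      induction a using QuotientGroup.induction_on with | _ a =>
      induction b using QuotientGroup.induction_on with | _ b =>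
      refine QuotientGroup.eq.mpr ⟨(P : Subgroup G).mul_mem ((P : Subgroup G).inv_mem a.2) b.2, ?_⟩
      show τ ((a : G)⁻¹ * b) = 0
      rw [h.cocycle, h.map_inv, ← smul_add, show τ (a : G) = τ (b : G) from hab, h.torus.two,
        smul_zero]
    have hsurj := (Nat.bijective_iff_injective_and_card f).mpr ⟨hinj, le_antisymm
      (Nat.card_le_card_of_injective f hinj) (by
        rw [← Subgroup.index]
        refine Nat.le_of_mul_le_mul_left ?_ (Nat.card_pos (α := S))
        rw [hidx, mul_comm, hSc]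
        exact hdvd)⟩
    intro v
    obtain ⟨q, hq⟩ := hsurj.2 v
    induction q using QuotientGroup.induction_on with | _ g => exact ⟨g, g.2, hq⟩
  haveI : Nontrivial (P : Subgroup G) := by
    obtain ⟨e, he⟩ := haveI := h.torus.nontrivial; exists_ne (0 : E)
    obtain ⟨g, hg, hge⟩ := htr e
    exact ⟨⟨g, hg⟩, 1, fun h1 => he (by rw [← hge, show g = 1 from congrArg Subtype.val h1]; exact h.map_one)⟩
  haveI := P.isPGroup'.center_nontrivial
  obtain ⟨j, hj⟩ := IsPGroup.iff_card.mp (P.isPGroup'.to_subgroup (center (P : Subgroup G)))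
  have hd : 2 ∣ Nat.card (center (P : Subgroup G)) := by
    rw [hj]
    rcases j with _ | j
    · rw [pow_zero] at hj
      exact absurd hj (Finite.one_lt_card (α := center (P : Subgroup G))).ne'
    · exact dvd_pow_self 2 (Nat.succ_ne_zero _)
  obtain ⟨z, hz⟩ := exists_prime_orderOf_dvd_card' 2 hd
  set s : G := (((z : (P : Subgroup G))) : G) with hs
  have hs2 : orderOf s = 2 := by rw [hs, Subgroup.orderOf_coe, Subgroup.orderOf_coe, hz]
  refine ⟨s, hs2, fun v hv => ?_⟩
  refine (orderOf_eq_one_iff (x := s)).not.mp (by rw [hs2]; decide) (h.eq_one_of_forall_fixed fun w => ?_)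
  obtain ⟨g, hg, hgv⟩ := htr v
  obtain ⟨g', hg', hgw⟩ := htr w
  have hc : (g' * g⁻¹) * s = s * (g' * g⁻¹) := congrArg Subtype.val
    (mem_center_iff.mp z.2 ⟨g' * g⁻¹, mul_mem hg' (inv_mem hg)⟩)
  have hw : τ (g' * g⁻¹) + (g' * g⁻¹) • v = w := by
    rw [h.cocycle, h.map_inv, mul_smul, add_assoc, ← smul_add, ← smul_add, hgv, h.torus.two,
      smul_zero, smul_zero, add_zero, hgw]
  rw [← hw, h.conj_apply, ← hc, ← h.conj_apply, hv]

/-- The pivot. -/
theorem exists_pivot : ∃ (p : ℕ) (r s : G) (c : E), Pivot τ p r s c := by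
  classical
  haveI : Fact (Nat.Prime 2) := ⟨Nat.prime_two⟩
  obtain ⟨L, hL, hcard⟩ := h.exists_card
  obtain ⟨s, hs, hsfree⟩ := h.exists_fpf_involution
  have hss : s * s = 1 := by
    have := pow_orderOf_eq_one s
    rwa [hs, sq] at this
  have hsinv : s⁻¹ = s := inv_eq_of_mul_eq_one_right hss
  obtain ⟨g, hg⟩ : ∃ g : G, ¬ IsPGroup 2 (closure ({s, g * s * g⁻¹} : Set G)) := by
    by_contra hcon
    push Not at hcon
    obtain ⟨N, hN, hN2, hsN⟩ := Thompson.baer_suzuki hcon
    haveI := hN
    rw [h.two_normal_eq_bot hN2, mem_bot] at hsN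
    rw [hsN, orderOf_one] at hs
    omega
  set t := g * s * g⁻¹ with ht
  have htt : t * t = 1 := by
    rw [ht, show g * s * g⁻¹ * (g * s * g⁻¹) = g * (s * s) * g⁻¹ by group, hss]; group
  set w := s * t with hw
  have hsw : s * w * s = w⁻¹ := by
    rw [hw, mul_inv_rev, inv_eq_of_mul_eq_one_right htt, hsinv, ← mul_assoc s s, hss, one_mul]
  obtain ⟨p, hp, hpw, hp2⟩ : ∃ p : ℕ, p.Prime ∧ p ∣ orderOf w ∧ p ≠ 2 := by
    by_contra hcon
    push Not at hcon
    refine hg ?_
    have hw2 : IsPGroup 2 (zpowers w) := by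
      refine IsPGroup.of_card (n := (orderOf w).primeFactorsList.length) ?_
      rw [Nat.card_zpowers]
      exact Nat.eq_prime_pow_of_unique_prime_dvd (orderOf_pos w).ne' fun {d} hd hdw => hcon d hd hdw
    have hs2' : IsPGroup 2 (zpowers s) :=
      IsPGroup.of_card (n := 1) (by rw [Nat.card_zpowers, hs]; rfl)
    have hnorm : zpowers s ≤ normalizer ((zpowers w : Subgroup G) : Set G) := by
      rw [zpowers_le]
      refine mem_normalizer_iff.mpr fun x => ?_
      have hconj : ∀ x, x ∈ zpowers w → s * x * s⁻¹ ∈ zpowers w := by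
        rintro x ⟨i, rfl⟩
        show s * w ^ i * s⁻¹ ∈ zpowers w
        rw [← conj_zpow, hsinv, hsw]
        exact zpow_mem (inv_mem (mem_zpowers w)) i
      refine ⟨hconj x, fun hx => ?_⟩
      have := hconj _ hx
      rwa [hsinv, show s * (s * x * s) * s = (s * s) * x * (s * s) by group, hss, one_mul,
        mul_one] at this
    refine (hs2'.to_sup_of_normal_right' hw2 hnorm).to_le ((closure_le _).mpr ?_)
    rintro x (rfl | rfl)
    · exact mem_sup_left (mem_zpowers _)
    · rw [SetLike.mem_coe, show t = s * w by rw [hw, ← mul_assoc, hss, one_mul]]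
      exact mul_mem (mem_sup_left (mem_zpowers _)) (mem_sup_right (mem_zpowers _))
  set r₀ := w ^ (orderOf w / p) with hr₀
  have hr₀o : orderOf r₀ = p := orderOf_pow_orderOf_div (orderOf_pos w).ne' hpw
  have hsr₀ : s * r₀ * s = r₀⁻¹ := by
    conv_lhs => rw [hr₀, ← hsinv]; rw [hsinv]
    have : s * w ^ (orderOf w / p) * s⁻¹ = (w ^ (orderOf w / p))⁻¹ := by
      rw [← conj_pow, hsinv, hsw, inv_pow]
    rwa [hsinv] at this
  haveI : Fact p.Prime := ⟨hp⟩
  obtain ⟨v, hv⟩ : ∃ v : E, τ r₀ + r₀ • v = v := by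
    letI := h.pointAction
    obtain ⟨v, hv⟩ := (IsPGroup.of_card (n := 1)
      (by rw [Nat.card_zpowers, hr₀o, pow_one]) : IsPGroup p (zpowers r₀)
      ).nonempty_fixed_point_of_prime_not_dvd_card (Pt E) (fun hd => hp2 (by
        rw [show Nat.card (Pt E) = Nat.card E from rfl, hcard] at hd
        exact (Nat.prime_dvd_prime_iff_eq hp Nat.prime_two).mp (hp.dvd_of_dvd_pow hd)))
    exact ⟨(show E from v), hv ⟨r₀, mem_zpowers r₀⟩⟩
  obtain ⟨γ, rfl⟩ := h.surj v
  set r := γ⁻¹ * r₀ * γ with hr
  set s' := γ⁻¹ * s * γ with hs'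
  have hr0 : τ r = 0 := h.conj_stab hv
  have hro : orderOf r = p := by
    rw [hr, ← hr₀o]; simpa using H39.orderOf_conj γ⁻¹ r₀
  have hr1 : r ≠ 1 := fun e => hp.ne_one (by rw [← hro, e, orderOf_one])
  have hs'o : orderOf s' = 2 := by
    rw [hs', ← hs]; simpa using H39.orderOf_conj γ⁻¹ s
  have hs's' : s' * s' = 1 := by
    rw [hs', show γ⁻¹ * s * γ * (γ⁻¹ * s * γ) = γ⁻¹ * (s * s) * γ by group, hss]; group
  have hsr : s' * r * s' = r⁻¹ := by
    rw [hr, hs', show γ⁻¹ * s * γ * (γ⁻¹ * r₀ * γ) * (γ⁻¹ * s * γ) = γ⁻¹ * (s * r₀ * s) * γ by group,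
      hsr₀]
    group
  clear_value r
  set c := τ s' with hc
  have hc0 : c ≠ 0 := by
    intro h0
    refine hsfree (τ γ) ?_
    have h1 : τ (γ * s') = τ γ := by rw [h.cocycle, ← hc, h0, smul_zero, add_zero]
    rw [hs', ← mul_assoc, ← mul_assoc, mul_inv_cancel, one_mul, h.cocycle] at h1
    exact h1
  clear_value s'
  have hrc : r • c = c := by
    have h1 : τ (r * s') = τ (s' * r⁻¹) := by
      rw [show s' * r⁻¹ = r * s' by rw [← hsr, ← mul_assoc, ← mul_assoc, hs's', one_mul]]
    rw [h.cocycle, h.cocycle, h.map_inv, hr0, smul_zero, smul_zero, zero_add, add_zero] at h1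
    exact h1
  -- only two fixed points
  have hfix : ∀ v : E, r • v = v ↔ v = 0 ∨ v = c := by
    refine fun v => ⟨fun hrv => ?_, ?_⟩
    · by_contra hcon
      rw [not_or] at hcon
      have hrv' : r • (v + c) = v + c := by rw [smul_add, hrv, hrc]
      obtain ⟨k, hkr, hkv, hk⟩ := h.exists_commute (r := r) (w := v) (x := v) (y := v + c)
        (by rw [hr0, zero_add]; exact hrv) hcon.1
        (fun h0 => hcon.2 (h.eq_of_add_eq_zero h0)) hrv hrv'
      have hkc : τ k = c := by
        rw [hk] at hkv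
        have : τ k + (v + c) + (v + c) = v + (v + c) := congrArg (· + (v + c)) hkv
        rw [add_assoc, h.torus.two, add_zero, h.sub_self] at this
        exact this
      have hk' : τ (k⁻¹ * s') = 0 := by
        rw [h.cocycle, h.map_inv, hkc, ← hc, h.torus.two]
      refine hr1 (h.eq_one_of_inverted hr0 hk' hc0 hrc (hro ▸ hp.odd_of_ne_two hp2) ?_)
      rw [mul_inv_rev, inv_inv, inv_eq_of_mul_eq_one_right hs's',
        show k⁻¹ * s' * r * (s' * k) = k⁻¹ * (s' * r * s') * k by group, hsr, mul_assoc,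
        hkr.inv_right.symm.eq, ← mul_assoc, inv_mul_cancel, one_mul]
    · rintro (rfl | rfl)
      · exact smul_zero _
      · exact hrc
  -- the field
  letI : Field (torusRing A E) := h.torus.ring_isField.toField
  haveI : Finite (AddMonoid.End E) :=
    Finite.of_injective (fun f => (f : E → E)) DFunLike.coe_injective
  let σ := h.torus.sigma h.sigma_cond
  have hinj : ∀ g : h.stab, (g : G) • c = c → σ g = 1 → g = 1 := by
    intro g hgc hg
    obtain ⟨a, ha, hae⟩ := h.torus.exists_of_sigma_eq_one h.sigma_cond hg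
    exact Subtype.ext (h.faithful _ fun e => (hae e).trans
      (h.torus.regular ha hc0 (by rw [← hae]; exact hgc) e))
  haveI : Finite (torusRing A E ≃+* torusRing A E) :=
    Finite.of_injective (fun f => (f : torusRing A E → torusRing A E)) DFunLike.coe_injective
  set S : Subgroup (torusRing A E ≃+* torusRing A E) := zpowers (σ ⟨r, hr0⟩) with hSdef
  have hScard : Nat.card S = p := by
    rw [hSdef, Nat.card_zpowers]
    refine orderOf_eq_prime ?_ fun h1 => hr1 (congrArg Subtype.val (hinj _ hrc h1))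
    rw [← _root_.map_pow, show (⟨r, hr0⟩ : h.stab) ^ p = 1 from Subtype.ext (by
      rw [SubgroupClass.coe_pow, ← hro]; exact pow_orderOf_eq_one r), _root_.map_one]
  haveI : Fintype S := Fintype.ofFinite _
  have hevd : ∀ φ : torusRing A E,
      (((σ ⟨r, hr0⟩ φ : torusRing A E)) : AddMonoid.End E) c = r • (φ : AddMonoid.End E) c := by
    intro φ
    have := h.torus.sigma_apply h.sigma_cond ⟨r, hr0⟩ φ c
    rwa [show ((⟨r, hr0⟩ : h.stab) : G) • c = c from hrc] at this
  have hF : Nat.card (FixedPoints.subfield S (torusRing A E)) = 2 := by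
    have hiff : ∀ φ : torusRing A E, φ ∈ FixedPoints.subfield S (torusRing A E) ↔
        (φ : AddMonoid.End E) c = 0 ∨ (φ : AddMonoid.End E) c = c := by
      intro φ
      rw [← hfix, ← hevd]
      constructor
      · intro hφ
        rw [show σ ⟨r, hr0⟩ φ = φ from hφ ⟨_, mem_zpowers _⟩]
      · intro hφ m
        have h1 : σ ⟨r, hr0⟩ ∈ stabilizer (torusRing A E ≃+* torusRing A E) φ :=
          (h.torus.eval_bijective hc0).1 hφ
        exact (zpowers_le.mpr h1) m.2
    have e : (FixedPoints.subfield S (torusRing A E)) ≃ ({0, c} : Set E) :=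
      (Equiv.ofBijective _ (h.torus.eval_bijective hc0)).subtypeEquiv fun φ => by
        simpa using hiff φ
    rw [Nat.card_congr e, Nat.card_coe_set_eq, Set.ncard_pair (Ne.symm hc0)]
  have hK : Nat.card (torusRing A E) = 2 ^ p := by
    rw [Module.natCard_eq_pow_finrank (K := FixedPoints.subfield S (torusRing A E)),
      FixedPoints.finrank_eq_card, hF, ← Nat.card_eq_fintype_card, hScard]
  have hEK : Nat.card E = 2 ^ p := by
    rw [← hK]; exact (Nat.card_congr (Equiv.ofBijective _ (h.torus.eval_bijective hc0))).symm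
  refine ⟨p, r, s', c, hp, hp2, hro, hs'o, hsr, hr0, hfix, hc0, rfl, hEK, fun g hg hgc => ?_⟩
  haveI : CharP (torusRing A E) 2 := ringChar.of_eq (CharP.ringChar_of_prime_eq_zero Nat.prime_two (by
    refine Subtype.ext (DFunLike.ext _ _ fun e => ?_)
    rw [Nat.cast_ofNat, ← one_add_one_eq_two]
    exact h.torus.two e))
  obtain ⟨k, hk, hk'⟩ := Coprime.HalfTrans.card_ringAut_le (torusRing A E) 2
  rw [hK] at hk
  have hkp : p = k := Nat.pow_right_injective le_rfl hk
  have hStop : S = ⊤ := eq_top_of_le_card _ (by rw [hScard, hkp]; exact hk')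
  obtain ⟨i, hi⟩ := mem_zpowers_iff.mp
    (show σ ⟨g, hg⟩ ∈ zpowers (σ ⟨r, hr0⟩) by rw [← hSdef, hStop]; exact mem_top _)
  have h1 := hinj (⟨g, hg⟩ * ((⟨r, hr0⟩ : h.stab) ^ i)⁻¹) (by
    have hri : r ^ (-i) • c = c :=
      (zpowers_le.mpr (show r ∈ stabilizer G c from hrc)) (mem_zpowers_iff.mpr ⟨-i, rfl⟩)
    push_cast
    rw [← zpow_neg, mul_smul, hri, hgc]) (by
    rw [_root_.map_mul, _root_.map_inv, _root_.map_zpow, hi, mul_inv_cancel])
  exact mem_zpowers_iff.mpr ⟨i, (mul_inv_eq_one.mp (congrArg Subtype.val h1)).symm⟩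

end SemiData

end Cfsg.Agent.H26.Asch
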