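import Cfsg.Agent.H26.Asch.SemiBase

/-!
The abstract half of P3: a faithful linear group acting affinely and transitively on the points of
an elementary abelian two-group `E`, with the stabiliser of the origin normalising the image of a
torus, exists only for `|E| = 8`.
-/

set_option autoImplicit false
set_option linter.style.haveILetI false
set_option linter.unusedSectionVars false

namespace Cfsg.Agent.H26.Asch

open Subgroup MulAction

universe u v

variable {G : Type v} [Group G] [Finite G] {E : Type u} [AddCommGroup E] [Finite E]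
  [DistribMulAction G E]

namespace SemiData

variable {τ : G → E} {A : Subgroup G} (h : SemiData τ A)
include h

/-- An element of prime order other than two fixes a point. -/
theorem exists_fixed_of_prime {g : G} {l : ℕ} (hl : l.Prime) (hl2 : l ≠ 2) (hg : orderOf g = l) :
    ∃ v : E, τ g + g • v = v := by
  haveI : Fact l.Prime := ⟨hl⟩
  obtain ⟨L, -, hcard⟩ := h.exists_card
  letI := h.pointAction
  obtain ⟨v, hv⟩ := (IsPGroup.of_card (n := 1) (by rw [Nat.card_zpowers, hg, pow_one]) :
    IsPGroup l (zpowers g)).nonempty_fixed_point_of_prime_not_dvd_card (Pt E) (fun hd => hl2 (by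
      rw [show Nat.card (Pt E) = Nat.card E from rfl, hcard] at hd
      exact (Nat.prime_dvd_prime_iff_eq hl Nat.prime_two).mp (hl.dvd_of_dvd_pow hd)))
  exact ⟨(show E from v), hv ⟨g, mem_zpowers g⟩⟩

/-- An element fixing two points is conjugate into the stabiliser of `0` and of a given vector. -/
theorem exists_conj_pair {g : G} {v w c : E} (hc : c ≠ 0) (hvw : v ≠ w) (hv : τ g + g • v = v)
    (hw : τ g + g • w = w) : ∃ γ : G, τ (γ⁻¹ * g * γ) = 0 ∧ (γ⁻¹ * g * γ) • c = c := by
  obtain ⟨δ, rfl⟩ := h.surj v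
  have hdiff : g • (τ δ + w) = τ δ + w := by
    have h1 := congrArg₂ (· + ·) hv hw
    simp only [add_add_add_comm, h.torus.two, zero_add, ← smul_add] at h1
    exact h1
  have hx : δ⁻¹ • (τ δ + w) ≠ 0 :=
    (smul_ne_zero_iff_ne _).mpr fun h0 => hvw (h.eq_of_add_eq_zero h0)
  obtain ⟨a, ha, hax⟩ := h.torus.trans c _ hc hx
  refine ⟨δ * a, ?_, ?_⟩
  · rw [show (δ * a)⁻¹ * g * (δ * a) = a⁻¹ * (δ⁻¹ * g * δ) * a by group, h.cocycle, h.cocycle,
      h.base _ (inv_mem ha), h.base a ha, h.conj_stab hv, smul_zero, smul_zero, add_zero, add_zero]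
  · rw [mul_smul, mul_smul, mul_smul, hax, mul_inv_rev, mul_smul, smul_inv_smul, hdiff,
      inv_smul_eq_iff, hax]

end SemiData

namespace Pivot

variable {τ : G → E} {A : Subgroup G} (h : SemiData τ A) {p : ℕ} {r s : G} {c : E}
  (hp : Pivot τ p r s c)
include h hp

theorem mul_self_s : s * s = 1 := by
  have := pow_orderOf_eq_one s
  rwa [hp.inv, sq] at this

theorem r_c : r • c = c := (hp.r_fix c).mpr (Or.inr rfl)

theorem s_smul_c : s • c = c := by
  have h1 := h.cocycle s s
  rw [hp.mul_self_s h, h.map_one, hp.s_c] at h1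
  exact (h.eq_of_add_eq_zero h1.symm).symm

theorem s_inv : s⁻¹ = s := inv_eq_of_mul_eq_one_right (hp.mul_self_s h)

theorem s_conj_zpow (j : ℤ) : s * r ^ j * s = (r ^ j)⁻¹ := by
  have h1 : s * r ^ j * s⁻¹ = (s * r * s⁻¹) ^ j := (conj_zpow).symm
  rw [hp.s_inv h, hp.conj, inv_zpow] at h1
  exact h1

theorem card_zpowers_r : Nat.card (zpowers r) = p := by rw [Nat.card_zpowers, hp.ord]

theorem odd_p : Odd p := hp.prime.odd_of_ne_two hp.p_ne

/-- The order of the stabiliser of the origin. -/
theorem card_stab : Nat.card h.stab = (Nat.card E - 1) * p := by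
  have horb : orbit h.stab c = {e : E | e ≠ 0} := by
    ext e
    constructor
    · rintro ⟨g, rfl⟩
      exact (smul_ne_zero_iff_ne (g : G)).mpr hp.c_ne
    · intro he
      obtain ⟨a, ha, hae⟩ := h.torus.trans c e hp.c_ne he
      exact ⟨⟨a, h.base a ha⟩, hae⟩
  have hst : Nat.card (stabilizer h.stab c) = p := by
    rw [← hp.card_zpowers_r h]
    refine Nat.card_congr
      { toFun := fun g => ⟨((g : h.stab) : G), hp.pair _ (g : h.stab).2 g.2⟩
        invFun := fun g => ⟨⟨(g : G), (zpowers_le.mpr (show r ∈ h.stab from hp.r_zero)) g.2⟩,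
          (zpowers_le.mpr (show r ∈ stabilizer G c from hp.r_c h)) g.2⟩
        left_inv := fun g => rfl
        right_inv := fun g => rfl }
  have hidx : (stabilizer h.stab c).index = Nat.card E - 1 := by
    rw [MulAction.index_stabilizer, horb]
    have h1 := Set.ncard_compl ({0} : Set E)
    rw [Set.ncard_singleton] at h1
    exact h1
  rw [← (stabilizer h.stab c).card_mul_index, hst, hidx, mul_comm]

theorem odd_stab : Odd (Nat.card h.stab) := by
  rw [hp.card_stab h, hp.card]
  refine Odd.mul ?_ (hp.odd_p h)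
  exact Nat.Even.sub_odd Nat.one_le_two_pow (Nat.even_pow.mpr ⟨even_two, hp.prime.ne_zero⟩) odd_one

theorem card_group : Nat.card G = Nat.card E * ((Nat.card E - 1) * p) := by
  rw [h.card_eq, hp.card_stab h]

/-- An element fixing a point has odd order. -/
theorem odd_of_fixed {g : G} {v : E} (hv : τ g + g • v = v) : Odd (orderOf g) := by
  obtain ⟨γ, rfl⟩ := h.surj v
  have h1 : orderOf (γ⁻¹ * g * γ) ∣ Nat.card h.stab :=
    (Subgroup.orderOf_coe (⟨_, h.conj_stab hv⟩ : h.stab)).symm ▸ orderOf_dvd_natCard _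
  have h2 : orderOf (γ⁻¹ * g * γ) = orderOf g := by simpa using H39.orderOf_conj γ⁻¹ g
  rw [h2] at h1
  exact (hp.odd_stab h).of_dvd_nat h1

theorem involution_ne_zero {i : G} (hi : orderOf i = 2) : τ i ≠ 0 := fun h0 => by
  have := hp.odd_of_fixed h (g := i) (v := 0) (by rw [h0, smul_zero, add_zero])
  rw [hi] at this
  exact (by decide : ¬ Odd 2) this

/-- The centraliser of `r` is generated by `r`. -/
theorem mem_zpowers_of_commute {g : G} (hg : Commute g r) : g ∈ zpowers r := by
  have hfix : r • τ g = τ g := by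
    have h1 := h.cocycle r g
    rw [← hg.eq, h.cocycle, hp.r_zero, smul_zero, add_zero, zero_add] at h1
    exact h1.symm
  have hrgc : r • g • c = g • c := by
    rw [← mul_smul, ← hg.eq, mul_smul, hp.r_c h]
  have hgc : g • c = c := ((hp.r_fix _).mp hrgc).resolve_left
    ((smul_ne_zero_iff_ne g).mpr hp.c_ne)
  rcases (hp.r_fix _).mp hfix with h0 | hc
  · exact hp.pair g h0 hgc
  exfalso
  have hk : τ (g⁻¹ * s) = 0 := by rw [h.cocycle, h.map_inv, hc, hp.s_c, h.torus.two]
  have hr1 := h.eq_one_of_inverted hp.r_zero hk hp.c_ne (hp.r_c h) (hp.ord ▸ hp.odd_p h) (by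
    rw [mul_inv_rev, inv_inv, hp.s_inv h,
      show g⁻¹ * s * r * (s * g) = g⁻¹ * (s * r * s) * g by group, hp.conj, mul_assoc,
      hg.inv_right.symm.eq, ← mul_assoc, inv_mul_cancel, one_mul])
  exact hp.prime.ne_one (by rw [← hp.ord, hr1, orderOf_one])

/-- The centralisers of involutions are two-groups. -/
theorem isPGroup_centralizer {i : G} (hi : orderOf i = 2) :
    IsPGroup 2 (centralizer ({i} : Set G)) := by
  refine IsPGroup.of_card (n := (Nat.card (centralizer ({i} : Set G))).primeFactorsList.length)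
    (Nat.eq_prime_pow_of_unique_prime_dvd Nat.card_pos.ne' fun {l} hl hdvd => ?_)
  by_contra hl2
  haveI : Fact l.Prime := ⟨hl⟩
  obtain ⟨⟨y, hy⟩, hyo⟩ := exists_prime_orderOf_dvd_card' l hdvd
  rw [← Subgroup.orderOf_coe] at hyo
  change orderOf y = l at hyo
  have hyc : y * i = i * y := mem_centralizer_singleton_iff.mp hy
  obtain ⟨v, hv⟩ := h.exists_fixed_of_prime hl hl2 hyo
  have hv' : τ y + y • (τ i + i • v) = τ i + i • v := by
    rw [h.conj_apply, hyc, ← h.conj_apply, hv]
  by_cases heq : τ i + i • v = v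
  · have := hp.odd_of_fixed h heq
    rw [hi] at this
    exact (by decide : ¬ Odd 2) this
  obtain ⟨γ, hγ0, hγc⟩ := h.exists_conj_pair hp.c_ne heq hv' hv
  have hmem := hp.pair _ hγ0 hγc
  set y' := γ⁻¹ * y * γ with hy'
  have hy'o : orderOf y' = l := by rw [hy', ← hyo]; simpa using H39.orderOf_conj γ⁻¹ y
  have hlp : l = p := by
    have h1 : orderOf (⟨y', hmem⟩ : zpowers r) ∣ p := (_root_.orderOf_dvd_natCard _).trans (hp.card_zpowers_r h).dvd
    rw [← Subgroup.orderOf_coe] at h1
    change orderOf y' ∣ p at h1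
    rw [hy'o] at h1
    exact (Nat.prime_dvd_prime_iff_eq hl hp.prime).mp h1
  have hgen : zpowers y' = zpowers r :=
    Subgroup.eq_of_le_of_card_ge (zpowers_le.mpr hmem)
      (by rw [Nat.card_zpowers, Nat.card_zpowers, hy'o, hp.ord, hlp])
  have hcomm : Commute (γ⁻¹ * i * γ) y' := by
    show γ⁻¹ * i * γ * y' = y' * (γ⁻¹ * i * γ)
    rw [hy', show γ⁻¹ * i * γ * (γ⁻¹ * y * γ) = γ⁻¹ * (i * y) * γ by group, ← hyc]
    group
  have hr : Commute (γ⁻¹ * i * γ) r := by
    obtain ⟨j, hj⟩ := mem_zpowers_iff.mp (hgen ▸ mem_zpowers r : r ∈ zpowers y')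
    rw [← hj]; exact hcomm.zpow_right j
  have h2 : orderOf (⟨_, hp.mem_zpowers_of_commute h hr⟩ : zpowers r) ∣ p :=
    (_root_.orderOf_dvd_natCard _).trans (hp.card_zpowers_r h).dvd
  rw [← Subgroup.orderOf_coe] at h2
  change orderOf (γ⁻¹ * i * γ) ∣ p at h2
  rw [show orderOf (γ⁻¹ * i * γ) = 2 by rw [← hi]; simpa using H39.orderOf_conj γ⁻¹ i] at h2
  exact hp.p_ne ((Nat.prime_dvd_prime_iff_eq Nat.prime_two hp.prime).mp h2).symm

omit hp in
theorem dvd_of_two_group {P : Subgroup G} (hP : IsPGroup 2 P) (hodd : Odd (Nat.card h.stab)) :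
    Nat.card P ∣ Nat.card E := by
  haveI : Fact (Nat.Prime 2) := ⟨Nat.prime_two⟩
  obtain ⟨j, hj⟩ := IsPGroup.iff_card.mp hP
  have h1 := Subgroup.card_subgroup_dvd_card P
  rw [h.card_eq] at h1
  exact ((hj ▸ (Nat.coprime_two_left.mpr hodd).pow_left j :
    (Nat.card P).Coprime (Nat.card h.stab))).dvd_of_dvd_mul_right h1

/-- There are at most `(q - 1) p` involutions. -/
theorem card_involutions_le :
    Nat.card {i : G // orderOf i = 2} ≤ (Nat.card E - 1) * p := by
  classical
  have hex : ∀ b : {e : E // e ≠ 0}, ∃ a ∈ A, a • c = b.1 := fun b => h.torus.trans c b.1 hp.c_ne b.2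
  choose a ha hac using hex
  have hmem : ∀ i : {i : G // orderOf i = 2},
      s * ((a ⟨τ i.1, hp.involution_ne_zero h i.2⟩)⁻¹ * i.1 * a ⟨τ i.1, hp.involution_ne_zero h i.2⟩)
        ∈ zpowers r := by
    rintro ⟨i, hi⟩
    set b : {e : E // e ≠ 0} := ⟨τ i, hp.involution_ne_zero h hi⟩
    set i' := (a b)⁻¹ * i * a b with hi'
    have hτ : τ i' = c := by
      rw [hi', h.cocycle, h.cocycle, h.base _ (inv_mem (ha b)), h.base _ (ha b), smul_zero, add_zero,
        zero_add, inv_smul_eq_iff]
      exact (hac b).symm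
    have hi'2 : i' * i' = 1 := by
      have := pow_orderOf_eq_one i'
      rwa [show orderOf i' = 2 by rw [hi', ← hi]; simpa using H39.orderOf_conj (a b)⁻¹ i, sq] at this
    have hic : i' • c = c := by
      have h1 := h.cocycle i' i'
      rw [hi'2, h.map_one, hτ] at h1
      exact (h.eq_of_add_eq_zero h1.symm).symm
    refine hp.pair _ ?_ (by rw [mul_smul, hic, hp.s_smul_c h])
    rw [h.cocycle, hp.s_c, hτ, hp.s_smul_c h, h.torus.two]
  let f : {i : G // orderOf i = 2} → {e : E // e ≠ 0} × zpowers r := fun i =>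
    (⟨τ i.1, hp.involution_ne_zero h i.2⟩, ⟨_, hmem i⟩)
  have hf : Function.Injective f := by
    intro i j hij
    have h1 := congrArg Prod.fst hij
    have h2 := congrArg (fun x : {e : E // e ≠ 0} × zpowers r => (x.2 : G)) hij
    simp only [f] at h1 h2
    rw [h1] at h2
    exact Subtype.ext (mul_left_cancel (mul_right_cancel (mul_left_cancel h2)))
  refine (Nat.card_le_card_of_injective f hf).trans_eq ?_
  rw [Nat.card_prod, hp.card_zpowers_r h]
  congr 1
  have h1 := Set.ncard_compl ({0} : Set E)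
  rw [Set.ncard_singleton, ← Nat.card_coe_set_eq] at h1
  exact h1

/-- The centraliser of an involution has order `q`, and there are `(q - 1) p` involutions. -/
theorem card_centralizer {i : G} (hi : orderOf i = 2) :
    Nat.card (centralizer ({i} : Set G)) = Nat.card E ∧
      Nat.card {j : G // orderOf j = 2} = (Nat.card E - 1) * p := by
  set C := centralizer ({i} : Set G) with hC
  let f : G ⧸ C → {j : G // orderOf j = 2} := Quotient.lift
    (fun g => ⟨g * i * g⁻¹, by rw [H39.orderOf_conj, hi]⟩) fun a b hab => Subtype.ext (by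
      have h1 : a⁻¹ * b * i = i * (a⁻¹ * b) :=
        mem_centralizer_singleton_iff.mp (QuotientGroup.leftRel_apply.mp hab)
      show a * i * a⁻¹ = b * i * b⁻¹
      calc a * i * a⁻¹ = a * (i * (a⁻¹ * b)) * b⁻¹ := by group
        _ = b * i * b⁻¹ := by rw [← h1]; group)
  have hf : Function.Injective f := by
    intro x y hxy
    induction x using QuotientGroup.induction_on with | _ a =>
    induction y using QuotientGroup.induction_on with | _ b =>
    refine QuotientGroup.eq.mpr (mem_centralizer_singleton_iff.mpr ?_)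
    have h1 : a * i * a⁻¹ = b * i * b⁻¹ := congrArg Subtype.val hxy
    calc a⁻¹ * b * i = a⁻¹ * (b * i * b⁻¹) * b := by group
      _ = i * (a⁻¹ * b) := by rw [← h1]; group
  have hidx : C.index ≤ Nat.card {j : G // orderOf j = 2} := Nat.card_le_card_of_injective f hf
  have hle := hp.card_involutions_le h
  have hC' : Nat.card C ≤ Nat.card E := Nat.le_of_dvd Nat.card_pos
    (dvd_of_two_group h (hp.isPGroup_centralizer h hi) (hp.odd_stab h))
  have hmul := C.card_mul_index
  rw [hp.card_group h] at hmul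
  have hpos : 0 < (Nat.card E - 1) * p := by
    have := h.torus.four_le
    exact Nat.mul_pos (by omega) hp.prime.pos
  have h1 : C.index = (Nat.card E - 1) * p := by
    refine le_antisymm (hidx.trans hle) (Nat.le_of_mul_le_mul_left ?_ (Nat.card_pos (α := E)))
    rw [← hmul]
    exact Nat.mul_le_mul_right _ hC'
  refine ⟨?_, le_antisymm hle (h1 ▸ hidx)⟩
  rw [h1] at hmul
  exact Nat.eq_of_mul_eq_mul_right hpos hmul

theorem card_two_group {P : Sylow 2 G} : Nat.card (P : Subgroup G) = Nat.card E := by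
  haveI : Fact (Nat.Prime 2) := ⟨Nat.prime_two⟩
  refine Nat.dvd_antisymm (dvd_of_two_group h P.isPGroup' (hp.odd_stab h)) ?_
  rw [hp.card]
  exact P.pow_dvd_card_of_pow_dvd_card (by rw [hp.card_group h, hp.card]; exact dvd_mul_right _ _)

/-- A subgroup of order `q` is regular on the points. -/
theorem regular {P : Subgroup G} (hP : Nat.card P = Nat.card E) :
    Function.Bijective fun g : P => τ (g : G) := by
  refine (Nat.bijective_iff_injective_and_card _).mpr ⟨fun a b hab => ?_, hP⟩
  set d : P := a⁻¹ * b with hd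
  have hd0 : τ (d : G) = 0 := by
    rw [hd, Subgroup.coe_mul, Subgroup.coe_inv, h.cocycle, h.map_inv, ← smul_add,
      show τ (a : G) = τ (b : G) from hab, h.torus.two, smul_zero]
  have hodd := hp.odd_of_fixed h (g := (d : G)) (v := 0) (by rw [hd0, smul_zero, add_zero])
  have hdvd : orderOf (d : G) ∣ 2 ^ p := by
    rw [Subgroup.orderOf_coe, ← hp.card, ← hP]; exact orderOf_dvd_natCard d
  have h1 : orderOf (d : G) = 1 :=
    Nat.Coprime.eq_one_of_dvd ((Nat.coprime_two_right.mpr hodd).pow_right p) hdvd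
  rw [orderOf_eq_one_iff] at h1
  exact inv_mul_eq_one.mp (Subtype.ext h1)

/-- A subgroup of order `q` is its own normaliser. -/
theorem normalizer_eq {P : Subgroup G} (hP : Nat.card P = Nat.card E) :
    normalizer (P : Set G) = P := by
  haveI : Fact (Nat.Prime 2) := ⟨Nat.prime_two⟩
  refine le_antisymm ?_ le_normalizer
  have hP2 : IsPGroup 2 P := IsPGroup.of_card (n := p) (by rw [hP, hp.card])
  by_cases hN : IsPGroup 2 (normalizer (P : Set G))
  · exact (Subgroup.eq_of_le_of_card_ge le_normalizer (by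
      rw [hP]; exact Nat.le_of_dvd Nat.card_pos (dvd_of_two_group h hN (hp.odd_stab h)))).ge
  exfalso
  obtain ⟨l, hl, hl2, hdvd⟩ : ∃ l : ℕ, l.Prime ∧ l ≠ 2 ∧ l ∣ Nat.card (normalizer (P : Set G)) := by
    by_contra hcon
    push Not at hcon
    exact hN (IsPGroup.of_card (Nat.eq_prime_pow_of_unique_prime_dvd Nat.card_pos.ne'
      fun {d} hd hdd => by_contra fun hd2 => hcon d hd hd2 hdd))
  haveI : Fact l.Prime := ⟨hl⟩
  obtain ⟨⟨y, hy⟩, hyo⟩ := exists_prime_orderOf_dvd_card' l hdvd
  rw [← Subgroup.orderOf_coe] at hyo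
  change orderOf y = l at hyo
  obtain ⟨v, hv⟩ := h.exists_fixed_of_prime hl hl2 hyo
  obtain ⟨⟨g, hg⟩, hgv⟩ := (hp.regular h hP).2 v
  change τ g = v at hgv
  subst hgv
  set y' := g⁻¹ * y * g with hy'
  have hy'P : y' ∈ normalizer (P : Set G) :=
    mul_mem (mul_mem (inv_mem (le_normalizer hg)) hy) (le_normalizer hg)
  have hy'0 : τ y' = 0 := h.conj_stab hv
  have hy'o : orderOf y' = l := by rw [hy', ← hyo]; simpa using H39.orderOf_conj g⁻¹ y
  clear_value y'
  by_cases hfix : ∃ x : E, x ≠ 0 ∧ y' • x = x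
  · obtain ⟨x, hx0, hxy⟩ := hfix
    obtain ⟨⟨k, hk⟩, hkx⟩ := (hp.regular h hP).2 x
    change τ k = x at hkx
    have hkk : y' * k * y'⁻¹ ∈ P := (mem_normalizer_iff.mp hy'P k).mp hk
    have hcomm : y' * k * y'⁻¹ = k := congrArg Subtype.val ((hp.regular h hP).1
      (a₁ := ⟨_, hkk⟩) (a₂ := ⟨k, hk⟩) (by
        show τ (y' * k * y'⁻¹) = τ k
        rw [h.cocycle, h.cocycle, h.map_inv, hy'0, smul_zero, smul_zero, add_zero, zero_add, hkx,
          hxy]))
    obtain ⟨j, hj⟩ := IsPGroup.iff_orderOf.mp hP2 ⟨k, hk⟩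
    rw [Subgroup.orderOf_mk] at hj
    rcases j with _ | j
    · rw [pow_zero, orderOf_eq_one_iff] at hj
      exact hx0 (by rw [← hkx, hj, h.map_one])
    have hi : orderOf (k ^ 2 ^ j) = 2 := by
      rw [orderOf_pow' k (by positivity), hj,
        Nat.gcd_eq_right (pow_dvd_pow 2 (Nat.le_succ j)), pow_succ,
        Nat.mul_div_cancel_left _ (by positivity)]
    have hmem : y' ∈ centralizer ({k ^ 2 ^ j} : Set G) :=
      mem_centralizer_singleton_iff.mpr
        ((show Commute y' k from mul_inv_eq_iff_eq_mul.mp hcomm).pow_right _).eq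
    obtain ⟨n, hn⟩ := IsPGroup.iff_orderOf.mp (hp.isPGroup_centralizer h hi) ⟨y', hmem⟩
    rw [Subgroup.orderOf_mk, hy'o] at hn
    exact hl2 ((Nat.prime_dvd_prime_iff_eq hl Nat.prime_two).mp
      (hl.dvd_of_dvd_pow (show l ∣ 2 ^ n from hn.dvd)))
  push Not at hfix
  let B : AddSubgroup E :=
    { carrier := {e | ∀ g ∈ P, g • e = e}
      zero_mem' := fun g _ => smul_zero g
      add_mem' := fun {a b} ha hb g hg => by rw [smul_add, ha g hg, hb g hg]
      neg_mem' := fun {a} ha g hg => by rw [smul_neg, ha g hg] }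
  have hBy : ∀ b ∈ B, y' • b ∈ B := by
    intro b hb g' hg'
    have hg'' : y'⁻¹ * g' * y' ∈ P := by
      simpa using (mem_normalizer_iff.mp (inv_mem hy'P) g').mp hg'
    have h1 := hb _ hg''
    rw [mul_smul, mul_smul, inv_smul_eq_iff] at h1
    exact h1
  obtain ⟨i, hip, hBc⟩ : ∃ i, i ≤ p ∧ Nat.card B = 2 ^ i :=
    (Nat.dvd_prime_pow Nat.prime_two).1 (hp.card ▸ B.card_addSubgroup_dvd_card)
  have hi0 : i ≠ 0 := by
    rintro rfl
    obtain ⟨e, he, hne⟩ := hP2.exists_fixed_point_of_prime_dvd_card_of_fixed_point E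
      (by rw [hp.card]; exact dvd_pow_self 2 hp.prime.ne_zero) (a := (0 : E)) (fun n => smul_zero _)
    have := AddSubgroup.eq_bot_of_card_eq B hBc
    exact hne (this ▸ (show e ∈ B from fun g hg => he ⟨g, hg⟩) : e ∈ (⊥ : AddSubgroup E)).symm
  have hip' : i < p := by
    refine lt_of_le_of_ne hip fun hip => ?_
    have htop := AddSubgroup.eq_top_of_card_eq B (by rw [hBc, hip, hp.card])
    obtain ⟨⟨k, hk⟩, hk1⟩ := (hp.regular h hP).2 c
    have hk' : k = 1 := h.faithful k fun e => (show e ∈ B by rw [htop]; exact AddSubgroup.mem_top e) k hk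
    exact hp.c_ne (by rw [← hk1, ← h.map_one]; exact congrArg τ hk')
  have hl1 : IsPGroup l (zpowers y') := IsPGroup.of_card (n := 1) (by
    rw [Nat.card_zpowers, hy'o, pow_one])
  have hzB : ∀ z : zpowers y', ∀ b ∈ B, (z : G) • b ∈ B := by
    rintro ⟨z, hz⟩
    obtain ⟨n, hn⟩ := (IsOfFinOrder.mem_powers_iff_mem_zpowers (isOfFinOrder_of_finite y')).mpr hz
    change y' ^ n = z at hn
    subst hn
    induction n with
    | zero =>
      intro b hb
      show y' ^ 0 • b ∈ B
      rwa [pow_zero, one_smul]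
    | succ n ih =>
      intro b hb
      show y' ^ (n + 1) • b ∈ B
      rw [pow_succ, mul_smul]
      exact ih (pow_mem (mem_zpowers y') n) _ (hBy b hb)
  letI : MulAction (zpowers y') B :=
    { smul := fun z b => ⟨(z : G) • (b : E), hzB z b b.2⟩
      one_smul := fun b => Subtype.ext (one_smul G (b : E))
      mul_smul := fun z z' b => Subtype.ext (mul_smul (z : G) (z' : G) (b : E)) }
  have hfE : fixedPoints (zpowers y') E = {0} := by
    ext e
    refine ⟨fun he => by_contra fun h0 => hfix e h0 (he ⟨y', mem_zpowers y'⟩), ?_⟩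
    rintro rfl z
    exact smul_zero (z : G)
  have hfB : fixedPoints (zpowers y') B = {0} := by
    ext e
    refine ⟨fun he => by_contra fun h0 => hfix (e : E) (fun h1 => h0 (Subtype.ext h1))
      (congrArg Subtype.val (he ⟨y', mem_zpowers y'⟩)), ?_⟩
    rintro rfl z
    exact Subtype.ext (smul_zero (z : G))
  have h1 := hl1.card_modEq_card_fixedPoints E
  have h2 := hl1.card_modEq_card_fixedPoints B
  rw [hfE, Nat.card_coe_set_eq, Set.ncard_singleton, hp.card] at h1
  rw [hfB, Nat.card_coe_set_eq, Set.ncard_singleton, hBc] at h2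
  have h3 := Nat.dvd_gcd ((Nat.modEq_iff_dvd' Nat.one_le_two_pow).mp h1.symm)
    ((Nat.modEq_iff_dvd' Nat.one_le_two_pow).mp h2.symm)
  rw [Nat.pow_sub_one_gcd_pow_sub_one,
    (hp.prime.coprime_iff_not_dvd.mpr (Nat.not_dvd_of_pos_of_lt (by omega) hip')).gcd_eq_one,
    pow_one] at h3
  exact hl.one_lt.ne' (Nat.dvd_one.mp h3)

/-- An involution is determined by its centraliser. -/
theorem eq_of_centralizer_eq {i j : G} (hi : orderOf i = 2) (hj : orderOf j = 2)
    (heq : centralizer ({i} : Set G) = centralizer ({j} : Set G)) : i = j := by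
  haveI : Fact (Nat.Prime 2) := ⟨Nat.prime_two⟩
  have hsyl : ∀ k : {k : G // orderOf k = 2}, ∃ P : Sylow 2 G,
      (P : Subgroup G) = centralizer ({k.1} : Set G) := by
    intro k
    obtain ⟨P, hP⟩ := (hp.isPGroup_centralizer h k.2).exists_le_sylow
    refine ⟨P, (Subgroup.eq_of_le_of_card_ge hP ?_).symm⟩
    rw [hp.card_two_group h, (hp.card_centralizer h k.2).1]
  choose Φ hΦ using hsyl
  have hsurj : Function.Surjective Φ := by
    intro P
    haveI : Nontrivial (P : Subgroup G) := Finite.one_lt_card_iff_nontrivial.mp (by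
      rw [hp.card_two_group h]
      exact Nat.lt_of_lt_of_le (by norm_num) h.torus.four_le)
    haveI := P.isPGroup'.center_nontrivial
    obtain ⟨m, hm⟩ := IsPGroup.iff_card.mp (P.isPGroup'.to_subgroup (center (P : Subgroup G)))
    have hd : 2 ∣ Nat.card (center (P : Subgroup G)) := by
      rw [hm]
      rcases m with _ | m
      · rw [pow_zero] at hm
        exact absurd hm (Finite.one_lt_card (α := center (P : Subgroup G))).ne'
      · exact dvd_pow_self 2 (Nat.succ_ne_zero _)
    obtain ⟨z, hz⟩ := exists_prime_orderOf_dvd_card' 2 hd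
    have hz2 : orderOf (((z : (P : Subgroup G))) : G) = 2 := by
      rw [Subgroup.orderOf_coe, Subgroup.orderOf_coe, hz]
    refine ⟨⟨_, hz2⟩, Sylow.ext ((hΦ _).trans (Subgroup.eq_of_le_of_card_ge ?_ ?_).symm)⟩
    · intro g hg
      exact mem_centralizer_singleton_iff.mpr
        (congrArg Subtype.val (mem_center_iff.mp z.2 ⟨g, hg⟩))
    · rw [hp.card_two_group h, (hp.card_centralizer h hz2).1]
  have hcard : Nat.card {k : G // orderOf k = 2} = Nat.card (Sylow 2 G) := by
    obtain ⟨P⟩ := Sylow.nonempty (p := 2) (G := G)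
    rw [(hp.card_centralizer h hi).2, P.card_eq_index_normalizer,
      show normalizer ((P : Sylow 2 G) : Set G) = (P : Subgroup G) from
        hp.normalizer_eq h (hp.card_two_group h)]
    have hmul := (P : Subgroup G).card_mul_index
    rw [hp.card_two_group h, hp.card_group h] at hmul
    exact (Nat.eq_of_mul_eq_mul_left Nat.card_pos hmul).symm
  have hinj := (hsurj.bijective_of_nat_card_le hcard.le).1
  exact congrArg Subtype.val (hinj (a₁ := ⟨i, hi⟩) (a₂ := ⟨j, hj⟩)
    (Sylow.ext ((hΦ ⟨i, hi⟩).trans (heq.trans (hΦ ⟨j, hj⟩).symm))))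

end Pivot

end Cfsg.Agent.H26.Asch
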