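import Cfsg.Agent.H26.Asch.TransElementary
import Cfsg.Agent.H3.Asch.RankModule
import Cfsg.Agent.S0205

/-!
Case II, the module step: `V = T / E` is elementary abelian with the alternating commutator map into `E`;
an element centralising `E` and normalising `T` fixes the class of the kernel, by the module count.
-/

set_option autoImplicit false
set_option linter.style.haveILetI false
set_option linter.unusedSectionVars false

namespace Cfsg.Agent.H26.Asch

open Subgroup
open Cfsg.Agent.H3.Asch (moveGroup)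
open Cfsg.Agent.H3.Asch.RankModule
open scoped commutatorElement

universe u

variable {G : Type u} [Group G]

theorem trans_module_small : ∀ {q r a : ℕ}, 8 ≤ q → 4 ≤ r → q - 1 ≤ a → q ^ 2 * r < r ^ a := by
  intro q r a hq hr ha
  have h1 : ∀ n, q = n + 8 → q ^ 2 < 4 ^ (n + 6) := by
    intro n hn
    subst hn
    clear hq ha
    induction n with
    | zero => norm_num
    | succ n ih =>
      calc (n + 1 + 8) ^ 2 ≤ (2 * (n + 8)) ^ 2 := Nat.pow_le_pow_left (by omega) 2
        _ = 4 * (n + 8) ^ 2 := by ring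
        _ < 4 * 4 ^ (n + 6) := by omega
        _ = 4 ^ (n + 1 + 6) := by ring
  obtain ⟨n, rfl⟩ : ∃ n, q = n + 8 := ⟨q - 8, by omega⟩
  calc (n + 8) ^ 2 * r < 4 ^ (n + 6) * r := Nat.mul_lt_mul_of_pos_right (h1 n rfl) (by omega)
    _ ≤ r ^ (n + 6) * r := Nat.mul_le_mul_right _ (Nat.pow_le_pow_left hr _)
    _ = r ^ (n + 7) := by ring
    _ ≤ r ^ a := Nat.pow_le_pow_right (by omega) (by omega)

namespace TransData

variable {u : G} {E Q A R : Subgroup G} {sc : G → G} (d : TransData u E Q A R sc)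
include d

/-- An involution of `T` commuting with an element of the kernel is in the kernel modulo `E`. -/
theorem mem_ER_of_commute {t k : G} (ht : t ∈ moveGroup u E) (ht2 : t * t = 1) (hk : k ∈ R)
    (hk1 : k ≠ 1) (hc : Commute t k) : ∃ e ∈ E, ∃ l ∈ R, t = e * l := by
  have h1 := d.conj_ker t ht k hk hk1
  rw [mul_inv_eq_iff_eq_mul.mpr hc.eq, left_eq_mul, conj_eq_one_iff] at h1
  obtain ⟨q, hq, l, hl, rfl⟩ := d.mem_M ht h1
  rw [d.sq_QR hq hl] at ht2
  refine ⟨q, ?_, l, hl, rfl⟩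
  simpa using d.inj q hq 1 (one_mem Q) (by rw [ht2, one_mul])

theorem commutator_ker {t k : G} (ht : t ∈ moveGroup u E) (hk : k ∈ R) (hk1 : k ≠ 1) :
    ⁅t, k⁆ = sc k * shift u t * (sc k)⁻¹ := by
  have hX := d.E_le (d.sc_conj_mem hk hk1 (d.shift_mem ht))
  rw [commutatorElement_def, d.conj_ker t ht k hk hk1, d.R_inv hk, ← (d.R_Q k hk _ hX).eq,
    mul_assoc, d.R_sq k hk, mul_one]

theorem A_commute {g h : G} (hg : g ∈ A) (hh : h ∈ A) : Commute g h :=
  PGroups.comm_of_isMulCommutative (haveI := d.A_cyclic; IsCyclic.isMulCommutative) hg hh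

/-- An element of the torus centralising `E` is trivial. -/
theorem A_eq_one {g : G} (hg : g ∈ A) (h : ∀ e ∈ E, Commute g e) : g = 1 := by
  obtain ⟨q, hq, k, hk, e⟩ := d.cent_u g h (d.R_A u d.u_mem g hg)
  have h1 : g * g = q * q := by rw [e, d.sq_QR hq hk]
  have h4 : g ^ 4 = 1 := by
    rw [show (4 : ℕ) = 2 * 2 from rfl, pow_mul, pow_two, pow_two, h1, d.E_sq _ (d.sq_mem q hq)]
  have hd : orderOf g ∣ 2 ^ 2 := orderOf_dvd_of_pow_eq_one (by simpa using h4)
  have ho : Odd (orderOf g) := d.A_odd.of_dvd_nat (Subgroup.orderOf_dvd_natCard _ hg)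
  exact orderOf_eq_one_iff.mp (Nat.eq_one_of_dvd_coprimes
    ((Nat.coprime_two_left.mpr ho).pow_left 2) hd dvd_rfl)

theorem A_fpf {g a : G} (hg : g ∈ A) (ha : a ∈ E) (ha1 : a ≠ 1) (h : g * a * g⁻¹ = a) :
    ∀ e ∈ E, Commute g e := by
  intro b hb
  by_cases hb1 : b = 1
  · rw [hb1]; exact Commute.one_right g
  obtain ⟨m, hm, rfl⟩ := d.A_trans a ha b hb ha1 hb1
  have h1 := H14.Asch.commute_conj (mul_inv_eq_iff_eq_mul.mp h : Commute g a) m
  rwa [mul_inv_eq_iff_eq_mul.mpr (d.A_commute hm hg).eq] at h1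

theorem card_A_ge [Finite G] : Nat.card E - 1 ≤ Nat.card A := by
  classical
  obtain ⟨a, ha, ha1⟩ : ∃ a ∈ E, a ≠ 1 := by
    refine (Subgroup.bot_or_exists_ne_one E).resolve_left fun e => ?_
    have h8 := d.eight_le
    rw [e, card_bot] at h8
    omega
  have hs : Nat.card {b : E // b ≠ 1} = Nat.card E - 1 := by
    show Nat.card ↥({1}ᶜ : Set E) = _
    rw [Nat.card_coe_set_eq, Set.ncard_compl, Set.ncard_singleton]
  choose k hk hka using fun b : {b : E // b ≠ 1} =>
    d.A_trans a ha b.1 b.1.2 ha1 (fun e => b.2 (Subtype.ext e))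
  rw [← hs]
  refine Nat.card_le_card_of_injective (fun b => (⟨k b, hk b⟩ : A)) fun b b' e => ?_
  refine Subtype.ext (Subtype.ext ?_)
  have e1 : k b = k b' := congrArg Subtype.val e
  rw [← hka b, ← hka b', e1]

/-- **The module step.** -/
theorem conj_mem_RE [Finite G] (hz : HasInvol u E)
    (hSyl : ∀ P : Subgroup G, IsPGroup 2 P → moveGroup u E ≤ P → P ≤ centralizer (E : Set G) →
      P = moveGroup u E)
    {g : G} (hgE : ∀ e ∈ E, Commute g e)
    (hgT : g ∈ normalizer ((moveGroup u E : Subgroup G) : Set G)) :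
    ∃ k ∈ R, ∃ e ∈ E, g * u * g⁻¹ = k * e := by
  classical
  haveI : Fact (Nat.Prime 2) := ⟨Nat.prime_two⟩
  set T := moveGroup u E with hT
  set E' : Subgroup T := E.subgroupOf T with hE'
  haveI : E'.Normal := ⟨fun e he t => by
    rw [hE', mem_subgroupOf] at he ⊢
    simpa [Subgroup.coe_mul, Subgroup.coe_inv, mul_inv_eq_iff_eq_mul.mpr (d.commute_E t.2 he).eq] using he⟩
  letI : CommGroup (T ⧸ E') :=
    { (inferInstance : Group (T ⧸ E')) with
      mul_comm := fun a b => by
        refine QuotientGroup.induction_on a fun t => QuotientGroup.induction_on b fun s => ?_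
        rw [← QuotientGroup.mk_mul, ← QuotientGroup.mk_mul, QuotientGroup.eq, hE', mem_subgroupOf]
        have := d.commutator_mem hz (inv_mem s.2) (inv_mem t.2)
        simpa [commutatorElement_def, mul_assoc] using this }
  letI : CommGroup E :=
    { (inferInstance : Group E) with mul_comm := fun a b => Subtype.ext (d.E_comm a.2 b.2).eq }
  have hmulR : ∀ {t s s' : G}, t ∈ T → s ∈ T → s' ∈ T → ⁅t, s * s'⁆ = ⁅t, s⁆ * ⁅t, s'⁆ := by
    intro t s s' ht hs hs'
    have h1 := d.commutator_mem hz ht hs'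
    rw [show ⁅t, s * s'⁆ = ⁅t, s⁆ * (s * ⁅t, s'⁆ * s⁻¹) by simp only [commutatorElement_def]; group,
      mul_inv_eq_iff_eq_mul.mpr (d.commute_E hs h1).eq]
  have hswap : ∀ {t s : G}, t ∈ T → s ∈ T → ⁅s, t⁆ = ⁅t, s⁆ := fun {t s} ht hs => by
    rw [← commutatorElement_inv, d.E_inv (d.commutator_mem hz ht hs)]
  have hkill : ∀ {t e : G}, t ∈ T → e ∈ E → ⁅t, e⁆ = 1 := fun ht he =>
    commutatorElement_eq_one_iff_commute.mpr (d.commute_E ht he)
  let β₁ : T → (T ⧸ E' →* E) := fun t => QuotientGroup.lift E'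
    (MonoidHom.mk' (fun s : T => (⟨⁅(t : G), s⁆, d.commutator_mem hz t.2 s.2⟩ : E))
      fun s s' => Subtype.ext (hmulR t.2 s.2 s'.2))
    fun e he => Subtype.ext (hkill t.2 (mem_subgroupOf.mp he))
  let β : T ⧸ E' →* T ⧸ E' →* E := QuotientGroup.lift E'
    (MonoidHom.mk' β₁ fun t t' => MonoidHom.ext fun v => QuotientGroup.induction_on v fun s => by
      refine Subtype.ext ?_
      show ⁅((t * t' : T) : G), (s : G)⁆ = ⁅(t : G), (s : G)⁆ * ⁅(t' : G), (s : G)⁆
      rw [hswap s.2 (t * t').2, hswap s.2 t.2, hswap s.2 t'.2, Subgroup.coe_mul, hmulR s.2 t.2 t'.2])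
    fun e he => MonoidHom.ext fun v => QuotientGroup.induction_on v fun s => by
      refine Subtype.ext ?_
      show ⁅(e : G), (s : G)⁆ = 1
      rw [hswap s.2 e.2, hkill s.2 (mem_subgroupOf.mp he)]
  have hβ : ∀ t s : T, ((β t s : E) : G) = ⁅(t : G), (s : G)⁆ := fun _ _ => rfl
  -- the acting group
  have hNE : centralizer (E : Set G) ≤ normalizer (E : Set G) := fun n hn => by
    refine Subgroup.mem_normalizer_iff.mpr fun h => ?_
    have hc : ∀ e ∈ E, n * e * n⁻¹ = e := fun e he =>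
      mul_inv_eq_iff_eq_mul.mpr (mem_centralizer_iff.mp hn e he).symm
    refine ⟨fun hh => by rw [hc h hh]; exact hh, fun hh => ?_⟩
    have h1 := hc _ hh
    have h2 : n * h * n⁻¹ = h := mul_left_cancel (mul_right_cancel h1)
    rwa [h2] at hh
  set N₀ : Subgroup G := normalizer (T : Set G) ⊓ normalizer (E : Set G) with hN₀
  set N : Subgroup G := centralizer (E : Set G) ⊓ normalizer (T : Set G) with hN
  have hN0 : N ≤ N₀ := fun n hn => ⟨hn.2, hNE hn.1⟩
  have hA0 : A ≤ N₀ := fun a ha => by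
    refine ⟨Subgroup.mem_normalizer_iff.mpr fun t => ⟨fun ht => (d.conj_A ha ht).1, fun ht => ?_⟩,
      Subgroup.mem_normalizer_iff.mpr fun t => ⟨fun ht => d.A_E a ha t ht, fun ht => ?_⟩⟩
    · have := (d.conj_A (inv_mem ha) ht).1; simpa [mul_assoc] using this
    · have := d.A_E _ (inv_mem ha) _ ht; simpa [mul_assoc] using this
  let cT : N₀ →* MulAut T := (normalizerMonoidHom T).comp (Subgroup.inclusion inf_le_left)
  have hcT : ∀ n : N₀, E'.map (cT n).toMonoidHom = E' := fun n => by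
    ext t
    rw [Subgroup.mem_map_equiv, hE', mem_subgroupOf, mem_subgroupOf]
    show (n : G)⁻¹ * t * (n : G)⁻¹⁻¹ ∈ E ↔ (t : G) ∈ E
    exact ((Subgroup.mem_normalizer_iff.mp (inv_mem n.2.2)) t).symm
  let φ : N₀ →* MulAut (T ⧸ E') := MonoidHom.mk' (fun n => QuotientGroup.congr E' E' (cT n) (hcT n))
    fun n m => MulEquiv.ext fun v => QuotientGroup.induction_on v fun t => by
      show QuotientGroup.mk (cT (n * m) t) = QuotientGroup.mk (cT n (cT m t))
      rw [map_mul]; rfl
  have hφ : ∀ (n : N₀) (t : T), φ n t = ((cT n t : T) : T ⧸ E') := fun _ _ => rfl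
  have hcTv : ∀ (n : N₀) (t : T), ((cT n t : T) : G) = n * t * (n : G)⁻¹ := fun _ _ => rfl
  have hAE : A ≤ normalizer (E : Set G) := fun a ha => (hA0 ha).2
  let ψ : A →* MulAut E := (normalizerMonoidHom E).comp (Subgroup.inclusion hAE)
  have hψ : ∀ (a : A) (e : E), ((ψ a e : E) : G) = a * e * (a : G)⁻¹ := fun _ _ => rfl
  let φA : A →* MulAut (T ⧸ E') := φ.comp (Subgroup.inclusion hA0)
  let φN : N →* MulAut (T ⧸ E') := φ.comp (Subgroup.inclusion hN0)
  let f : R →* T ⧸ E' := (QuotientGroup.mk' E').comp (Subgroup.inclusion d.R_le)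
  have hfinj : Function.Injective f := (injective_iff_map_eq_one f).mpr fun k hk => by
    have h1 := (QuotientGroup.eq_one_iff _).mp hk
    rw [hE', mem_subgroupOf] at h1
    exact Subtype.ext (d.R_inf k k.2 (d.E_le h1))
  have hmemC : ∀ t : T, (t : T ⧸ E') ∈ f.range ↔ ∃ e ∈ E, ∃ k ∈ R, (t : G) = e * k := by
    intro t
    constructor
    · rintro ⟨k, hk⟩
      have h1 : (QuotientGroup.mk (Subgroup.inclusion d.R_le k) : T ⧸ E') = t := hk
      rw [QuotientGroup.eq, hE', mem_subgroupOf] at h1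
      refine ⟨_, h1, k, k.2, ?_⟩
      rw [← (d.R_Q k k.2 _ (d.E_le h1)).symm.eq]
      simp [Subgroup.coe_inclusion]
    · rintro ⟨e, he, k, hk, hek⟩
      refine ⟨⟨k, hk⟩, ?_⟩
      show (QuotientGroup.mk (Subgroup.inclusion d.R_le ⟨k, hk⟩) : T ⧸ E') = t
      rw [QuotientGroup.eq, hE', mem_subgroupOf]
      simp only [Subgroup.coe_mul, Subgroup.coe_inv, Subgroup.coe_inclusion, hek]
      rw [(d.R_Q k hk e (d.E_le he)).eq, ← mul_assoc, inv_mul_cancel, one_mul]
      exact he
  -- a conjugate of a kernel element in the kernel class carries the whole class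
  have hclass : ∀ n : N, ∀ l ∈ R, l ≠ 1 → (∃ e ∈ E, ∃ k ∈ R, (n : G) * l * (n : G)⁻¹ = e * k) →
      f.range.map (φN n).toMonoidHom = f.range := by
    rintro n l hl hl1 ⟨e, he, k, hk, hnl⟩
    have hk1 : k ≠ 1 := fun e1 => hl1 (d.R_inf l hl (d.E_le (by
      rw [e1, mul_one] at hnl
      have : l = e := by
        calc l = (n : G)⁻¹ * ((n : G) * l * (n : G)⁻¹) * n := by group
          _ = e := by
            rw [hnl, mul_assoc, (mem_centralizer_iff.mp n.2.1 e he), inv_mul_cancel_left]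
      rw [this]; exact he)))
    refine Subgroup.eq_of_le_of_card_ge ?_ (Subgroup.card_map_of_injective (φN n).injective).ge
    rintro _ ⟨_, ⟨⟨m, hm⟩, rfl⟩, rfl⟩
    show ((cT (Subgroup.inclusion hN0 n) (Subgroup.inclusion d.R_le ⟨m, hm⟩) : T) : T ⧸ E') ∈ f.range
    set t : T := cT (Subgroup.inclusion hN0 n) (Subgroup.inclusion d.R_le ⟨m, hm⟩) with ht
    have htv : (t : G) = (n : G) * m * (n : G)⁻¹ := rfl
    have hcm : Commute (t : G) (e * k) := by
      rw [htv, ← hnl]; exact H14.Asch.commute_conj (d.R_comm hm hl) n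
    have hck : Commute (t : G) k := by
      simpa using (d.commute_E t.2 (inv_mem he)).mul_right hcm
    obtain ⟨e', he', k', hk', hek⟩ := d.mem_ER_of_commute t.2
      (by rw [htv, show (n : G) * m * (n : G)⁻¹ * ((n : G) * m * (n : G)⁻¹) =
        (n : G) * (m * m) * (n : G)⁻¹ by group, d.R_sq m hm]; group) hk hk1 hck
    exact (hmemC t).mpr ⟨e', he', k', hk', hek⟩
  obtain ⟨a₀, ha₀, ha₀1⟩ : ∃ a ∈ E, a ≠ 1 := by
    refine (Subgroup.bot_or_exists_ne_one E).resolve_left fun e => ?_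
    have h8 := d.eight_le
    rw [e, card_bot] at h8
    omega
  have hodd : Odd (Nat.card φN.range) := by
    rw [← Nat.not_even_iff_odd, even_iff_two_dvd]
    intro h2
    obtain ⟨⟨o, n, rfl⟩, ho⟩ := exists_prime_orderOf_dvd_card' 2 h2
    rw [← Subgroup.orderOf_coe] at ho
    obtain ⟨j, m, hm, hjm⟩ : ∃ j m, ¬ 2 ∣ m ∧ orderOf n = 2 ^ j * m :=
      Nat.exists_eq_pow_mul_and_not_dvd (orderOf_pos n).ne' 2 (by norm_num)
    have hP : IsPGroup 2 (Subgroup.zpowers ((n ^ m : N) : G)) := by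
      refine IsPGroup.of_card (n := j) ?_
      rw [Nat.card_zpowers, Subgroup.orderOf_coe, orderOf_pow_of_dvd (by rintro rfl; simp at hm)
        (hjm ▸ dvd_mul_left m _), hjm, Nat.mul_div_cancel _ (Nat.pos_of_ne_zero (by rintro rfl; simp at hm))]
    have hle : Subgroup.zpowers ((n ^ m : N) : G) ≤ normalizer (T : Set G) :=
      zpowers_le.mpr (n ^ m).2.2
    have hTc : T ≤ centralizer (E : Set G) := fun t ht =>
      mem_centralizer_iff.mpr fun e he => (d.commute_E ht he).symm.eq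
    have hPT := hSyl _ (hP.to_sup_of_normal_right' d.trans_two hle) le_sup_right
      (sup_le (zpowers_le.mpr (n ^ m).2.1) hTc)
    have hnmT : ((n ^ m : N) : G) ∈ T := hPT ▸ mem_sup_left (mem_zpowers _)
    have h1 : φN (n ^ m) = 1 := MulEquiv.ext fun v => QuotientGroup.induction_on v fun t => by
      show ((cT (Subgroup.inclusion hN0 (n ^ m)) t : T) : T ⧸ E') = t
      rw [show cT (Subgroup.inclusion hN0 (n ^ m)) t = ⟨_, hnmT⟩ * t * (⟨_, hnmT⟩ : T)⁻¹ from Subtype.ext rfl,
        QuotientGroup.mk_mul, QuotientGroup.mk_mul, mul_comm (QuotientGroup.mk _ : T ⧸ E'), mul_assoc,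
        QuotientGroup.mk_inv, mul_inv_cancel, mul_one]
    rw [map_pow] at h1
    have h3 := orderOf_dvd_of_pow_eq_one h1
    rw [ho] at h3
    exact hm h3
  have D : ClassData β f.range φA.range φN.range ψ.range :=
    { alt := fun v => QuotientGroup.induction_on v fun t => Subtype.ext (by
        rw [hβ]; exact commutatorElement_self _)
      sym := fun v w => QuotientGroup.induction_on v fun t => QuotientGroup.induction_on w fun s =>
        Subtype.ext (by rw [hβ, hβ]; exact hswap t.2 s.2)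
      ne_bot := fun e => by
        have h1 : f ⟨u, d.u_mem⟩ ∈ f.range := ⟨_, rfl⟩
        rw [e, Subgroup.mem_bot] at h1
        exact d.u_ne_one (congrArg Subtype.val (hfinj (h1.trans (map_one f).symm)))
      cross := by
        rintro _ ⟨n, rfl⟩ hne _ ⟨⟨k, hk⟩, rfl⟩ hc1 _ ⟨_, ⟨⟨l, hl⟩, rfl⟩, rfl⟩ hd1 h1
        have hk1 : k ≠ 1 := fun e => hc1 (by
          rw [show (⟨k, hk⟩ : R) = 1 from Subtype.ext e, map_one])
        have hl1 : l ≠ 1 := fun e => hd1 (by
          rw [show (⟨l, hl⟩ : R) = 1 from Subtype.ext e, map_one, map_one])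
        set t : T := cT (Subgroup.inclusion hN0 n) (Subgroup.inclusion d.R_le ⟨l, hl⟩) with ht
        have h2 : ⁅k, (t : G)⁆ = 1 := by
          have := congrArg Subtype.val h1
          rwa [show f ⟨k, hk⟩ = ((Subgroup.inclusion d.R_le ⟨k, hk⟩ : T) : T ⧸ E') from rfl] at this
        refine hne (hclass n l hl hl1 ?_)
        exact d.mem_ER_of_commute t.2 (by
          show (n : G) * l * (n : G)⁻¹ * ((n : G) * l * (n : G)⁻¹) = 1
          rw [show (n : G) * l * (n : G)⁻¹ * ((n : G) * l * (n : G)⁻¹) =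
            (n : G) * (l * l) * (n : G)⁻¹ by group, d.R_sq l hl]; group)
          hk hk1 (commutatorElement_eq_one_iff_commute.mp h2).symm
      isometry := by
        rintro _ ⟨n, rfl⟩ v w
        refine QuotientGroup.induction_on v fun t => QuotientGroup.induction_on w fun s => Subtype.ext ?_
        show ⁅(n : G) * t * (n : G)⁻¹, (n : G) * s * (n : G)⁻¹⁆ = ⁅(t : G), (s : G)⁆
        rw [show ⁅(n : G) * t * (n : G)⁻¹, (n : G) * s * (n : G)⁻¹⁆ = (n : G) * ⁅(t : G), (s : G)⁆ * (n : G)⁻¹ by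
          simp only [commutatorElement_def]; group]
        exact mul_inv_eq_iff_eq_mul.mpr (mem_centralizer_iff.mp n.2.1 _ (d.commutator_mem hz t.2 s.2)).symm
      scalar := by
        rintro _ ⟨n, rfl⟩ hfix
        have hu' : ((cT (Subgroup.inclusion hN0 n) (Subgroup.inclusion d.R_le ⟨u, d.u_mem⟩) : T) : T ⧸ E') ∈
            f.range := by
          have := mem_map_of_mem (φN n).toMonoidHom (show f ⟨u, d.u_mem⟩ ∈ f.range from ⟨_, rfl⟩)
          rw [hfix] at this
          exact this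
        obtain ⟨e, he, k, hk, hnu⟩ := (hmemC _).mp hu'
        have hnu' : (n : G) * u * (n : G)⁻¹ = k * e := hnu.trans (d.R_Q k hk e (d.E_le he)).eq
        have hnE : ∀ a ∈ E, Commute (n : G) a := fun a ha => (mem_centralizer_iff.mp n.2.1 a ha).symm
        have hk1 : k ≠ 1 := fun e1 => d.u_ne_one (d.R_inf u d.u_mem (d.E_le (by
          rw [e1, one_mul] at hnu'
          have : u = e := by
            calc u = (n : G)⁻¹ * ((n : G) * u * (n : G)⁻¹) * n := by group
              _ = e := by rw [hnu', mul_assoc, ← (hnE e he).eq, inv_mul_cancel_left]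
          rw [this]; exact he)))
        refine ⟨ψ ⟨sc k, d.sc_mem k hk hk1⟩, ⟨_, rfl⟩, ?_⟩
        rintro _ ⟨⟨l, hl⟩, rfl⟩
        refine ⟨?_, fun v => ?_⟩
        · have := mem_map_of_mem (φN n).toMonoidHom (show f ⟨l, hl⟩ ∈ f.range from ⟨_, rfl⟩)
          rw [hfix] at this
          exact this
        by_cases hl1 : l = 1
        · rw [show (⟨l, hl⟩ : R) = 1 from Subtype.ext hl1]
          simp
        refine QuotientGroup.induction_on v fun s => Subtype.ext ?_
        obtain ⟨l', hl', hl'1, hll, hsc⟩ := d.stab n hnE k hk e he hnu' l hl hl1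
        show ⁅(n : G) * l * (n : G)⁻¹, (s : G)⁆ = sc k * ⁅l, (s : G)⁆ * (sc k)⁻¹
        set e' := l' * ((n : G) * l * (n : G)⁻¹) with he'
        have hnl : (n : G) * l * (n : G)⁻¹ = l' * e' := by
          rw [he', ← mul_assoc, d.R_sq l' hl', one_mul]
        rw [hnl, hswap s.2 (mul_mem (d.R_le hl') (d.E_le_trans hll)), hmulR s.2 (d.R_le hl') (d.E_le_trans hll),
          hkill s.2 hll, mul_one, d.commutator_ker s.2 hl' hl'1, hswap s.2 (d.R_le hl),
          d.commutator_ker s.2 hl hl1]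
        exact hsc _ (d.shift_mem s.2)
      centralizes := by
        rintro _ ⟨a, rfl⟩ _ ⟨⟨k, hk⟩, rfl⟩
        show ((cT (Subgroup.inclusion hA0 a) (Subgroup.inclusion d.R_le ⟨k, hk⟩) : T) : T ⧸ E') = _
        refine congrArg QuotientGroup.mk (Subtype.ext ?_)
        exact mul_inv_eq_iff_eq_mul.mpr (d.R_A k hk a a.2).eq
      normalizes := by
        rintro _ ⟨a, rfl⟩ _ ⟨n, rfl⟩
        have han : (a : G) * n * (a : G)⁻¹ ∈ N := by
          refine ⟨mem_centralizer_iff.mpr fun e he => ?_,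
            (normalizer (T : Set G)).mul_mem ((normalizer (T : Set G)).mul_mem (hA0 a.2).1 n.2.2)
              ((normalizer (T : Set G)).inv_mem (hA0 a.2).1)⟩
          have he' : (a : G)⁻¹ * e * (a : G) ∈ E := by simpa using d.A_E _ (inv_mem a.2) e he
          have := H14.Asch.commute_conj (mem_centralizer_iff.mp n.2.1 _ he' : Commute _ (n : G)) (a : G)
          rwa [show (a : G) * ((a : G)⁻¹ * e * a) * (a : G)⁻¹ = e by group] at this
        refine ⟨⟨_, han⟩, ?_⟩
        rw [show φA a * φN n * (φA a)⁻¹ = φ (Subgroup.inclusion hA0 a * Subgroup.inclusion hN0 n *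
          (Subgroup.inclusion hA0 a)⁻¹) by simp [φA, φN]]
        exact congrArg φ (Subtype.ext rfl)
      torus := by
        rintro _ ⟨a, rfl⟩
        refine ⟨ψ a, ⟨a, rfl⟩, fun v w => ?_⟩
        refine QuotientGroup.induction_on v fun t => QuotientGroup.induction_on w fun s => Subtype.ext ?_
        show ⁅(a : G) * t * (a : G)⁻¹, (a : G) * s * (a : G)⁻¹⁆ = (a : G) * ⁅(t : G), (s : G)⁆ * (a : G)⁻¹
        simp only [commutatorElement_def]; group
      fpf := by
        rintro _ ⟨a, rfl⟩ z hz1 hfix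
        refine MulEquiv.ext fun w => Subtype.ext ?_
        rw [hψ]
        refine mul_inv_eq_iff_eq_mul.mpr (d.A_fpf a.2 z.2 (fun e => hz1 (Subtype.ext e)) ?_ _ w.2).eq
        exact (hψ a z).symm.trans (congrArg Subtype.val hfix)
      odd_R := d.A_odd.of_dvd_nat (Subgroup.card_range_dvd ψ)
      odd_O := hodd
      split := by
        rintro _ ⟨a, rfl⟩ hne hiso - - - g -
        exfalso
        refine hne ?_
        suffices a = 1 by rw [this, map_one]
        refine Subtype.ext (d.A_eq_one a.2 fun b hb => ?_)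
        obtain ⟨t, ht, htb⟩ := d.onto b hb
        have h1 := congrArg Subtype.val (hiso ((⟨t, ht⟩ : T) : T ⧸ E') ((⟨u, d.R_le d.u_mem⟩ : T) : T ⧸ E'))
        have h2 : ⁅t, u⁆ = b := by
          rw [commutatorElement_def, d.u_inv, mul_assoc, ← htb, shift]
          have : Commute u (t * u * t⁻¹) := by
            rw [d.conj_u]
            exact (Commute.refl u).mul_right (d.R_Q u d.u_mem _ (d.E_le (d.shift_mem ht))).symm
          rw [← mul_assoc]; exact this.symm.eq
        change ⁅(a : G) * t * (a : G)⁻¹, (a : G) * u * (a : G)⁻¹⁆ = ⁅t, u⁆ at h1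
        rw [show ⁅(a : G) * t * (a : G)⁻¹, (a : G) * u * (a : G)⁻¹⁆ = (a : G) * ⁅t, u⁆ * (a : G)⁻¹ by
          simp only [commutatorElement_def]; group, h2] at h1
        exact mul_inv_eq_iff_eq_mul.mp h1 }
  haveI : IsCyclic A := d.A_cyclic
  haveI : IsCyclic φA.range := isCyclic_of_surjective φA.rangeRestrict φA.rangeRestrict_surjective
  haveI : Group.IsSolvable φN.range := S0205.result hodd
  have hφA : Function.Injective φA := (injective_iff_map_eq_one φA).mpr fun a ha => by
    refine Subtype.ext (d.A_eq_one a.2 fun b hb => ?_)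
    obtain ⟨t, ht, rfl⟩ := d.onto b hb
    have h1 : ((cT (Subgroup.inclusion hA0 a) ⟨t, ht⟩ : T) : T ⧸ E') = ((⟨t, ht⟩ : T) : T ⧸ E') := by
      rw [← hφ]
      exact congrArg (fun x : MulAut (T ⧸ E') => x _) ha
    rw [QuotientGroup.eq, hE', mem_subgroupOf] at h1
    simp only [Subgroup.coe_mul, Subgroup.coe_inv, hcTv, Subgroup.coe_inclusion] at h1
    obtain ⟨hat, hsh⟩ := d.conj_A a.2 ht
    have h2 : shift u (((a : G) * t * (a : G)⁻¹)⁻¹ * t) = 1 :=
      d.shift_eq_one_iff.mpr (d.R_Q u d.u_mem _ (d.E_le h1))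
    rw [d.shift_mul (inv_mem hat) ht, d.shift_inv hat, hsh, mul_eq_one_iff_eq_inv,
      d.E_inv (d.shift_mem ht)] at h2
    exact mul_inv_eq_iff_eq_mul.mp h2
  have hcV : Nat.card (T ⧸ E') = Nat.card E ^ 2 * Nat.card R := by
    have h1 := Subgroup.card_eq_card_quotient_mul_card_subgroup E'
    rw [Nat.card_congr (subgroupOfEquivOfLe d.E_le_trans).toEquiv, d.card_trans, d.card_Q] at h1
    exact Nat.eq_of_mul_eq_mul_right Nat.card_pos (h1.symm.trans (by ring))
  have hsmall : Nat.card (T ⧸ E') < Nat.card f.range ^ Nat.card φA.range := by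
    rw [hcV, ← Nat.card_congr (MonoidHom.ofInjective hfinj).toEquiv,
      ← Nat.card_congr (MonoidHom.ofInjective hφA).toEquiv]
    exact trans_module_small d.eight_le d.four_le d.card_A_ge
  have key := D.map_eq_of_small (fun v => QuotientGroup.induction_on v fun t => by
      rw [← QuotientGroup.mk_mul, QuotientGroup.eq_one_iff, hE', mem_subgroupOf]
      exact d.sq_mem_E hz t.2)
    (d.A_odd.of_dvd_nat (Subgroup.card_range_dvd φA)) hsmall
  have hgN : g ∈ N := ⟨mem_centralizer_iff.mpr fun e he => (hgE e he).symm.eq, hgT⟩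
  have h1 : φN ⟨g, hgN⟩ (f ⟨u, d.u_mem⟩) ∈ f.range :=
    (key _ ⟨⟨g, hgN⟩, rfl⟩).le
      (mem_map_of_mem (φN ⟨g, hgN⟩).toMonoidHom (show f ⟨u, d.u_mem⟩ ∈ f.range from ⟨_, rfl⟩))
  obtain ⟨e, he, k, hk, hgu⟩ := (hmemC _).mp h1
  exact ⟨k, hk, e, he, hgu.trans (d.R_Q k hk e (d.E_le he)).eq⟩

end TransData

end Cfsg.Agent.H26.Asch
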