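import Cfsg.Agent.H26.Asch.TransBridge
import Cfsg.Agent.H26.Asch.TransModule
import Cfsg.Agent.H3.Asch.ShapeTwoCaseTwo

/-!
Lines of shape two: the module step `ClassFix`, hence `ShapeTwoNone`.
-/

set_option autoImplicit false
set_option linter.style.haveILetI false
set_option linter.unusedSectionVars false

namespace Cfsg.Agent.H3.Asch

open Subgroup MulAction
open Cfsg.Agent.H30.Asch
open Cfsg.Agent.H26.Asch (HasInvol)

universe u v

variable {G : Type u} [Group G] {Ω : Type v} [MulAction G Ω] {D : Set G} [Finite G] [Finite Ω]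

/-- **The module step** of CASE II. -/
theorem classFix : ClassFix G Ω D := by
  intro hc u v x y E Q A S _ hP ⟨z, hz, hz2, hzu⟩ g hgE hgT
  have d := S.transData hc
  refine d.conj_mem_RE ⟨z, hz, hz2, fun e => hzu (d.shift_eq_one_iff.mp e)⟩ hP hgE ?_
  refine Subgroup.mem_normalizer_iff.mpr fun t => ⟨hgT t, fun ht => ?_⟩
  -- a conjugation injecting the finite group into itself is onto
  let f : moveGroup u E → moveGroup u E := fun s => ⟨g * s * g⁻¹, hgT s s.2⟩
  have hf : Function.Injective f := fun a b e =>
    Subtype.ext (mul_left_cancel (mul_right_cancel (congrArg Subtype.val e)))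
  obtain ⟨s, hs⟩ := (Finite.injective_iff_surjective.mp hf) ⟨_, ht⟩
  rw [← show (s : G) = t from mul_left_cancel (mul_right_cancel (congrArg Subtype.val hs))]
  exact s.2

/-- **No element proper, lines of shape two**: no such line exists. -/
theorem shapeTwoNone : ShapeTwoNone G Ω D := shapeTwoNone_of_classFix classFix

end Cfsg.Agent.H3.Asch
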