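import Cfsg.Agent.H30.Asch.NoneProperPerp
import Cfsg.Agent.H30.Asch.QuadEq
import Cfsg.Agent.H29.Asch.UUULine

/-!
No element proper, END: pairs of bad involutions with a given central involution bound the number
of conjugates of the fixing group of a line which fix a point from below.
-/

set_option autoImplicit false
set_option linter.style.haveILetI false

namespace Cfsg.Agent.H26.Asch

open Subgroup MulAction
open Cfsg.Agent.H14.Asch
open Cfsg.Agent.H39
open Cfsg.Agent.H73.Asch (RankTwoBad Line2)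
open Cfsg.Agent.H30.Asch
open Cfsg.Agent.H29.Asch (line2_card_Q)

universe u v

variable {G : Type u} [Group G] [Finite G] {Ω : Type v} [MulAction G Ω] [Finite Ω] {D : Set G}

/-- The conjugates of the non-trivial elements of `R`. -/
def conjNonOne (R : Subgroup G) : Set G := {w | ∃ g : G, ∃ k ∈ R, k ≠ 1 ∧ g * k * g⁻¹ = w}

omit [Finite G] [Finite Ω] in
theorem conj_mem_conjNonOne {R : Subgroup G} {w : G} (hw : w ∈ conjNonOne R) (g : G) :
    g * w * g⁻¹ ∈ conjNonOne R := by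
  obtain ⟨s, k, hk, hk1, rfl⟩ := hw
  exact ⟨g * s, k, hk, hk1, by group⟩

section

variable (hc : NPCtx G Ω D) {u v : G} {x y : Ω} {E Q : Subgroup G} (hq : Quad Ω D u v x y)
  (hl : Line2 D u x E Q)
include hc hq hl

/-- The members at `x`, all of them commuting with `u`. -/
theorem card_members_at : Nat.card (swappers D x x) = Nat.card E - 1 ∧
    Nat.card (commSwap D u x x) = Nat.card E - 1 := by
  classical
  have hmem : ∀ g, g ∈ E ↔ g = 1 ∨ g ∈ swappers D x x := fun g =>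
    mem_E_iff hc.crit hc.lines hc.two hc.same hq hq.hx.1 hl
  have h1 : (1 : G) ∉ swappers D x x := fun e => by
    have := hc.crit.inv e.1
    rw [orderOf_one] at this
    omega
  have hset : swappers D x x = (E : Set G) \ {1} := by
    ext g
    constructor
    · exact fun hg => ⟨(hmem g).mpr (Or.inr hg), fun e => h1 (e ▸ hg)⟩
    · exact fun hg => ((hmem g).mp hg.1).resolve_left hg.2
  have hS : Nat.card (swappers D x x) = Nat.card E - 1 := by
    rw [Nat.card_coe_set_eq, hset, Set.ncard_sdiff (Set.singleton_subset_iff.mpr (one_mem E)),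
      Set.ncard_singleton, ← Nat.card_coe_set_eq]
    rfl
  refine ⟨hS, hS ▸ congrArg (fun s : Set G => Nat.card s) (Set.ext fun g => ⟨?_, ?_⟩)⟩
  · exact fun hg => ⟨hg.1, hg.2.2⟩
  · intro hg
    have he := (hmem g).mpr (Or.inr hg)
    exact line2_member hl he fun e => h1 (e ▸ hg)

/-- The number of points. -/
theorem card_points : Nat.card Ω =
    (Nat.card Q + 1) * (1 + Nat.card Q * (Nat.card E - 1)) := by
  have hf := line2_card_Q hl hq.hy.1 hq.ne.symm
  have hout := count_out hc.crit hc.lines hq.bu hq.hx.1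
  have hlt := exists_moved (Ω := Ω) hc.crit hq.bu.1
  obtain ⟨hs, hm⟩ := card_members_at hc hq hl
  rw [hs, hm, ← hf, Nat.add_sub_cancel] at hout
  rw [← hf] at hlt
  have h3 : 0 < Nat.card E - 1 := by have := hl.four_le; omega
  obtain ⟨d, hd⟩ := Nat.exists_eq_add_of_le hlt.le
  rw [hd, Nat.add_sub_cancel_left] at hout
  have hd' : d = (Nat.card Q + 1) * Nat.card Q * (Nat.card E - 1) :=
    Nat.eq_of_mul_eq_mul_left h3 (by rw [hout]; ring)
  rw [hd, hd']; ring

/-- **END**, the inequality: `B` bounds the conjugates of the elements of `R` fixing `x`. -/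
theorem count_pairs {R : Subgroup G} (hRK : R ≤ fixingSubgroup G (fixedBy Ω u))
    (hR2 : ∀ k ∈ R, k * k = 1) {B : ℕ}
    (hB : Nat.card {w : G | w ∈ conjNonOne R ∧ w • x = x} ≤ B) :
    (Nat.card R - 2) * (Nat.card Q + 1) * Nat.card Q * (Nat.card E - 1) ^ 2 ≤
      B * (1 + Nat.card Q * (Nat.card E - 1)) := by
  classical
  have h := hc.crit
  rcases le_or_gt (Nat.card R) 2 with hr | hr
  · rw [Nat.sub_eq_zero_of_le hr]; simp
  set K := fixingSubgroup G (fixedBy Ω u)
  set 𝓑 := conjNonOne R with h𝓑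
  set f := Nat.card Q + 1 with hfdef
  have hf : Nat.card (fixedBy Ω u) = f := (line2_card_Q hl hq.hy.1 hq.ne.symm).symm
  obtain ⟨-, hm⟩ := card_members_at hc hq hl
  set m := Nat.card E - 1
  have hR : ∀ {k}, k ∈ R → k ≠ 1 → orderOf k = 2 := fun hk hk1 =>
    orderOf_eq_two_of_mul_self (hR2 _ hk) hk1
  have hRc : ∀ {k l}, k ∈ R → l ∈ R → Commute k l := fun {k l} hk hl' => by
    have h1 := hR2 _ (mul_mem hk hl')
    calc k * l = (k * l)⁻¹ := (inv_eq_of_mul_eq_one_right h1).symm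
      _ = l * k := by rw [mul_inv_rev, inv_eq_of_mul_eq_one_right (hR2 _ hk),
        inv_eq_of_mul_eq_one_right (hR2 _ hl')]
  have hfix : ∀ {k}, k ∈ R → k ≠ 1 → fixedBy Ω k = fixedBy Ω u := fun hk hk1 =>
    fixedBy_eq_of_fixing hc.two hc.same hq.bu.1 hq.ne hq.hx.1 hq.hy.1 (hR hk hk1) (hRK hk)
  -- each conjugate has `f` fixed points
  have hfB : ∀ w : 𝓑, Nat.card (fixedBy Ω (w : G)) = f := by
    rintro ⟨_, g, k, hk, hk1, rfl⟩
    rw [card_fixedBy_conj, hfix hk hk1, hf]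
  haveI := h.trans
  -- flags
  have hflag : Nat.card 𝓑 * f =
      Nat.card Ω * Nat.card {w : G | w ∈ conjNonOne R ∧ w • x = x} := by
    haveI := Fintype.ofFinite 𝓑
    haveI := Fintype.ofFinite Ω
    choose g hg using fun p : Ω => exists_smul_eq G x p
    let e : (Σ w : 𝓑, fixedBy Ω (w : G)) ≃
        Ω × {w : G | w ∈ conjNonOne R ∧ w • x = x} :=
      { toFun := fun s => (s.2.1, ⟨(g s.2.1)⁻¹ * s.1.1 * (g s.2.1)⁻¹⁻¹,
          conj_mem_conjNonOne s.1.2 _, by
            rw [inv_inv, mul_smul, mul_smul, hg, s.2.2, inv_smul_eq_iff, hg]⟩)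
        invFun := fun r => ⟨⟨g r.1 * r.2.1 * (g r.1)⁻¹, conj_mem_conjNonOne r.2.2.1 _⟩, r.1, by
          show (g r.1 * r.2.1 * (g r.1)⁻¹) • r.1 = r.1
          rw [mul_smul, mul_smul, inv_smul_eq_iff.mpr (hg r.1).symm, r.2.2.2, hg]⟩
        left_inv := fun s => Sigma.subtype_ext (Subtype.ext (by simp [mul_assoc])) rfl
        right_inv := fun r => Prod.ext rfl (Subtype.ext (by simp [mul_assoc])) }
    rw [← Nat.card_prod Ω, ← Nat.card_congr e, Nat.card_sigma,
      Finset.sum_congr rfl fun w _ => hfB w, Finset.sum_const, Finset.card_univ, smul_eq_mul,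
      ← Nat.card_eq_fintype_card]
  -- pairs of members at two points of the line
  choose p hp using fun a : commMembers D u => (h.unique a.2.1).exists
  have hpu : ∀ a : commMembers D u, u • p a = p a := fun a =>
    h.fix_of_commute a.2.1 a.2.2.symm (hp a)
  let P := Σ b : commMembers D u, {d : commMembers D u // p d ≠ p b}
  have hcardM : Nat.card (commMembers D u) = f * m := by
    rw [card_commMembers h hq.bu.1 hq.ne hq.hx.1 hq.hy.1, hf, hm]
  have hP : Nat.card P = f * m * (Nat.card Q * m) := by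
    haveI := Fintype.ofFinite (commMembers D u)
    have heach : ∀ b : commMembers D u,
        Nat.card {d : commMembers D u // p d ≠ p b} = Nat.card Q * m := by
      intro b
      have hat : Nat.card {d : commMembers D u // p d = p b} = m := by
        rw [← hm, ← h.card_commSwap hq.bu.1 hq.ne hq.hx.1 hq.hy.1 (hpu b) (hpu b) hq.hx.1]
        refine Nat.card_congr
          { toFun := fun d => ⟨d.1.1, d.1.2.1, d.1.2.2, by
              have := hp d.1; rwa [d.2] at this⟩
            invFun := fun d => ⟨⟨d.1, d.2.1, d.2.2.1⟩,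
              h.eq_of_fixed d.2.1 (hp ⟨d.1, d.2.1, d.2.2.1⟩) d.2.2.2⟩
            left_inv := fun d => rfl
            right_inv := fun d => rfl }
      have hsum := Nat.card_congr (Equiv.sumCompl fun d : commMembers D u => p d = p b)
      rw [Nat.card_sum, hat, hcardM] at hsum
      rw [hfdef, add_mul, one_mul, add_comm (Nat.card Q * m)] at hsum
      exact Nat.add_left_cancel hsum
    rw [Nat.card_sigma, Finset.sum_congr rfl fun b _ => heach b, Finset.sum_const,
      Finset.card_univ, smul_eq_mul, ← Nat.card_eq_fintype_card, hcardM]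
  -- the injection
  choose s k₀ hk₀ hk₀1 hs using fun j : 𝓑 => j.2
  have hcm : ∀ (b : commMembers D u) {k}, k ∈ R → Commute (b : G) k := fun b k hk =>
    commute_fixing_of_member h hc.lines hc.two hc.same hq b.2 (hRK hk)
  have hmul : ∀ (b : commMembers D u) {k}, k ∈ R → k ≠ 1 → k * b ∈ 𝓑 := by
    intro b k hk hk1
    have hkf := hfix hk hk1
    have hbad : RankTwoBad Ω D k := hc.two k (hR hk hk1) x y hq.ne
      ((Set.ext_iff.mp hkf x).mpr hq.hx.1) ((Set.ext_iff.mp hkf y).mpr hq.hy.1)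
    obtain ⟨g, hg⟩ := exists_conj_mul_member h hc.lines hbad ⟨b.2.1, hcm b hk⟩
    exact ⟨g, k, hk, hk1, hg⟩
  haveI := Fintype.ofFinite (commMembers D u)
  let T := Σ j : 𝓑, {k : R // (k : G) ≠ 1 ∧ (k : G) ≠ k₀ j} × P
  let Φ : T → 𝓑 × 𝓑 := fun t =>
    (⟨s t.1 * ((t.2.1.1 : G) * t.2.2.1) * (s t.1)⁻¹,
        conj_mem_conjNonOne (hmul _ t.2.1.1.2 t.2.1.2.1) _⟩,
      ⟨s t.1 * (((t.2.1.1 : G) * k₀ t.1) * t.2.2.2.1) * (s t.1)⁻¹,
        conj_mem_conjNonOne (hmul _ (mul_mem t.2.1.1.2 (hk₀ t.1)) fun e => t.2.1.2.2 (by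
          rw [eq_inv_of_mul_eq_one_left e, inv_eq_of_mul_eq_one_right (hR2 _ (hk₀ t.1))])) _⟩)
  have hprod : ∀ t : T, ∃ o : ℕ, Odd o ∧
      ((Φ t).1.1 * (Φ t).2.1) ^ o = t.1.1 := by
    rintro ⟨j, ⟨⟨k, hk⟩, hk1, -⟩, b, d, hbd⟩
    set o := orderOf ((b : G) * d) with ho
    have hodd : Odd o := h.odd_orderOf_mul d.2.1 b.2.1 (hp d) (hp b) hbd
    refine ⟨o, hodd, ?_⟩
    show (s j * (k * b) * (s j)⁻¹ * (s j * (k * k₀ j * d) * (s j)⁻¹)) ^ o = j.1
    have e1 : s j * (k * b) * (s j)⁻¹ * (s j * (k * k₀ j * d) * (s j)⁻¹) =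
        s j * (k₀ j * ((b : G) * d)) * (s j)⁻¹ := by
      rw [show s j * (k * b) * (s j)⁻¹ * (s j * (k * k₀ j * d) * (s j)⁻¹) =
        s j * (k * ((b : G) * (k * k₀ j)) * d) * (s j)⁻¹ by group,
        (hcm b (mul_mem hk (hk₀ j))).eq,
        show k * (k * k₀ j * (b : G)) * d = k * k * (k₀ j * ((b : G) * d)) by group, hR2 k hk,
        one_mul]
    rw [e1, conj_pow, ((hcm b (hk₀ j)).mul_left (hcm d (hk₀ j))).symm.mul_pow, ho,
      pow_orderOf_eq_one, mul_one, ← hs j]
    congr 2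
    obtain ⟨l, hl'⟩ := hodd
    rw [← ho, hl', pow_succ, pow_mul, pow_two, hR2 _ (hk₀ j), one_pow, one_mul]
  have hΦ : Function.Injective Φ := by
    intro t t' e
    have hsq : ∀ j : 𝓑, (j : G) * j = 1 := fun j => by
      rw [← hs j, show s j * k₀ j * (s j)⁻¹ * (s j * k₀ j * (s j)⁻¹) =
        s j * (k₀ j * k₀ j) * (s j)⁻¹ by group, hR2 _ (hk₀ j)]
      group
    have hj : t.1 = t'.1 := by
      obtain ⟨o, ⟨l, hl'⟩, ho⟩ := hprod t
      obtain ⟨o', ⟨l', hl''⟩, ho'⟩ := hprod t'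
      rw [e] at ho
      have key : ((Φ t').1.1 * (Φ t').2.1) ^ (o * o') = (t.1 : G) ∧
          ((Φ t').1.1 * (Φ t').2.1) ^ (o * o') = (t'.1 : G) := by
        constructor
        · rw [pow_mul, ho, hl'', pow_succ, pow_mul, pow_two, hsq, one_pow, one_mul]
        · rw [mul_comm o, pow_mul, ho', hl', pow_succ, pow_mul, pow_two, hsq, one_pow, one_mul]
      exact Subtype.ext (key.1.symm.trans key.2)
    obtain ⟨j, ⟨⟨k, hk⟩, hk1, hk2⟩, b, d, hbd⟩ := t
    obtain ⟨j', ⟨⟨k', hk'⟩, hk'1, hk'2⟩, b', d', hbd'⟩ := t'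
    simp only at hj
    subst hj
    have e1 : k * b = k' * b' :=
      mul_left_cancel (mul_right_cancel (congrArg (fun r : 𝓑 × 𝓑 => r.1.1) e))
    have e2 : k * k₀ j * d = k' * k₀ j * d' :=
      mul_left_cancel (mul_right_cancel (congrArg (fun r : 𝓑 × 𝓑 => r.2.1) e))
    have hb : b = b' := by
      by_contra hne
      have hne' : (b : G) ≠ b' := fun e3 => hne (Subtype.ext e3)
      have hbb := mul_self_of_orderOf_eq_two (h.inv b.2.1)
      have e3 : k' * k = (b' : G) * b := by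
        calc k' * k = k' * (k * b) * b := by
              rw [mul_assoc, mul_assoc, hbb, mul_one]
          _ = k' * k' * b' * b := by rw [e1]; group
          _ = (b' : G) * b := by rw [hR2 k' hk', one_mul]
      by_cases hpe : p b = p b'
      · have hcb : Commute (b : G) b' := commute_members h hc.lines hc.two hc.same hq
          ⟨b.2.1, hp b⟩ ⟨b'.2.1, hpe ▸ hp b'⟩
        have hone : ∀ {z : Ω}, u • z = z → z = p b := fun hz =>
          (h.eq_of_commute_mul b.2.1 b'.2.1 hne' hcb (hp b)).mp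
            (e3 ▸ mem_fixing_iff.mp (hRK (mul_mem hk' hk)) _ hz)
        exact hq.ne ((hone hq.hx.1).trans (hone hq.hy.1).symm)
      · have hodd := h.odd_orderOf_mul b.2.1 b'.2.1 (hp b) (hp b') hpe
        have h2 : orderOf ((b' : G) * b) ∣ 2 := orderOf_dvd_of_pow_eq_one (by
          rw [pow_two, ← e3, hR2 _ (mul_mem hk' hk)])
        have h3 := Nat.eq_one_of_dvd_coprimes (Nat.coprime_two_left.mpr hodd) h2 dvd_rfl
        rw [orderOf_eq_one_iff] at h3
        exact hne' (by rw [eq_inv_of_mul_eq_one_left h3, inv_eq_of_mul_eq_one_right hbb])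
    subst hb
    obtain rfl : k = k' := mul_right_cancel e1
    obtain rfl : d = d' := Subtype.ext (mul_left_cancel e2)
    rfl
  have hT : Nat.card 𝓑 * ((Nat.card R - 2) * Nat.card P) ≤ Nat.card T := by
    haveI := Fintype.ofFinite 𝓑
    rw [show Nat.card T =
      ∑ j : 𝓑, Nat.card ({k : R // (k : G) ≠ 1 ∧ (k : G) ≠ k₀ j} × P) from Nat.card_sigma]
    refine (le_of_eq (by rw [Finset.sum_const, Finset.card_univ, smul_eq_mul,
      ← Nat.card_eq_fintype_card])).trans (Finset.sum_le_sum fun j _ => ?_)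
    rw [Nat.card_prod]
    refine Nat.mul_le_mul_right _ ?_
    haveI := Fintype.ofFinite R
    have hsub : Nat.card {k : R // ¬((k : G) ≠ 1 ∧ (k : G) ≠ k₀ j)} ≤ 2 := by
      let o : R := 1
      let o' : R := ⟨k₀ j, hk₀ j⟩
      refine (Nat.card_mono (t := ({o, o'} : Set R)) (Set.toFinite _) fun k hk => ?_).trans ?_
      · replace hk : ¬((k : G) ≠ 1 ∧ (k : G) ≠ k₀ j) := hk
        rw [not_and_or, not_not, not_not] at hk
        rcases hk with e | e
        · exact Or.inl (Subtype.ext e)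
        · exact Or.inr (Subtype.ext e)
      · rw [Nat.card_coe_set_eq]
        exact (Set.ncard_insert_le _ _).trans (by rw [Set.ncard_singleton])
    have hsum := Nat.card_congr
      (Equiv.sumCompl fun k : R => (k : G) ≠ 1 ∧ (k : G) ≠ k₀ j)
    rw [Nat.card_sum] at hsum
    omega
  have hle : Nat.card 𝓑 * ((Nat.card R - 2) * Nat.card P) ≤ Nat.card 𝓑 * Nat.card 𝓑 :=
    hT.trans ((Nat.card_le_card_of_injective Φ hΦ).trans (Nat.card_prod _ _).le)
  have hpos : 0 < Nat.card 𝓑 := by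
    haveI : Nontrivial R := Finite.one_lt_card_iff_nontrivial.mp (by omega)
    obtain ⟨⟨k, hk⟩, hk1⟩ := exists_ne (1 : R)
    haveI : Nonempty 𝓑 := ⟨⟨k, 1, k, hk, fun e => hk1 (Subtype.ext e), by group⟩⟩
    exact Nat.card_pos
  have hle' : (Nat.card R - 2) * Nat.card P ≤ Nat.card 𝓑 := Nat.le_of_mul_le_mul_left hle hpos
  rw [hP] at hle'
  have hΩ := card_points hc hq hl
  rw [← hfdef] at hΩ
  have hfinal : (Nat.card R - 2) * (f * m * (Nat.card Q * m)) * f ≤ Nat.card Ω * B :=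
    (Nat.mul_le_mul_right f hle').trans (hflag.le.trans (Nat.mul_le_mul_left _ hB))
  rw [hΩ] at hfinal
  refine Nat.le_of_mul_le_mul_left ?_ (show 0 < f by omega)
  calc f * ((Nat.card R - 2) * f * Nat.card Q * m ^ 2)
      = (Nat.card R - 2) * (f * m * (Nat.card Q * m)) * f := by ring
    _ ≤ f * (1 + Nat.card Q * m) * B := hfinal
    _ = f * (B * (1 + Nat.card Q * m)) := by ring

end

theorem shapeTwo_arith {q r : ℕ} (h8 : 8 ≤ q) (hr : 4 ≤ r)
    (hle : (r - 2) * (q ^ 2 + 1) * q ^ 2 * (q - 1) ^ 2 ≤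
      q * (r - 1 + q * (q - 1)) * (1 + q ^ 2 * (q - 1))) : False := by
  obtain ⟨s, rfl⟩ : ∃ s, r = s + 2 := ⟨r - 2, by omega⟩
  obtain ⟨t, rfl⟩ : ∃ t, q = t + 1 := ⟨q - 1, by omega⟩
  simp only [Nat.add_sub_cancel, show s + 2 - 1 = s + 1 by omega] at hle
  obtain ⟨a, rfl⟩ : ∃ a, s = a + 2 := ⟨s - 2, by omega⟩
  obtain ⟨b, rfl⟩ : ∃ b, t = b + 7 := ⟨t - 7, by omega⟩
  ring_nf at hle
  linarith [Nat.zero_le a, Nat.zero_le b, Nat.zero_le (a * b), Nat.zero_le (a * b ^ 2),
    Nat.zero_le (a * b ^ 3), Nat.zero_le (a * b ^ 4), Nat.zero_le (a * b ^ 5), Nat.zero_le (a * b ^ 6),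
    Nat.zero_le (b ^ 2), Nat.zero_le (b ^ 3), Nat.zero_le (b ^ 4), Nat.zero_le (b ^ 5),
    Nat.zero_le (b ^ 6)]

/-- **END** for shape two. -/
theorem false_of_few_conj (hc : NPCtx G Ω D) {u v : G} {x y : Ω} {E Q : Subgroup G}
    (hq : Quad Ω D u v x y) (hl : Line2 D u x E Q) (hQ : Nat.card Q = Nat.card E ^ 2)
    (h8 : 8 ≤ Nat.card E) {R : Subgroup G} (hRK : R ≤ fixingSubgroup G (fixedBy Ω u))
    (hR2 : ∀ k ∈ R, k * k = 1) (h4 : 4 ≤ Nat.card R)
    (hB : Nat.card {w : G | w ∈ conjNonOne R ∧ w • x = x} ≤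
      Nat.card E * (Nat.card R - 1 + Nat.card E * (Nat.card E - 1))) : False := by
  have h := count_pairs hc hq hl hRK hR2 hB
  rw [hQ] at h
  exact shapeTwo_arith h8 h4 h

end Cfsg.Agent.H26.Asch
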