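import Cfsg.Agent.Coprime.HalfTransField

/-!
A subgroup acting as an abelian group transitively on the non-zero vectors of an elementary abelian
two-group makes it a line over the field of the maps commuting with it, and a group normalising
its image acts semilinearly over that field.
-/

set_option autoImplicit false
set_option linter.style.haveILetI false
set_option linter.unusedSectionVars false

namespace Cfsg.Agent.H26.Asch

open Subgroup MulAction
open scoped commutatorElement

universe u v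

variable {G : Type v} [Group G] {E : Type u} [AddCommGroup E] [Finite E] [DistribMulAction G E]

/-- `A` acts commutatively and transitively on the non-zero vectors of `E`. -/
structure Torus (A : Subgroup G) (E : Type u) [AddCommGroup E] [DistribMulAction G E] : Prop where
  two : ∀ e : E, e + e = 0
  four_le : 4 ≤ Nat.card E
  comm : ∀ a ∈ A, ∀ b ∈ A, ∀ e : E, a • b • e = b • a • e
  trans : ∀ x y : E, x ≠ 0 → y ≠ 0 → ∃ a ∈ A, a • x = y

/-- `g` normalises the image of `A`. -/
def NormImage (A : Subgroup G) (E : Type u) [AddCommGroup E] [DistribMulAction G E] (g : G) : Prop :=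
  ∀ a ∈ A, ∃ b ∈ A, ∀ e : E, g • a • g⁻¹ • e = b • e

/-- The maps commuting with `A`. -/
def torusRing (A : Subgroup G) (E : Type u) [AddCommGroup E] [DistribMulAction G E] :
    Subring (AddMonoid.End E) :=
  Subring.centralizer ((DistribMulAction.toAddMonoidEnd G E) '' (A : Set G))

theorem mem_torusRing {A : Subgroup G} {φ : AddMonoid.End E} :
    φ ∈ torusRing A E ↔ ∀ a ∈ A, ∀ e : E, a • φ e = φ (a • e) := by
  rw [torusRing, Subring.mem_centralizer_iff]
  refine ⟨fun h a ha e => DFunLike.congr_fun (h _ ⟨a, ha, rfl⟩) e, ?_⟩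
  rintro h _ ⟨a, ha, rfl⟩
  exact DFunLike.ext _ _ fun e => h a ha e

namespace Torus

variable {A : Subgroup G} (hA : Torus A E)
include hA

theorem nontrivial : Nontrivial E :=
  Finite.one_lt_card_iff_nontrivial.mp (by have := hA.four_le; omega)

theorem eq_of_apply_eq {φ ψ : AddMonoid.End E} (hφ : φ ∈ torusRing A E) (hψ : ψ ∈ torusRing A E)
    {c : E} (hc : c ≠ 0) (h : φ c = ψ c) : φ = ψ := by
  refine DFunLike.ext _ _ fun e => ?_
  by_cases he : e = 0
  · rw [he, map_zero, map_zero]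
  obtain ⟨a, ha, rfl⟩ := hA.trans c e hc he
  rw [← mem_torusRing.mp hφ a ha, ← mem_torusRing.mp hψ a ha, h]

theorem smul_mem_torusRing {a : G} (ha : a ∈ A) :
    DistribMulAction.toAddMonoidEnd G E a ∈ torusRing A E :=
  mem_torusRing.mpr fun b hb e => hA.comm b hb a ha e

/-- An element of `A` fixing a non-zero vector is trivial. -/
theorem regular {a : G} (ha : a ∈ A) {c : E} (hc : c ≠ 0) (h : a • c = c) (e : E) : a • e = e :=
  DFunLike.congr_fun (hA.eq_of_apply_eq (hA.smul_mem_torusRing ha) (one_mem (torusRing A E)) hc h) e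

theorem eq_zero_or_smul {φ : AddMonoid.End E} (hφ : φ ∈ torusRing A E) :
    φ = 0 ∨ ∃ a ∈ A, ∀ e : E, φ e = a • e := by
  haveI := hA.nontrivial
  obtain ⟨c, hc⟩ := exists_ne (0 : E)
  by_cases h0 : φ c = 0
  · exact Or.inl (hA.eq_of_apply_eq hφ (zero_mem _) hc h0)
  · obtain ⟨a, ha, hac⟩ := hA.trans c (φ c) hc h0
    exact Or.inr ⟨a, ha, fun e =>
      DFunLike.congr_fun (hA.eq_of_apply_eq hφ (hA.smul_mem_torusRing ha) hc hac.symm) e⟩

theorem eval_bijective {c : E} (hc : c ≠ 0) :
    Function.Bijective fun φ : torusRing A E => (φ : AddMonoid.End E) c := by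
  refine ⟨fun φ ψ h => Subtype.ext (hA.eq_of_apply_eq φ.2 ψ.2 hc h), fun e => ?_⟩
  by_cases he : e = 0
  · exact ⟨0, he.symm⟩
  · obtain ⟨a, ha, hae⟩ := hA.trans c e hc he
    exact ⟨⟨_, hA.smul_mem_torusRing ha⟩, hae⟩

theorem ring_isField : IsField (torusRing A E) := by
  haveI := hA.nontrivial
  obtain ⟨c, hc⟩ := exists_ne (0 : E)
  haveI : Finite (AddMonoid.End E) :=
    Finite.of_injective (fun f => (f : E → E)) DFunLike.coe_injective
  refine ⟨⟨0, 1, fun h => hc ?_⟩, fun φ ψ => Subtype.ext ?_, fun {φ} hφ => ?_⟩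
  · have := congrArg (fun r : torusRing A E => (r : AddMonoid.End E) c) h
    exact this.symm
  · rcases hA.eq_zero_or_smul φ.2 with h | ⟨a, ha, h⟩
    · rw [Subring.coe_mul, Subring.coe_mul, h, zero_mul, mul_zero]
    · refine DFunLike.ext _ _ fun e => ?_
      change (φ : AddMonoid.End E) ((ψ : AddMonoid.End E) e) = (ψ : AddMonoid.End E) ((φ : AddMonoid.End E) e)
      rw [h, h, mem_torusRing.mp ψ.2 a ha]
  · rcases hA.eq_zero_or_smul φ.2 with h | ⟨a, ha, h⟩
    · exact absurd (Subtype.ext h) hφ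
    · refine ⟨⟨_, hA.smul_mem_torusRing (inv_mem ha)⟩, Subtype.ext (DFunLike.ext _ _ fun e => ?_)⟩
      change (φ : AddMonoid.End E) (a⁻¹ • e) = e
      rw [h, smul_inv_smul]

/-- The conjugate of a map commuting with `A`. -/
theorem conj_mem {g : G} (hg : NormImage A E g) {φ : AddMonoid.End E} (hφ : φ ∈ torusRing A E) :
    DistribMulAction.toAddMonoidEnd G E g * φ * DistribMulAction.toAddMonoidEnd G E g⁻¹ ∈
      torusRing A E := by
  rcases hA.eq_zero_or_smul hφ with rfl | ⟨a, ha, h⟩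
  · rw [mul_zero, zero_mul]; exact zero_mem _
  · obtain ⟨b, hb, hab⟩ := hg a ha
    convert hA.smul_mem_torusRing hb using 1
    refine DFunLike.ext _ _ fun e => ?_
    change g • φ (g⁻¹ • e) = b • e
    rw [h, hab]

variable {H : Subgroup G} (hH : ∀ g ∈ H, NormImage A E g)
include hH

/-- The action of `H` on the field of the maps commuting with `A`. -/
noncomputable def sigma : H →* (torusRing A E ≃+* torusRing A E) :=
  let ρ := DistribMulAction.toAddMonoidEnd G E
  let cj : H → torusRing A E → torusRing A E := fun g φ =>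
    ⟨ρ g * φ * ρ (g : G)⁻¹, hA.conj_mem (hH g g.2) φ.2⟩
  have cj_cj : ∀ g g' φ, cj g (cj g' φ) = cj (g * g') φ := fun g g' φ => Subtype.ext (by
    change ρ g * (ρ g' * φ * ρ (g' : G)⁻¹) * ρ (g : G)⁻¹ =
      ρ ((g : G) * g') * φ * ρ ((g : G) * g')⁻¹
    rw [mul_inv_rev, map_mul, map_mul]; simp only [mul_assoc])
  have cj_one : ∀ φ, cj 1 φ = φ := fun φ => Subtype.ext (by
    change ρ ((1 : H) : G) * φ * ρ ((1 : H) : G)⁻¹ = φ
    rw [OneMemClass.coe_one, inv_one, map_one, one_mul, mul_one])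
  { toFun := fun g =>
      { toFun := cj g
        invFun := cj g⁻¹
        left_inv := fun φ => by rw [cj_cj, inv_mul_cancel, cj_one]
        right_inv := fun φ => by rw [cj_cj, mul_inv_cancel, cj_one]
        map_mul' := fun φ ψ => Subtype.ext (DFunLike.ext _ _ fun e => by
          change (g : G) • (φ : AddMonoid.End E) ((ψ : AddMonoid.End E) ((g : G)⁻¹ • e)) =
            (g : G) • (φ : AddMonoid.End E) ((g : G)⁻¹ • (g : G) •
              (ψ : AddMonoid.End E) ((g : G)⁻¹ • e))
          rw [inv_smul_smul])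
        map_add' := fun φ ψ => Subtype.ext (by
          change ρ g * ((φ : AddMonoid.End E) + ψ) * ρ (g : G)⁻¹ = _
          rw [mul_add, add_mul]; rfl) }
    map_one' := RingEquiv.ext cj_one
    map_mul' := fun g g' => RingEquiv.ext fun φ => (cj_cj g g' φ).symm }

theorem sigma_apply (g : H) (φ : torusRing A E) (e : E) :
    ((hA.sigma hH g φ : torusRing A E) : AddMonoid.End E) ((g : G) • e) =
      (g : G) • (φ : AddMonoid.End E) e := by
  change (g : G) • (φ : AddMonoid.End E) ((g : G)⁻¹ • (g : G) • e) = _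
  rw [inv_smul_smul]

/-- An element inducing the trivial automorphism acts as an element of `A`. -/
theorem exists_of_sigma_eq_one {g : H} (hg : hA.sigma hH g = 1) :
    ∃ a ∈ A, ∀ e : E, (g : G) • e = a • e := by
  haveI := hA.nontrivial
  obtain ⟨c, hc⟩ := exists_ne (0 : E)
  obtain ⟨a, ha, hac⟩ := hA.trans c ((g : G) • c) hc ((smul_ne_zero_iff_ne _).mpr hc)
  refine ⟨a, ha, fun e => ?_⟩
  obtain ⟨φ, rfl⟩ := (hA.eval_bijective hc).2 e
  have h := hA.sigma_apply hH g φ c
  rw [hg] at h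
  change (φ : AddMonoid.End E) ((g : G) • c) = (g : G) • (φ : AddMonoid.End E) c at h
  change (g : G) • (φ : AddMonoid.End E) c = a • (φ : AddMonoid.End E) c
  rw [← h, ← hac, mem_torusRing.mp φ.2 a ha]

theorem sigma_comm (g g' : H) : hA.sigma hH g * hA.sigma hH g' = hA.sigma hH g' * hA.sigma hH g := by
  letI : Field (torusRing A E) := hA.ring_isField.toField
  haveI : Finite (AddMonoid.End E) :=
    Finite.of_injective (fun f => (f : E → E)) DFunLike.coe_injective
  haveI := Coprime.HalfTrans.isCyclic_ringAut (torusRing A E)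
  exact (IsCyclic.commGroup (α := torusRing A E ≃+* torusRing A E)).mul_comm _ _

/-- The action is abelian modulo `A`. -/
theorem commutator_smul {g g' : G} (hg : g ∈ H) (hg' : g' ∈ H) :
    ∃ a ∈ A, ∀ e : E, ⁅g, g'⁆ • e = a • e := by
  refine hA.exists_of_sigma_eq_one hH (g := ⁅(⟨g, hg⟩ : H), ⟨g', hg'⟩⁆) ?_
  rw [map_commutatorElement, commutatorElement_eq_one_iff_mul_comm]
  exact hA.sigma_comm hH _ _

/-- Modulo `A` there is at most one involution. -/
theorem two_smul_eq {s t : G} (hs : s ∈ H) (ht : t ∈ H) (hs2 : ∀ e : E, s • s • e = e)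
    (ht2 : ∀ e : E, t • t • e = e) (hs1 : ∃ e : E, s • e ≠ e) (ht1 : ∃ e : E, t • e ≠ e) :
    ∃ a ∈ A, ∀ e : E, (s⁻¹ * t) • e = a • e := by
  classical
  letI : Field (torusRing A E) := hA.ring_isField.toField
  haveI : Finite (AddMonoid.End E) :=
    Finite.of_injective (fun f => (f : E → E)) DFunLike.coe_injective
  haveI : Finite (torusRing A E ≃+* torusRing A E) :=
    Finite.of_injective (fun f => (f : torusRing A E → torusRing A E)) DFunLike.coe_injective
  haveI := Coprime.HalfTrans.isCyclic_ringAut (torusRing A E)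
  haveI : Fintype (torusRing A E ≃+* torusRing A E) := Fintype.ofFinite _
  have key : ∀ w : H, (∀ e : E, (w : G) • (w : G) • e = e) → (∃ e : E, (w : G) • e ≠ e) →
      hA.sigma hH w ^ 2 = 1 ∧ hA.sigma hH w ≠ 1 := by
    rintro w hw ⟨e₁, he₁⟩
    refine ⟨RingEquiv.ext fun φ => Subtype.ext (DFunLike.ext _ _ fun e => ?_), fun h1 => ?_⟩
    · rw [sq]
      change (w : G) • (w : G) • (φ : AddMonoid.End E) ((w : G)⁻¹ • (w : G)⁻¹ • e) =
        (φ : AddMonoid.End E) e
      rw [hw, show (w : G)⁻¹ • (w : G)⁻¹ • e = e by rw [inv_smul_eq_iff, inv_smul_eq_iff, hw]]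
    · obtain ⟨a, ha, hag⟩ := hA.exists_of_sigma_eq_one hH h1
      have hfix : (w : G) • (e₁ + (w : G) • e₁) = e₁ + (w : G) • e₁ := by
        rw [smul_add, hw, add_comm]
      have hne : e₁ + (w : G) • e₁ ≠ 0 := fun h0 => he₁ (by
        rw [← add_left_cancel_iff (a := e₁), h0, hA.two])
      rw [hag] at hfix
      exact he₁ ((hag e₁).trans (hA.regular ha (hag e₁ ▸ hne) (hag e₁ ▸ hfix) e₁))
  refine hA.exists_of_sigma_eq_one hH (g := (⟨s, hs⟩ : H)⁻¹ * ⟨t, ht⟩) ?_
  obtain ⟨hs', hs''⟩ := key ⟨s, hs⟩ hs2 hs1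
  obtain ⟨ht', ht''⟩ := key ⟨t, ht⟩ ht2 ht1
  rw [map_mul, map_inv, inv_mul_eq_one]
  by_contra hne
  have hc := IsCyclic.card_pow_eq_one_le (α := torusRing A E ≃+* torusRing A E) (n := 2) two_pos
  have hsub : ({1, hA.sigma hH ⟨s, hs⟩, hA.sigma hH ⟨t, ht⟩} :
      Finset (torusRing A E ≃+* torusRing A E)) ⊆ Finset.univ.filter fun a => a ^ 2 = 1 := by
    intro a ha
    simp only [Finset.mem_insert, Finset.mem_singleton] at ha
    rcases ha with rfl | rfl | rfl <;> simp [hs', ht']
  have h3 : ({1, hA.sigma hH ⟨s, hs⟩, hA.sigma hH ⟨t, ht⟩} :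
      Finset (torusRing A E ≃+* torusRing A E)).card = 3 :=
    Finset.card_eq_three.2 ⟨_, _, _, Ne.symm hs'', Ne.symm ht'', hne, rfl⟩
  have := Finset.card_le_card hsub
  omega

end Torus

end Cfsg.Agent.H26.Asch
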