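import Cfsg.Agent.H26.Asch.TorusField
import Cfsg.Agent.S0205

/-!
An odd group transitive on the non-zero vectors contains only one abelian transitive image, so a
group normalising it normalises the image of a torus.
-/

set_option autoImplicit false
set_option linter.style.haveILetI false
set_option linter.unusedSectionVars false

namespace Cfsg.Agent.H26.Asch

open Subgroup MulAction

universe u v

theorem semilinear_bound {f k m : ℕ} (hf : 2 ≤ f) (hm : 2 ≤ m) (hk : 2 ^ k = f ^ m) :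
    k * (f - 1) < f ^ m - 1 := by
  obtain ⟨j, -, rfl⟩ := (Nat.dvd_prime_pow Nat.prime_two).1
    (hk ▸ dvd_pow_self f (by omega) : f ∣ 2 ^ k)
  rw [← pow_mul] at hk
  have hkj : k = j * m := Nat.pow_right_injective le_rfl hk
  have hj : 0 < j := by
    rcases j.eq_zero_or_pos with rfl | h
    · simp at hf
    · exact h
  obtain ⟨n, hn⟩ : ∃ n, j * m = j + n := ⟨j * m - j, by
    have : j ≤ j * m := Nat.le_mul_of_pos_right j (by omega)
    omega⟩
  have hjn : j ≤ n := by
    have : j * 2 ≤ j * m := Nat.mul_le_mul_left j hm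
    omega
  rw [hkj, ← pow_mul, hn, pow_add]
  have h1 : n + n ≤ 2 ^ n := by
    obtain ⟨i, rfl⟩ : ∃ i, n = i + 1 := ⟨n - 1, by omega⟩
    have : i < 2 ^ i := Nat.lt_two_pow_self
    rw [pow_succ]; omega
  have h2 : (j + n) * (2 ^ j - 1) ≤ 2 ^ n * (2 ^ j - 1) := Nat.mul_le_mul_right _ (by omega)
  have h3 : 2 ^ n * (2 ^ j - 1) + 2 ^ n = 2 ^ j * 2 ^ n := by
    rw [← Nat.mul_succ, Nat.succ_eq_add_one, Nat.sub_add_cancel Nat.one_le_two_pow, mul_comm]
  have h4 : 2 ≤ 2 ^ n := by omega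
  omega

variable {G : Type v} [Group G] [Finite G] {E : Type u} [AddCommGroup E] [Finite E]
  [DistribMulAction G E]

/-- A torus in an odd transitive group consists of scalars over the field of the group. -/
theorem Torus.exists_scalar {K : Type u} [Field K] [Finite K] (φ : E ≃+ K) {O A : Subgroup G}
    (hA : Torus A E) (hAO : A ≤ O)
    (hsemi : ∀ o ∈ O, ∃ (s : Kˣ) (σ : K ≃+* K), ∀ x : E, φ (o • x) = s * σ (φ x)) :
    ∀ a ∈ A, ∃ s : Kˣ, ∀ x : E, φ (a • x) = s * φ x := by
  classical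
  haveI := hA.nontrivial
  have h2K : (2 : K) = 0 := by
    have h := congrArg φ (hA.two (φ.symm 1))
    rw [map_add, φ.apply_symm_apply, map_zero, one_add_one_eq_two] at h
    exact h
  haveI : Fact (Nat.Prime 2) := ⟨Nat.prime_two⟩
  haveI : CharP K 2 := ringChar.of_eq (CharP.ringChar_of_prime_eq_zero Nat.prime_two (by
    exact_mod_cast h2K))
  obtain ⟨k, hk, hk'⟩ := Coprime.HalfTrans.card_ringAut_le K 2
  set x₁ := φ.symm 1 with hx₁
  have hx₁0 : x₁ ≠ 0 := by
    intro h
    have := congrArg φ h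
    rw [φ.apply_symm_apply, map_zero] at this
    exact one_ne_zero this
  have hex : ∀ t : Kˣ, ∃ a ∈ A, ∃ σ : K ≃+* K, ∀ x : E, φ (a • x) = t * σ (φ x) := by
    intro t
    obtain ⟨a, ha, hat⟩ := hA.trans x₁ (φ.symm (t : K)) hx₁0 fun h => t.ne_zero (by
      simpa using congrArg φ h)
    obtain ⟨s, σ, hs⟩ := hsemi a (hAO ha)
    refine ⟨a, ha, σ, fun x => ?_⟩
    have h := hs x₁
    rw [hat, φ.apply_symm_apply, φ.apply_symm_apply, map_one, mul_one] at h
    rw [hs x, h]
  choose al hal σl hσl using hex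
  intro a₀ ha₀
  obtain ⟨s₀, τ, hτ⟩ := hsemi a₀ (hAO ha₀)
  refine ⟨s₀, fun x => ?_⟩
  by_cases hτ1 : τ = 1
  · rw [hτ x, hτ1]; rfl
  exfalso
  set F := (τ : K →+* K).eqLocusField (RingHom.id K) with hF
  have hmem : ∀ y : K, y ∈ F ↔ τ y = y := fun y => Iff.rfl
  have hfib : ∀ t t' : Kˣ, σl t = σl t' → ((t' : K) * (t : K)⁻¹) ∈ F := by
    intro t t' h
    have hlin : ∀ x : E, φ (al t' • (al t)⁻¹ • x) = (t' : K) * (t : K)⁻¹ * φ x := fun x => by
      have h1 := hσl t ((al t)⁻¹ • x)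
      rw [smul_inv_smul] at h1
      rw [hσl, ← h, h1, mul_assoc, inv_mul_cancel_left₀ t.ne_zero]
    have hc := hA.comm a₀ ha₀ (al t' * (al t)⁻¹) (mul_mem (hal t') (inv_mem (hal t))) x₁
    apply_fun φ at hc
    simp only [mul_smul] at hc
    rw [hτ, hlin, hlin, hτ, map_mul, φ.apply_symm_apply, map_one, mul_one, mul_one,
      mul_comm] at hc
    exact (hmem _).mpr (mul_right_cancel₀ s₀.ne_zero hc)
  -- count the scalars
  haveI : Finite (K ≃+* K) := Finite.of_injective (fun f => (f : K → K)) DFunLike.coe_injective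
  let sec : (K ≃+* K) → Kˣ := fun σ => if h : ∃ t, σl t = σ then h.choose else 1
  have hsec : ∀ t, σl (sec (σl t)) = σl t := fun t => by
    have h : ∃ t', σl t' = σl t := ⟨t, rfl⟩
    simp only [sec, dif_pos h]
    exact h.choose_spec
  let g : Kˣ → (K ≃+* K) × Fˣ := fun t =>
    (σl t, Units.mk0 ⟨_, hfib _ _ (hsec t)⟩ fun h => mul_ne_zero t.ne_zero
      (inv_ne_zero (sec (σl t)).ne_zero) (congrArg Subtype.val h))
  have hg : Function.Injective g := by
    intro t t' h
    have h1 : σl t = σl t' := congrArg Prod.fst h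
    have h2 := congrArg (fun p : (K ≃+* K) × Fˣ => ((p.2 : F) : K)) h
    simp only [g, Units.val_mk0] at h2
    rw [h1] at h2
    exact Units.ext (mul_right_cancel₀ (inv_ne_zero (sec (σl t')).ne_zero) h2)
  have hle := Nat.card_le_card_of_injective g hg
  rw [Nat.card_prod, Nat.card_units, Nat.card_units] at hle
  have hm : 2 ≤ Module.finrank F K := by
    by_contra hlt
    refine hτ1 (RingEquiv.ext fun y => (hmem y).mp ?_)
    have h1 : Module.finrank F K = 1 := by
      have := Module.finrank_pos (R := F) (M := K)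
      omega
    have htop : F = ⊤ := by
      refine SetLike.ext fun z => ⟨fun _ => Subfield.mem_top _, fun _ => ?_⟩
      obtain ⟨c, hc⟩ := exists_smul_eq_of_finrank_eq_one h1 (one_ne_zero : (1 : K) ≠ 0) z
      rw [← hc]
      show (c : K) * 1 ∈ F
      rw [mul_one]; exact c.2
    rw [htop]; exact Subfield.mem_top _
  have hpow : Nat.card K = Nat.card F ^ Module.finrank F K := Module.natCard_eq_pow_finrank
  have := semilinear_bound (f := Nat.card F) Finite.one_lt_card hm (hk ▸ hpow)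
  rw [← hpow] at this
  have h5 : Nat.card (K ≃+* K) * (Nat.card F - 1) ≤ k * (Nat.card F - 1) :=
    Nat.mul_le_mul_right _ hk'
  omega

/-- A group normalising an odd transitive group normalises the image of a torus inside it. -/
theorem Torus.normImage_of_odd {O A : Subgroup G} (hA : Torus A E) (hAO : A ≤ O)
    (hodd : Odd (Nat.card O)) {g : G} (hg : ∀ o ∈ O, g * o * g⁻¹ ∈ O) : NormImage A E g := by
  classical
  haveI := hA.nontrivial
  haveI : Finite (AddMonoid.End E) :=
    Finite.of_injective (fun f => (f : E → E)) DFunLike.coe_injective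
  let τ : G →* (AddMonoid.End E)ˣ := (DistribMulAction.toAddMonoidEnd G E).toHomUnits
  set D : Subgroup (AddMonoid.End E)ˣ := O.map τ with hD
  haveI : FaithfulSMul D E := ⟨fun {a b} h =>
    Subtype.ext (Units.ext (DFunLike.ext _ _ h))⟩
  have hDodd : Odd (Nat.card D) := hodd.of_dvd_nat (card_map_dvd O τ)
  haveI : Group.IsSolvable D := Cfsg.Agent.S0205.result hDodd
  obtain ⟨K, fK, finK, φ, hsemi, -⟩ := Coprime.HalfTrans.exists_semilinear (D := D) (E := E) hDodd
    Nat.prime_two (fun e => (two_nsmul e).trans (hA.two e)) fun a b ha hb => by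
      obtain ⟨c, hc, hab⟩ := hA.trans a b ha hb
      exact ⟨⟨τ c, mem_map_of_mem _ (hAO hc)⟩, Or.inl hab⟩
  have hsemi' : ∀ o ∈ O, ∃ (s : Kˣ) (σ : K ≃+* K), ∀ x : E, φ (o • x) = s * σ (φ x) :=
    fun o ho => hsemi ⟨τ o, mem_map_of_mem _ ho⟩
  set A' := A.map (MulAut.conj g).toMonoidHom with hA'def
  have hA' : Torus A' E := by
    refine ⟨hA.two, hA.four_le, ?_, fun x y hx hy => ?_⟩
    · rintro _ ⟨a, ha, rfl⟩ _ ⟨b, hb, rfl⟩ e
      simp only [MulEquiv.coe_toMonoidHom, MulAut.conj_apply, mul_smul, inv_smul_smul]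
      rw [hA.comm a ha b hb]
    · obtain ⟨a, ha, h⟩ := hA.trans (g⁻¹ • x) (g⁻¹ • y) ((smul_ne_zero_iff_ne _).mpr hx)
        ((smul_ne_zero_iff_ne _).mpr hy)
      exact ⟨_, mem_map_of_mem _ ha, by
        simp only [MulEquiv.coe_toMonoidHom, MulAut.conj_apply, mul_smul, h, smul_inv_smul]⟩
  have hA'O : A' ≤ O := by
    rintro _ ⟨a, ha, rfl⟩
    exact hg a (hAO ha)
  intro a ha
  obtain ⟨s, hs⟩ := hA'.exists_scalar φ hA'O hsemi' _ (mem_map_of_mem _ ha)
  obtain ⟨c, hc⟩ := exists_ne (0 : E)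
  set w := ((MulAut.conj g).toMonoidHom a) • c with hw
  obtain ⟨b, hb, hbw⟩ := hA.trans c w hc ((smul_ne_zero_iff_ne _).mpr hc)
  obtain ⟨t, ht⟩ := hA.exists_scalar φ hAO hsemi' b hb
  refine ⟨b, hb, fun e => φ.injective ?_⟩
  have hst : (t : K) = s := mul_right_cancel₀ (fun h => hc (φ.injective (h.trans (map_zero φ).symm)))
    (by rw [← ht, ← hs, hbw])
  rw [ht, hst, ← hs e]
  simp only [MulEquiv.coe_toMonoidHom, MulAut.conj_apply, mul_smul]

end Cfsg.Agent.H26.Asch
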