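import Cfsg.Agent.H26.Asch.TransElementary
import Cfsg.Agent.H3.Asch.ShapeTwoMax

/-!
Case II: a line of shape two gives the data `TransData` of its translations.
-/

set_option autoImplicit false
set_option linter.style.haveILetI false
set_option linter.unusedSectionVars false

namespace Cfsg.Agent.H3.Asch

open Subgroup MulAction
open Cfsg.Agent.H14.Asch
open Cfsg.Agent.H39
open Cfsg.Agent.H30.Asch
open Cfsg.Agent.H26.Asch (TransData shift)
open scoped Classical

universe u v

variable {G : Type u} [Group G] {Ω : Type v} [MulAction G Ω] {D : Set G}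

/-- A chosen scalar of an element of the kernel. -/
noncomputable def scalarOf (Ω : Type v) [MulAction G Ω] (u : G) (E A : Subgroup G) (k : G) : G :=
  if h : ∃ α ∈ A, IsScalar Ω u k E α then h.choose else 1

variable [Finite G] [Finite Ω]

namespace ShapeTwo

variable {u v : G} {x y : Ω} {E Q A : Subgroup G} (S : ShapeTwo D u v x y E Q A) (hc : NPCtx G Ω D)
include S hc

theorem scalarOf_spec {k : G} (hk : k ∈ lineKer Ω u) (hk1 : k ≠ 1) :
    scalarOf Ω u E A k ∈ A ∧ IsScalar Ω u k E (scalarOf Ω u E A k) := by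
  have h := S.exists_scalar_ker hc hk hk1
  rw [scalarOf, dif_pos h]
  exact h.choose_spec

theorem transData : TransData u E Q A (lineKer Ω u) (scalarOf Ω u E A) where
  E_sq e he := S.E_sq hc he
  E_le := S.line.E_le
  Q_central := S.line.central
  sq_mem := S.line.sq_mem
  comm_mem := S.line.comm_mem
  inj := S.inj
  cent := S.cent
  Q_u q hq := line2_commute S.line hq
  card_Q := S.card_Q hc
  eight_le := S.eight_le hc
  R_sq k hk := S.ker_mul_self hc hk
  u_mem := S.u_mem_ker hc
  four_le := S.four_le_ker hc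
  R_Q k hk q hq := S.ker_commute_Q hc hk hq
  R_A k hk g hg := S.ker_commute_A hc hk hg
  R_inf k hk hkQ := S.eq_one_of_mem_Q_ker hkQ hk
  A_cyclic := S.A_cyclic
  A_odd := (H29.Asch.line2_odd_card S.line hc.crit S.quad.hy.1 S.quad.ne.symm).of_dvd_nat
    (Subgroup.card_dvd_of_le S.A_le)
  A_E g hg e he := S.conj_A_E hc hg he
  A_trans := S.A_trans
  cent_u g hgE hgu := by
    obtain ⟨q, hq, k, hk, e⟩ := S.mem_cent hc hgE hgu
    exact ⟨q, hq, k, hk, e⟩
  sc_mem k hk hk1 := (S.scalarOf_spec hc hk hk1).1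
  conj_ker g hg k hk hk1 := by
    obtain ⟨hgE, a, ha, hga⟩ := id hg
    obtain ⟨h1, h2⟩ := S.scalarOf_spec hc hk hk1
    have hs : shift u g = a := by rw [shift, hga, ← mul_assoc, S.uu, one_mul]
    rw [hs]
    exact S.conj_ker hc hg ha hga hk hk1 h1 h2
  onto a ha := by
    obtain ⟨t, ht, htu⟩ := S.exists_move hc ha
    exact ⟨t, ht, by rw [shift, htu, ← mul_assoc, S.uu, one_mul]⟩
  stab g hgE k hk e he hgu l hl hl1 := by
    have hk1 : k ≠ 1 := fun e1 => S.not_mem_E_of_fix (S.u_mem_ker hc) S.u_ne (by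
      rw [e1, one_mul] at hgu
      have : u = e := by
        calc u = g⁻¹ * (g * u * g⁻¹) * g := by group
          _ = e := by rw [hgu, mul_assoc, ← (hgE e he).eq, inv_mul_cancel_left]
      rw [this]; exact he)
    obtain ⟨hd, hds⟩ := S.scalarOf_spec hc hk hk1
    obtain ⟨hγ, hγs⟩ := S.scalarOf_spec hc hl hl1
    obtain ⟨l', hl', hl'1, e', he', hgl, hs⟩ := S.conj_ker_stab hc hgE hk he hgu hd hds hl hl1 hγ hγs
    refine ⟨l', hl', hl'1, by rw [hgl, ← mul_assoc, S.ker_mul_self hc hl', one_mul]; exact he', ?_⟩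
    intro a ha
    obtain ⟨hη, hηs⟩ := S.scalarOf_spec hc hl' hl'1
    rw [S.scalar_eq hc hη (mul_mem hγ hd) hηs hs ha, (S.A_comm hγ hd).eq]
    group
  trans_two := S.isPGroup_moveGroup hc
  card_trans := S.card_moveGroup hc

end ShapeTwo

end Cfsg.Agent.H3.Asch
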