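import Cfsg.Agent.H3.Asch.ShapeTwoBase

/-!
No element proper, shape two, Case II (notes/helper26_asch_shape2.md): the setting-free data of the
group `T` of translations of a line over `M = Q R`.
-/

set_option autoImplicit false

namespace Cfsg.Agent.H26.Asch

open Subgroup
open Cfsg.Agent.H3.Asch (moveGroup)
open scoped commutatorElement

universe u

variable {G : Type u} [Group G]

/-- The displacement of `u` under `g`. -/
def shift (u g : G) : G := u * (g * u * g⁻¹)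

/-- The translations of a line of shape two: `Q` with injective squaring, the kernel `R` of exponent
two with its scalars `sc` in the torus `A`. -/
structure TransData (u : G) (E Q A R : Subgroup G) (sc : G → G) : Prop where
  E_sq : ∀ e ∈ E, e * e = 1
  E_le : E ≤ Q
  Q_central : ∀ e ∈ E, ∀ q ∈ Q, Commute e q
  sq_mem : ∀ q ∈ Q, q * q ∈ E
  comm_mem : ∀ q ∈ Q, ∀ k ∈ Q, ⁅q, k⁆ ∈ E
  inj : ∀ g ∈ Q, ∀ k ∈ Q, g * g = k * k → g * k⁻¹ ∈ E
  cent : ∀ g ∈ Q, (∀ k ∈ Q, Commute g k) → g ∈ E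
  Q_u : ∀ q ∈ Q, Commute q u
  card_Q : Nat.card Q = Nat.card E ^ 2
  eight_le : 8 ≤ Nat.card E
  R_sq : ∀ k ∈ R, k * k = 1
  u_mem : u ∈ R
  four_le : 4 ≤ Nat.card R
  R_Q : ∀ k ∈ R, ∀ q ∈ Q, Commute q k
  R_A : ∀ k ∈ R, ∀ g ∈ A, Commute g k
  R_inf : ∀ k ∈ R, k ∈ Q → k = 1
  A_cyclic : IsCyclic A
  A_odd : Odd (Nat.card A)
  A_E : ∀ g ∈ A, ∀ e ∈ E, g * e * g⁻¹ ∈ E
  A_trans : ∀ a ∈ E, ∀ b ∈ E, a ≠ 1 → b ≠ 1 → ∃ k ∈ A, k * a * k⁻¹ = b
  cent_u : ∀ g : G, (∀ e ∈ E, Commute g e) → Commute g u → ∃ q ∈ Q, ∃ k ∈ R, g = q * k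
  sc_mem : ∀ k ∈ R, k ≠ 1 → sc k ∈ A
  conj_ker : ∀ g ∈ moveGroup u E, ∀ k ∈ R, k ≠ 1 →
    g * k * g⁻¹ = k * (sc k * shift u g * (sc k)⁻¹)
  onto : ∀ a ∈ E, ∃ g ∈ moveGroup u E, shift u g = a
  stab : ∀ g : G, (∀ e ∈ E, Commute g e) → ∀ k ∈ R, ∀ e ∈ E, g * u * g⁻¹ = k * e →
    ∀ l ∈ R, l ≠ 1 → ∃ l' ∈ R, l' ≠ 1 ∧ l' * (g * l * g⁻¹) ∈ E ∧
      ∀ a ∈ E, sc l' * a * (sc l')⁻¹ = sc k * (sc l * a * (sc l)⁻¹) * (sc k)⁻¹
  trans_two : IsPGroup 2 (moveGroup u E)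
  card_trans : Nat.card (moveGroup u E) = Nat.card E * Nat.card Q * Nat.card R

namespace TransData

variable {u : G} {E Q A R : Subgroup G} {sc : G → G} (d : TransData u E Q A R sc)
include d

theorem u_sq : u * u = 1 := d.R_sq u d.u_mem

theorem u_inv : u⁻¹ = u := inv_eq_of_mul_eq_one_right d.u_sq

theorem E_inv {e : G} (he : e ∈ E) : e⁻¹ = e := inv_eq_of_mul_eq_one_right (d.E_sq e he)

theorem R_inv {k : G} (hk : k ∈ R) : k⁻¹ = k := inv_eq_of_mul_eq_one_right (d.R_sq k hk)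

theorem R_comm {k l : G} (hk : k ∈ R) (hl : l ∈ R) : Commute k l := by
  show k * l = l * k
  calc k * l = (k * l)⁻¹ := (d.R_inv (R.mul_mem hk hl)).symm
    _ = l * k := by rw [mul_inv_rev, d.R_inv hk, d.R_inv hl]

theorem E_comm {e f : G} (he : e ∈ E) (hf : f ∈ E) : Commute e f := d.Q_central e he f (d.E_le hf)

theorem u_ne_one : u ≠ 1 := by
  intro hu
  obtain ⟨a, ha, ha1⟩ : ∃ a ∈ E, a ≠ 1 := by
    by_contra hcon
    push Not at hcon
    have h8 := d.eight_le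
    rw [(Subgroup.eq_bot_iff_forall E).mpr hcon, card_bot] at h8
    omega
  obtain ⟨g, -, hg⟩ := d.onto a ha
  simp [shift, hu] at hg
  exact ha1 hg.symm

/-- A member of the translations. -/
theorem mem_iff {g : G} : g ∈ moveGroup u E ↔ (∀ e ∈ E, Commute g e) ∧ shift u g ∈ E := by
  constructor
  · rintro ⟨hg, a, ha, e⟩
    exact ⟨hg, by rw [shift, e, ← mul_assoc, d.u_sq, one_mul]; exact ha⟩
  · rintro ⟨hg, h⟩
    exact ⟨hg, _, h, by rw [shift, ← mul_assoc, d.u_sq, one_mul]⟩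

theorem commute_E {g : G} (hg : g ∈ moveGroup u E) {e : G} (he : e ∈ E) : Commute g e := hg.1 e he

theorem conj_u {g : G} : g * u * g⁻¹ = u * shift u g := by
  rw [shift, ← mul_assoc, d.u_sq, one_mul]

theorem shift_mem {g : G} (hg : g ∈ moveGroup u E) : shift u g ∈ E := (d.mem_iff.mp hg).2

theorem shift_mul {g h : G} (hg : g ∈ moveGroup u E) (hh : h ∈ moveGroup u E) :
    shift u (g * h) = shift u g * shift u h := by
  have hc := d.commute_E hg (d.shift_mem hh)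
  calc shift u (g * h) = u * (g * (h * u * h⁻¹) * g⁻¹) := by rw [shift]; group
    _ = u * (g * u * g⁻¹) * (g * shift u h * g⁻¹) := by rw [d.conj_u]; group
    _ = _ := by rw [hc.eq, mul_inv_cancel_right]; rfl

theorem shift_eq_one_iff {g : G} : shift u g = 1 ↔ Commute g u := by
  constructor
  · intro h
    have h1 := d.conj_u (g := g)
    rw [h, mul_one] at h1
    exact mul_inv_eq_iff_eq_mul.mp h1
  · intro h
    rw [shift, mul_inv_eq_iff_eq_mul.mpr h.eq, d.u_sq]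

theorem shift_one : shift u (1 : G) = 1 := d.shift_eq_one_iff.mpr (Commute.one_left u)

theorem shift_inv {g : G} (hg : g ∈ moveGroup u E) : shift u g⁻¹ = shift u g := by
  have h1 := d.shift_mul (inv_mem hg) hg
  rw [inv_mul_cancel, d.shift_one] at h1
  rw [eq_inv_of_mul_eq_one_left h1.symm, d.E_inv (d.shift_mem hg)]

theorem Q_le : Q ≤ moveGroup u E := fun q hq =>
  d.mem_iff.mpr ⟨fun e he => (d.Q_central e he q hq).symm,
    by rw [d.shift_eq_one_iff.mpr (d.Q_u q hq)]; exact one_mem E⟩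

theorem R_le : R ≤ moveGroup u E := fun k hk =>
  d.mem_iff.mpr ⟨fun e he => (d.R_Q k hk e (d.E_le he)).symm,
    by rw [d.shift_eq_one_iff.mpr (d.R_comm hk d.u_mem)]; exact one_mem E⟩

theorem E_le_trans : E ≤ moveGroup u E := d.E_le.trans d.Q_le

/-- The kernel of the displacement. -/
theorem mem_M {g : G} (hg : g ∈ moveGroup u E) (h : shift u g = 1) : ∃ q ∈ Q, ∃ k ∈ R, g = q * k :=
  d.cent_u g hg.1 (d.shift_eq_one_iff.mp h)

theorem sq_QR {q k : G} (hq : q ∈ Q) (hk : k ∈ R) : q * k * (q * k) = q * q := by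
  rw [mul_assoc q k, ← mul_assoc k q k, ← (d.R_Q k hk q hq).eq, mul_assoc q k k, d.R_sq k hk,
    mul_one]

theorem QR_unique {q q' k k' : G} (hq : q ∈ Q) (hq' : q' ∈ Q) (hk : k ∈ R) (hk' : k' ∈ R)
    (e : q * k = q' * k') : q = q' ∧ k = k' := by
  have h1 : q'⁻¹ * q = k' * k⁻¹ := by
    rw [eq_mul_inv_iff_mul_eq, mul_assoc, e, inv_mul_cancel_left]
  have h2 : q'⁻¹ * q = 1 := h1.trans (d.R_inf _ (R.mul_mem hk' (R.inv_mem hk))
    (h1 ▸ Q.mul_mem (Q.inv_mem hq') hq))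
  obtain rfl := (inv_mul_eq_one.mp h2)
  exact ⟨rfl, mul_left_cancel e⟩

theorem E_mem_M {e k : G} (he : e ∈ E) (hk : k ∈ R) (h : e * k ∈ E) : k = 1 :=
  d.R_inf k hk (d.E_le (by simpa using E.mul_mem (E.inv_mem he) h))

theorem sc_conj_mem {k : G} (hk : k ∈ R) (hk1 : k ≠ 1) {e : G} (he : e ∈ E) :
    sc k * e * (sc k)⁻¹ ∈ E := d.A_E _ (d.sc_mem k hk hk1) e he

/-- A kernel element times an involution of `T` outside `Q R` is no involution. -/
theorem eq_one_of_mul_invol {z k e : G} (hz : z ∈ moveGroup u E) (hz2 : z * z = 1)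
    (hzs : shift u z ≠ 1) (hk : k ∈ R) (he : e ∈ E) (h : e * k * z * (e * k * z) = 1) : k = 1 := by
  by_contra hk1
  have hzi : z⁻¹ = z := inv_eq_of_mul_eq_one_right hz2
  have hez := d.commute_E hz he
  have hek : Commute e k := d.R_Q k hk e (d.E_le he)
  have h0 : e * k * z * (e * k * z) = k * z * (k * z) := by
    calc e * k * z * (e * k * z) = e * (k * z * e) * (k * z) := by group
      _ = (e * e) * (k * z) * (k * z) := by
        rw [(hek.symm.mul_left hez).eq]; group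
      _ = _ := by rw [d.E_sq e he, one_mul]
  have h1 : k * (z * k * z⁻¹) = 1 := by
    rw [hzi, ← h, h0]; group
  rw [d.conj_ker z hz k hk hk1, ← mul_assoc, d.R_sq k hk, one_mul, mul_inv_eq_one,
    mul_eq_left] at h1
  exact hzs h1

end TransData

end Cfsg.Agent.H26.Asch
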