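import Cfsg.Agent.H26.Asch.TransData

/-!
Case II: with an involution translation the group `T` of translations is elementary abelian modulo
`E`.
-/

set_option autoImplicit false

namespace Cfsg.Agent.H26.Asch

open Subgroup
open Cfsg.Agent.H3.Asch (moveGroup)
open scoped commutatorElement

universe u

variable {G : Type u} [Group G]

/-- An involution translation exists. -/
def HasInvol (u : G) (E : Subgroup G) : Prop :=
  ∃ z ∈ moveGroup u E, z * z = 1 ∧ shift u z ≠ 1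

namespace TransData

variable {u : G} {E Q A R : Subgroup G} {sc : G → G} (d : TransData u E Q A R sc)
include d

/-- The torus normalises the translations. -/
theorem conj_A {g t : G} (hg : g ∈ A) (ht : t ∈ moveGroup u E) :
    g * t * g⁻¹ ∈ moveGroup u E ∧ shift u (g * t * g⁻¹) = g * shift u t * g⁻¹ := by
  have hgu : Commute g u := d.R_A u d.u_mem g hg
  have hs : shift u (g * t * g⁻¹) = g * shift u t * g⁻¹ := by
    have h1 : g⁻¹ * u * g = u := by rw [mul_assoc, ← hgu.eq, inv_mul_cancel_left]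
    calc shift u (g * t * g⁻¹) = u * (g * (t * (g⁻¹ * u * g) * t⁻¹) * g⁻¹) := by rw [shift]; group
      _ = u * g * (t * u * t⁻¹) * g⁻¹ := by rw [h1]; group
      _ = g * u * (t * u * t⁻¹) * g⁻¹ := by rw [hgu.eq]
      _ = _ := by rw [shift]; group
  refine ⟨d.mem_iff.mpr ⟨fun e he => ?_, hs ▸ d.A_E g hg _ (d.shift_mem ht)⟩, hs⟩
  have he' : g⁻¹ * e * g ∈ E := by simpa using d.A_E g⁻¹ (A.inv_mem hg) e he
  have := H14.Asch.commute_conj (d.commute_E ht he') g
  rwa [show g * (g⁻¹ * e * g) * g⁻¹ = e by group] at this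

theorem exists_invol (hz : HasInvol u E) {a : G} (ha : a ∈ E) (ha1 : a ≠ 1) :
    ∃ z ∈ moveGroup u E, z * z = 1 ∧ shift u z = a := by
  obtain ⟨z, hzT, hz2, hzs⟩ := hz
  obtain ⟨g, hg, hga⟩ := d.A_trans _ (d.shift_mem hzT) a ha hzs ha1
  obtain ⟨h1, h2⟩ := d.conj_A hg hzT
  exact ⟨_, h1, by rw [show g * z * g⁻¹ * (g * z * g⁻¹) = g * (z * z) * g⁻¹ by group, hz2]; group,
    h2.trans hga⟩

/-- Conjugation of `Q` by an involution translation. -/
theorem invol_conj_Q {z : G} (hz : z ∈ moveGroup u E) (hz2 : z * z = 1) (hzs : shift u z ≠ 1)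
    {q : G} (hq : q ∈ Q) : ⁅z, q⁆ ∈ E := by
  have hzi : z⁻¹ = z := inv_eq_of_mul_eq_one_right hz2
  have hqE : ∀ e ∈ E, Commute q e := fun e he => (d.Q_central e he q hq).symm
  -- `z q z` centralises `E` and `u`
  have hcE : ∀ e ∈ E, Commute (z * q * z⁻¹) e := fun e he => by
    have := H14.Asch.commute_conj (hqE e he) z
    rwa [(d.commute_E hz he).eq, mul_inv_cancel_right] at this
  have hcu : Commute (z * q * z⁻¹) u := by
    have h1 := H14.Asch.commute_conj (((d.Q_u q hq).mul_right (hqE _ (d.shift_mem hz)))) z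
    have h2 : z * (u * shift u z) * z⁻¹ = u := by
      calc z * (u * shift u z) * z⁻¹ = (z * u * z⁻¹) * (z * shift u z * z⁻¹) := by group
        _ = u * shift u z * shift u z := by
          rw [(d.commute_E hz (d.shift_mem hz)).eq, mul_inv_cancel_right, d.conj_u]
        _ = u := by rw [mul_assoc, d.E_sq _ (d.shift_mem hz), mul_one]
    rwa [h2] at h1
  obtain ⟨q₁, hq₁, k, hk, hqk⟩ := d.cent_u _ hcE hcu
  have hsq : q₁ * q₁ = q * q := by
    rw [← d.sq_QR hq₁ hk, ← hqk,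
      show z * q * z⁻¹ * (z * q * z⁻¹) = z * (q * q) * z⁻¹ by group,
      (d.commute_E hz (d.sq_mem q hq)).eq, mul_inv_cancel_right]
  have he : q₁ * q⁻¹ ∈ E := d.inj q₁ hq₁ q hq hsq
  set e := q₁ * q⁻¹ with hedef
  have hq₁e : q₁ = q * e := by
    rw [← (d.Q_central e he q hq).eq, hedef, inv_mul_cancel_right]
  have hw : q⁻¹ * z * q = e * k * z := by
    calc q⁻¹ * z * q = q⁻¹ * (z * q * z⁻¹) * z := by group
      _ = q⁻¹ * (q * e * k) * z := by rw [hqk, hq₁e]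
      _ = _ := by group
  have hk1 : k = 1 := d.eq_one_of_mul_invol hz hz2 hzs hk he (by
    rw [← hw, show q⁻¹ * z * q * (q⁻¹ * z * q) = q⁻¹ * (z * z) * q by group, hz2]; group)
  rw [commutatorElement_def, hqk, hk1, mul_one]
  exact he

theorem commutator_mul_mem {t s s' : G} (ht : t ∈ moveGroup u E) (hs : s ∈ moveGroup u E)
    (h1 : ⁅t, s⁆ ∈ E) (h2 : ⁅t, s'⁆ ∈ E) : ⁅t, s * s'⁆ ∈ E := by
  have e : ⁅t, s * s'⁆ = ⁅t, s⁆ * (s * ⁅t, s'⁆ * s⁻¹) := by
    simp only [commutatorElement_def]; group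
  rw [e, (d.commute_E hs h2).eq, mul_inv_cancel_right]
  exact E.mul_mem h1 h2

theorem commutator_inv_mem {t s : G} (h : ⁅s, t⁆ ∈ E) : ⁅t, s⁆ ∈ E := by
  rw [← commutatorElement_inv]; exact E.inv_mem h

theorem commutator_R {t k : G} (ht : t ∈ moveGroup u E) (hk : k ∈ R) : ⁅t, k⁆ ∈ E := by
  by_cases hk1 : k = 1
  · rw [hk1, commutatorElement_one_right]; exact E.one_mem
  rw [commutatorElement_def, d.conj_ker t ht k hk hk1, d.R_inv hk,
    show k * (sc k * shift u t * (sc k)⁻¹) * k = k * ((sc k * shift u t * (sc k)⁻¹) * k) by group,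
    (d.R_Q k hk _ (d.E_le (d.sc_conj_mem hk hk1 (d.shift_mem ht)))).eq, ← mul_assoc, d.R_sq k hk,
    one_mul]
  exact d.sc_conj_mem hk hk1 (d.shift_mem ht)

/-- Every element of `T` is an involution translation times an element of `Q R`. -/
theorem decomp (hz : HasInvol u E) {t : G} (ht : t ∈ moveGroup u E) :
    ∃ z q k, z ∈ moveGroup u E ∧ z * z = 1 ∧ (z = 1 ∨ shift u z ≠ 1) ∧ q ∈ Q ∧ k ∈ R ∧
      t = z * q * k := by
  by_cases hts : shift u t = 1
  · obtain ⟨q, hq, k, hk, rfl⟩ := d.mem_M ht hts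
    exact ⟨1, q, k, one_mem _, one_mul 1, Or.inl rfl, hq, hk, by rw [one_mul]⟩
  obtain ⟨z, hzT, hz2, hzs⟩ := d.exists_invol hz (d.shift_mem ht) hts
  obtain ⟨q, hq, k, hk, hqk⟩ := d.mem_M (mul_mem (inv_mem hzT) ht) (by
    rw [d.shift_mul (inv_mem hzT) ht, d.shift_inv hzT, hzs, d.E_sq _ (d.shift_mem ht)])
  exact ⟨z, q, k, hzT, hz2, Or.inr (hzs ▸ hts), hq, hk, by
    rw [mul_assoc, ← hqk, mul_inv_cancel_left]⟩

theorem commutator_Q (hz : HasInvol u E) {t q : G} (ht : t ∈ moveGroup u E) (hq : q ∈ Q) :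
    ⁅t, q⁆ ∈ E := by
  refine d.commutator_inv_mem ?_
  obtain ⟨z, q', k, hzT, hz2, hzs, hq', hk, rfl⟩ := d.decomp hz ht
  refine d.commutator_mul_mem (d.Q_le hq) (mul_mem hzT (d.Q_le hq'))
    (d.commutator_mul_mem (d.Q_le hq) hzT ?_ (d.comm_mem q hq q' hq')) (d.commutator_R (d.Q_le hq) hk)
  refine d.commutator_inv_mem ?_
  rcases hzs with rfl | hzs
  · rw [commutatorElement_one_left]; exact E.one_mem
  · exact d.invol_conj_Q hzT hz2 hzs hq

/-- Commutators with an element of `Q` form a homomorphism into `E`. -/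
theorem commutator_Q_hom (hz : HasInvol u E) {t s q : G} (ht : t ∈ moveGroup u E)
    (hs : s ∈ moveGroup u E) (hq : q ∈ Q) : ⁅t * s, q⁆ = ⁅t, q⁆ * ⁅s, q⁆ := by
  have h1 := d.commutator_Q hz hs hq
  have e : ⁅t * s, q⁆ = t * ⁅s, q⁆ * t⁻¹ * ⁅t, q⁆ := by simp only [commutatorElement_def]; group
  rw [e, (d.commute_E ht h1).eq, mul_inv_cancel_right,
    (d.E_comm h1 (d.commutator_Q hz ht hq)).eq]

theorem invol_commutator (hz : HasInvol u E) {z z' : G} (hzT : z ∈ moveGroup u E) (hz2 : z * z = 1)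
    (hzs : shift u z ≠ 1) (hz'T : z' ∈ moveGroup u E) (hz'2 : z' * z' = 1) : ⁅z', z⁆ ∈ E := by
  have hcT : ⁅z', z⁆ ∈ moveGroup u E := by
    rw [commutatorElement_def]
    exact mul_mem (mul_mem (mul_mem hz'T hzT) (inv_mem hz'T)) (inv_mem hzT)
  obtain ⟨q, hq, k, hk, hqk⟩ := d.mem_M hcT (by
    rw [commutatorElement_def, d.shift_mul (mul_mem (mul_mem hz'T hzT) (inv_mem hz'T)) (inv_mem hzT),
      d.shift_mul (mul_mem hz'T hzT) (inv_mem hz'T), d.shift_mul hz'T hzT, d.shift_inv hz'T,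
      d.shift_inv hzT, mul_assoc (shift u z'), (d.E_comm (d.shift_mem hzT) (d.shift_mem hz'T)).eq,
      ← mul_assoc, d.E_sq _ (d.shift_mem hz'T), one_mul, d.E_sq _ (d.shift_mem hzT)])
  have hqE : q ∈ E := d.cent q hq fun q₀ hq₀ => by
    have hz'i : z'⁻¹ = z' := inv_eq_of_mul_eq_one_right hz'2
    have hzi : z⁻¹ = z := inv_eq_of_mul_eq_one_right hz2
    have h1 : ⁅⁅z', z⁆, q₀⁆ = 1 := by
      have h2 : ⁅z', z⁆ = z' * z * (z' * z) := by
        rw [commutatorElement_def, hz'i, hzi, ← mul_assoc]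
      rw [h2, d.commutator_Q_hom hz (mul_mem hz'T hzT) (mul_mem hz'T hzT) hq₀,
        d.E_sq _ (d.commutator_Q hz (mul_mem hz'T hzT) hq₀)]
    rw [hqk] at h1
    have h3 : ⁅q * k, q₀⁆ = ⁅q, q₀⁆ := by
      rw [commutatorElement_def, commutatorElement_def, mul_inv_rev]
      calc q * k * q₀ * (k⁻¹ * q⁻¹) * q₀⁻¹ = q * (k * q₀ * k⁻¹) * q⁻¹ * q₀⁻¹ := by group
        _ = _ := by rw [(d.R_Q k hk q₀ hq₀).symm.eq, mul_inv_cancel_right]
    rw [h3] at h1
    exact commutatorElement_eq_one_iff_commute.mp h1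
  have hk1 : k = 1 := d.eq_one_of_mul_invol hzT hz2 hzs hk hqE (by
    rw [← hqk, commutatorElement_def, show z' * z * z'⁻¹ * z⁻¹ * z * (z' * z * z'⁻¹ * z⁻¹ * z) =
      z' * (z * z) * z'⁻¹ by group, hz2]; group)
  rw [hqk, hk1, mul_one]
  exact hqE

/-- The commutators of `T` lie in `E`. -/
theorem commutator_mem (hz : HasInvol u E) {t s : G} (ht : t ∈ moveGroup u E)
    (hs : s ∈ moveGroup u E) : ⁅t, s⁆ ∈ E := by
  have hinvol : ∀ {z}, z ∈ moveGroup u E → z * z = 1 → shift u z ≠ 1 → ∀ {t}, t ∈ moveGroup u E →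
      ⁅t, z⁆ ∈ E := by
    intro z hzT hz2 hzs t ht
    obtain ⟨z', q, k, hz'T, hz'2, hz's, hq, hk, rfl⟩ := d.decomp hz ht
    refine d.commutator_inv_mem (d.commutator_mul_mem hzT (mul_mem hz'T (d.Q_le hq))
      (d.commutator_mul_mem hzT hz'T ?_ (d.commutator_Q hz hzT hq)) (d.commutator_R hzT hk))
    exact d.commutator_inv_mem (d.invol_commutator hz hzT hz2 hzs hz'T hz'2)
  obtain ⟨z, q, k, hzT, hz2, hzs, hq, hk, rfl⟩ := d.decomp hz hs
  refine d.commutator_mul_mem ht (mul_mem hzT (d.Q_le hq))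
    (d.commutator_mul_mem ht hzT ?_ (d.commutator_Q hz ht hq)) (d.commutator_R ht hk)
  rcases hzs with rfl | hzs
  · rw [commutatorElement_one_right]; exact E.one_mem
  · exact hinvol hzT hz2 hzs ht

theorem sq_mem_E (hz : HasInvol u E) {t : G} (ht : t ∈ moveGroup u E) : t * t ∈ E := by
  obtain ⟨z, q, k, hzT, hz2, -, hq, hk, rfl⟩ := d.decomp hz ht
  have hm : q * k ∈ moveGroup u E := mul_mem (d.Q_le hq) (d.R_le hk)
  have hc := d.commutator_mem hz hm hzT
  have e : z * q * k * (z * q * k) = z * ⁅q * k, z⁆ * z * (q * k * (q * k)) := by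
    simp only [commutatorElement_def]; group
  rw [e, d.sq_QR hq hk, (d.commute_E hzT hc).eq, mul_assoc ⁅q * k, z⁆, hz2, mul_one]
  exact E.mul_mem hc (d.sq_mem q hq)

end TransData

end Cfsg.Agent.H26.Asch
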